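import Cfsg.Agent.H14.CoreBase

/-! Tower FE (S1308, the full-edge half): definitions and job statements. Proofs: `blueprints/FE.md`. -/

set_option autoImplicit false

namespace H14.FE

open Cfsg Subgroup MulAction H14 H98 H1.Gold H31.S2 H14.GC
open scoped commutatorElement

universe u

section Defs

variable {G : Type u} [Group G]

/-- no involution -/
def NI (Y : Subgroup G) : Prop := ∀ d ∈ Y, ¬ Inv d

/-- abelian -/
def Ab (Y : Subgroup G) : Prop := ∀ a ∈ Y, ∀ b ∈ Y, a * b = b * a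

/-- exponent at most two -/
def El (Y : Subgroup G) : Prop := ∀ a ∈ Y, a * a = 1

/-- In every 2-subgroup of `B` the involutions are central. -/
def CnB (B : Subgroup G) : Prop :=
  ∀ U ≤ B, IsPGroup 2 U → ∀ x ∈ U, ∀ y ∈ U, x * x = 1 → x * y = y * x

/-! ### Vertices and cliques -/

/-- The vertices: the conjugates of `A`. -/
def Vx (A B : Subgroup G) : Prop := ∃ g : G, B = cj g A

/-- A tightly embedded subgroup whose adjacent conjugates normalise each other. -/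
structure MN (A : Subgroup G) : Prop where
  four : ∀ B, Vx A B → Four B
  ti : ∀ B B', Vx A B → Vx A B' → B ≠ B' → NI (B ⊓ B')
  mn : ∀ B B', Vx A B → Vx A B' → ∀ d ∈ B, Inv d → d ∈ nor B' → B ≤ nor B'
  ne : ∀ B, Vx A B → ∀ R, IsSyl 2 R B → ∃ a ∈ R, a * a ≠ 1 ∨ ∃ x ∈ B, ⁅x, a⁆ ∉ opp 2 B

/-- Vertices that meet a common 2-subgroup are adjacent. -/
structure MC (A : Subgroup G) : Prop extends MN A where
  f3 : ∀ B B', Vx A B → Vx A B' → ∀ d ∈ B, ∀ e ∈ B', Inv d → Inv e →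
    ∀ P : Subgroup G, IsPGroup 2 P → d ∈ P → e ∈ P → B ≤ nor B'

def Clq (A : Subgroup G) (C : Set (Subgroup G)) : Prop :=
  (∀ B ∈ C, Vx A B) ∧ ∀ B ∈ C, ∀ B' ∈ C, B ≤ nor B'

def MClq (A : Subgroup G) (C : Set (Subgroup G)) : Prop :=
  Clq A C ∧ ∀ B, Vx A B → (∀ B' ∈ C, B ≤ nor B') → B ∈ C

/-- The vertices that meet `P`. -/
def CP (A P : Subgroup G) : Set (Subgroup G) := {B | Vx A B ∧ P ⊓ B ≠ ⊥}

/-- The vertex involutions in `P`. -/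
def DS (A P : Subgroup G) : Set G := {d | d ∈ P ∧ Inv d ∧ ∃ B, Vx A B ∧ d ∈ B}

def VS (A P : Subgroup G) : Subgroup G := closure (DS A P)

def Cn (A : Subgroup G) : Prop := ∀ B, Vx A B → CnB B

/-- Cliques are direct. -/
def Dir (A : Subgroup G) : Prop := ∀ C, Clq A C → ∀ B ∈ C, NI (B ⊓ sSup (C \ {B}))

def NoE (A : Subgroup G) : Prop := ∀ B B', Vx A B → Vx A B' → B ≤ nor B' → B = B'

def F3a (A : Subgroup G) : Prop :=
  ∀ B B', Vx A B → Vx A B' → ∀ e ∈ B', Inv e → e ∉ nor B → ¬ B ≤ nor (cj e B)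

def MX (A : Subgroup G) : Prop :=
  ∀ C, MClq A C → ∀ B, Vx A B → ∀ d ∈ B, Inv d → (∀ B' ∈ C, cj d B' ∈ C) → B ∈ C

def CS (A : Subgroup G) : Prop :=
  (∀ S, IsSyl 2 S ⊤ → MClq A (CP A S) ∧ (∀ B ∈ CP A S, IsSyl 2 (S ⊓ B) B) ∧
    S ⊓ sSup (CP A S) ≤ ⨆ B ∈ CP A S, S ⊓ B) ∧
  ∀ C, Clq A C → ∃ S, IsSyl 2 S ⊤ ∧ C ⊆ CP A S

def Flag (A : Subgroup G) : Prop :=
  ∀ C C', MClq A C → MClq A C' → ∀ B ∈ C, ∀ B' ∈ C', ∃ g : G, cj g B = B' ∧ cj g '' C = C'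

def KEY (A : Subgroup G) : Prop :=
  ∀ B, Vx A B → ∀ r ∈ B, Inv r → ∀ y : G, y * y = 1 → y ∉ nor B →
    ∀ P : Subgroup G, IsPGroup 2 P → r ∈ P → y ∈ P →
    ∀ P' : Subgroup G, IsPGroup 2 P' → P' ≤ cen1 y ⊓ cen1 (r * (y * r * y)) → y ∉ VS A P'

def ST (A : Subgroup G) : Prop :=
  ∀ S', IsSyl 2 S' ⊤ → ∀ y ∈ VS A S', ∀ X : Subgroup G, IsPGroup 2 X → X ≤ cen1 y →
    ∃ S'', IsSyl 2 S'' ⊤ ∧ X ≤ S'' ∧ ∃ c ∈ cen1 y, ∀ d, d ∈ DS A S'' ↔ c⁻¹ * d * c ∈ DS A S'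

def UD1 (A : Subgroup G) : Prop :=
  ∀ P : Subgroup G, IsPGroup 2 P → ∀ y ∈ VS A P, ∀ g ∈ P, (∀ B ∈ CP A P, g ∈ nor B) → g * y = y * g →
    y ∈ VS A (VS A P ⊓ cen1 g)

def UD2 (A : Subgroup G) : Prop :=
  ∀ P : Subgroup G, IsPGroup 2 P → ∀ B B', Vx A B → Vx A B' → B ≠ B' → ∀ d ∈ P ⊓ B, ∀ e ∈ P ⊓ B',
    Inv d → Inv e → ∀ g ∈ P, g * (d * e) = d * e * g →
    (cj g B = B ∧ g * d = d * g ∧ g * e = e * g) ∨ cj g B = B'

def UD3 (A : Subgroup G) : Prop :=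
  ∀ P : Subgroup G, IsPGroup 2 P → ∀ y ∈ ⨆ B ∈ CP A P, P ⊓ B, y * y = 1 → y ∈ VS A P

def Mv (A : Subgroup G) : Prop :=
  ∀ S S', IsSyl 2 S ⊤ → IsSyl 2 S' ⊤ → ∀ y ∈ VS A S', y ∈ S → ∀ B ∈ CP A S, y ∈ nor B

def SC (A : Subgroup G) : Prop := ∀ S, IsSyl 2 S ⊤ → IsStronglyClosed (VS A S) S

/-- `H` contains a 2-subgroup with the property `β`. -/
def Big (β : Subgroup G → Prop) (H : Subgroup G) : Prop := ∃ U ≤ H, IsPGroup 2 U ∧ β U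

structure Bt (β : Subgroup G → Prop) : Prop where
  cj : ∀ U g, β U → β (cj g U)
  ne : ∀ U, β U → ¬ El U
  four : ∀ U, β U → Four U

/-! ### The standard subgroup -/

structure FS (K : Subgroup G) : Prop where
  std : IsStandardSubgroup K
  four : Four (cen K)
  full : ∀ g ∉ nor (cen K), Even (Nat.card ↥(cj g (cen K) ⊓ nor (cen K))) →
    ¬ 2 ∣ (cj g (cen K) ⊓ nor (cen K)).relIndex (cj g (cen K))

/-- A full edge. -/
structure Ed (Q : Subgroup G) (g : G) (R T : Subgroup G) : Prop where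
  te : IsTightlyEmbedded Q
  four : Four Q
  out : g ∉ nor Q
  sylR : IsSyl 2 R Q
  sylT : IsSyl 2 T (cj g Q)
  le : T ≤ nor Q
  comm : ∀ r ∈ R, ∀ t ∈ T, r * t = t * r
  iso : Nonempty (R ≃* T)

/-- `x` centralises `Q / O(Q)`. -/
def Zs (Q : Subgroup G) (x : G) : Prop := ∀ y ∈ Q, ⁅x, y⁆ ∈ opp 2 Q

def CaseB (Q R T : Subgroup G) : Prop := ∀ r ∈ R, Inv r → ∃ t ∈ T, Inv t ∧ Zs Q (r * t)

/-- Centralisers of involutions of `R` have normal 2-complements. -/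
def Nc (Q R : Subgroup G) : Prop := ∀ z ∈ R, Inv z →
  ∃ O ≤ cen1 z ⊓ Q, cen1 z ⊓ Q ≤ nor O ∧ Odd (Nat.card O) ∧ cen1 z ⊓ Q ≤ R ⊔ O

def Done (Q : Subgroup G) : Prop := ∃ z ∈ Q, orderOf z = 2 ∧ Group.IsSolvable ↥(cen1 z ⊓ Q) ∧
  ∀ S : Sylow 2 ↥(cen1 z ⊓ Q), IsElementaryAbelian 2 (S : Subgroup ↥(cen1 z ⊓ Q))

def MQ (Q : Subgroup G) : Prop :=
  ∀ g : G, ∀ d ∈ cj g Q, Inv d → d ∈ nor Q → pElementClosure 2 Q ≤ nor (cj g Q)

def NoQ (Q : Subgroup G) : Prop := ∀ g ∉ nor Q, NI (cj g Q ⊓ nor Q)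

end Defs

/-! ### Point geometries -/

section PG

variable {X : Type u} [Group X] {J : Type u} (Ω : Type u) [MulAction X J] [MulAction X Ω]

def Triv (g : X) : Prop := ∀ a : Ω, g • a = a

/-- The centraliser modulo the kernel of the action. -/
def Cm (u : X) : Subgroup X := (cen1 (toPermHom X Ω u)).comap (toPermHom X Ω)

variable {Ω} (pt : J → Ω) (B : J → Subgroup X) (β : Subgroup X → Prop)

structure PG : Prop where
  pt_smul : ∀ (g : X) j, pt (g • j) = g • pt j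
  B_smul : ∀ (g : X) j, B (g • j) = cj g (B j)
  trans : ∀ a b : Ω, ∃ g : X, g • a = b
  two : ∃ a b : Ω, a ≠ b
  surj : Function.Surjective pt
  ti : ∀ i j, i ≠ j → NI (B i ⊓ B j)
  mn : ∀ i j, pt i = pt j → B i ≤ stabilizer X j
  fix : ∀ j, ∀ d ∈ B j, Inv d → ∀ a : Ω, d • a = a → a = pt j
  bt : Bt β
  big : ∀ j, Big β (B j)
  home : ∀ (H : Subgroup X) (a : Ω), (toPermHom X Ω).ker ≤ H → (∀ j, pt j = a → Big β (H ⊓ B j)) →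
    H = ⊤ ∨ H ≤ stabilizer X a

/-- The group of a point. -/
def Yp (a : Ω) : Subgroup X := ⨆ (j) (_ : pt j = a), B j

def Wp (P : Subgroup X) (a : Ω) : Subgroup X := ⨆ (j) (_ : pt j = a), P ⊓ B j

def Lift : Prop := ∀ a : Ω, ∀ x ∈ Yp pt B a ⊔ (toPermHom X Ω).ker, (∃ k : ℕ, Triv Ω (x ^ 2 ^ k)) →
  ∃ P, IsSyl 2 P (stabilizer X a) ∧ ∃ w ∈ Wp pt B P a, toPermHom X Ω w = toPermHom X Ω x

def Da : Prop := ∀ (u : X) (a a' : Ω), a ≠ a' → u • a' = a' → Triv Ω (u * u) → Cm Ω u ≤ stabilizer X a →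
  ∃ Δ ≤ Cm Ω u ⊓ Yp pt B a', IsPGroup 2 Δ ∧ (∃ δ ∈ Δ, ¬ Triv Ω (δ * δ)) ∧
    ∀ v ∈ Δ, ¬ Triv Ω v → Δ ≤ Cm Ω v → Cm Ω v ≤ stabilizer X a'

def Dlt : Prop := ∀ (u : X) (a : Ω), u • a = a → ¬ Triv Ω u → Triv Ω (u * u) →
  (∀ j, pt j = a → Big β (Cm Ω u ⊓ B j)) → Good Ω u

def Od (X Ω : Type u) [Group X] [MulAction X Ω] : Prop := ∀ Y : Subgroup (Equiv.Perm Ω),
  Y ≤ (toPermHom X Ω).range → (toPermHom X Ω).range ≤ nor Y → Odd (Nat.card Y) → Y = ⊥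

def Full : Prop := ∀ j, ∀ U ≤ B j, IsPGroup 2 U → β U → IsSyl 2 U (B j)

def Pres : Prop := ∀ j, ∀ U ≤ B j, IsPGroup 2 U → Big β U → ∀ x ∈ U, Big β (cen1 x ⊓ U)

/-- The 2-central vertex involutions. -/
def ZZ : Set X := {z | ∃ j, z ∈ B j ∧ Inv z ∧ Big β (cen1 z ⊓ B j)}

def ZC (Ω : Type u) [MulAction X Ω] : Prop :=
  ∀ l ∈ closure (ZZ B β), ¬ Triv Ω l → Triv Ω (l * l) → ∃! b : Ω, l • b = b

def YG : Prop := ∀ a : Ω, ∀ u ∈ Yp pt B a ⊔ (toPermHom X Ω).ker, ¬ Triv Ω u → Triv Ω (u * u) → Good Ω u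

end PG

/-- A statement about all point geometries. -/
def AllPG (F : ∀ (X : Type u) [Group X] (J Ω : Type u) [MulAction X J] [MulAction X Ω]
    (_ : J → Ω) (_ : J → Subgroup X) (_ : Subgroup X → Prop), Prop) : Prop :=
  ∀ (X : Type u) [Group X] [Finite X] (J Ω : Type u) [Finite J] [Finite Ω] [MulAction X J] [MulAction X Ω]
    (pt : J → Ω) (B : J → Subgroup X) (β : Subgroup X → Prop), PG pt B β → F X J Ω pt B β

/-! ### Jobs: strongly embedded subgroups -/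

def JobSE1 : Prop := ∀ (X : Type u) [Group X] [Finite X] (M : Subgroup X), IsStronglyEmbedded M →
  oddCore X = ⊥ → ∃ P, IsSyl 2 P ⊤ ∧ P ≤ M ∧ M ≤ nor P ∧ (El P ∨ IsSuzukiTwoGroup P)

def JobSE2 : Prop := JobSE1.{u} → ∀ (X : Type u) [Group X] [Finite X] (M : Subgroup X),
  IsStronglyEmbedded M → Four (⊤ : Subgroup X) → CnB (⊤ : Subgroup X)

def NAB {X : Type u} [Group X] (M : Subgroup X) : Prop :=
  ∀ U ≤ M, IsPGroup 2 U → Ab U → M ≤ nor U → El U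

def JobNAB : Prop := ∀ (X : Type u) [Group X] [Finite X] (M : Subgroup X), IsStronglyEmbedded M →
  oddCore X = ⊥ → NAB M

/-- A commuting family of subgroups of `P`. -/
structure Fam {X : Type u} [Group X] (P : Subgroup X) (N : Set (Subgroup X)) : Prop where
  two : IsPGroup 2 P
  le : ∀ U ∈ N, U ≤ P
  ne : ∀ U ∈ N, ¬ El U
  comm : ∀ U ∈ N, ∀ U' ∈ N, U ≠ U' → ∀ a ∈ U, ∀ b ∈ U', a * b = b * a
  om : ∀ x ∈ P, x * x = 1 ↔ x ∈ cen P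
  sq : ∀ x ∈ P, x * x ∈ cen P
  zl : ∀ U ∈ N, ∀ x ∈ U, x ∈ cen U → x * x = 1

def JobCnt1 : Prop := ∀ (X : Type u) [Group X] [Finite X] (P : Subgroup X) (N : Set (Subgroup X)), Fam P N →
  ∀ t : ℕ, (∀ U ∈ N, t ≤ (cen P).relIndex U) → t ^ N.ncard * Nat.card ↥(P ⊓ cen P) ≤ Nat.card P

def JobCnt2 : Prop := JobCnt1.{u} → ∀ (X : Type u) [Group X] [Finite X] (M P : Subgroup X)
  (N : Set (Subgroup X)), Fam P N → M ≤ nor P → (∀ m ∈ M, ∀ U ∈ N, cj m U ∈ N) →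
  (∀ x ∈ P, ∀ y ∈ P, Inv x → Inv y → ∃ m ∈ M, m * x * m⁻¹ = y) →
  Nat.card P ≤ Nat.card ↥(P ⊓ cen P) ^ 3 → N.Subsingleton

def SEM : Prop := ∀ (X : Type u) [Group X] [Finite X] (M P : Subgroup X) (N : Set (Subgroup X)),
  IsStronglyEmbedded M → oddCore X = ⊥ → IsSyl 2 P ⊤ → P ≤ M → M ≤ nor P → IsSuzukiTwoGroup P →
  (∀ U ∈ N, U ≤ P ∧ ¬ El U) → (∀ m ∈ M, ∀ U ∈ N, cj m U ∈ N) →
  (∀ U ∈ N, ∀ U' ∈ N, U ≠ U' → ∀ a ∈ U, ∀ b ∈ U', a * b = b * a) →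
  (∀ U ∈ N, ¬ Ab U) ∧ N.Subsingleton

def JobSEM : Prop := JobNAB.{u} → JobCnt1.{u} → JobCnt2.{u} → SEM.{u}

def JobD0 : Prop := ∀ (X : Type u) [Group X] [Finite X] (Z Δ A : Subgroup X), IsPGroup 2 Z → IsPGroup 2 Δ →
  Ab Z → Δ ≤ nor Z → A < Z → (∀ a ∈ A, ∀ δ ∈ Δ, a * δ = δ * a) →
  (∀ v ∈ Δ, v ≠ 1 → Δ ≤ cen1 v → Z ⊓ cen1 v ≤ A) → El Δ

/-! ### Jobs: point geometries -/

def JobLift : Prop := AllPG.{u} fun _ _ _ _ _ _ pt B _ => Lift pt B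

def JobDa : Prop := AllPG.{u} fun _ _ _ _ _ _ pt B _ => Da pt B

def JobDb : Prop := JobD0.{u} → AllPG.{u} fun _ _ _ _ _ _ pt B β => Lift pt B → Da pt B → Dlt pt B β

def JobOd : Prop := AllPG.{u} fun X _ _ Ω _ _ _ _ _ => Od X Ω

def JobZ : Prop := AllPG.{u} fun _ _ _ Ω _ _ pt B β => Full B β → Dlt pt B β → ZC B β Ω

def JobM : Prop := JobSE1.{u} → AllPG.{u} fun X _ _ Ω _ _ pt B β => Full B β → Od X Ω → ZC B β Ω →
  ∀ a, ∀ l ∈ closure (ZZ B β) ⊔ (toPermHom X Ω).ker, l • pt a = pt a → l • a ≠ a → CnB (B a)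

def JobF : Prop := JobSE1.{u} → JobSE2.{u} → AllPG.{u} fun X _ _ _ _ _ pt B _ =>
  ∀ a, stabilizer X (pt a) ≤ stabilizer X a → CnB (B a)

def JobY : Prop := AllPG.{u} fun _ _ _ _ _ _ pt B β => Pres B β → Lift pt B → Dlt pt B β → YG pt B

def JobP3 : Prop := JobSE1.{u} → SEM.{u} → AllPG.{u} fun X _ _ Ω _ _ pt B _ =>
  Od X Ω → YG pt B → Function.Injective pt

def P2 : Prop := AllPG.{u} fun _ _ _ _ _ _ _ B β => Full B β → ∀ a, CnB (B a)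

def P3 : Prop := AllPG.{u} fun _ _ _ _ _ _ pt B β => Pres B β → Function.Injective pt

/-! ### Jobs: cliques -/

/-- A statement about all finite groups with a subgroup. -/
def AllG (F : ∀ (G : Type u) [Group G] (_ : Subgroup G), Prop) : Prop :=
  ∀ (G : Type u) [Group G] [Finite G] (A : Subgroup G), F G A

def JobF3a : Prop := AllG.{u} fun _ _ A => MN A → F3a A

def JobMX : Prop := AllG.{u} fun _ _ A => MC A → MX A

def JobCS : Prop := AllG.{u} fun _ _ A => MC A → CS A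

def JobFlag : Prop := AllG.{u} fun _ _ A => MC A → Flag A

def JobKEY : Prop := AllG.{u} fun _ _ A => MC A → KEY A

def JobST : Prop := AllG.{u} fun _ _ A => MC A → Cn A → ST A

def JobUD : Prop := AllG.{u} fun _ _ A => MC A → Cn A → Dir A → UD1 A ∧ UD3 A

def JobUD2 : Prop := AllG.{u} fun _ _ A => MC A → Dir A → UD2 A

def JobMv : Prop := AllG.{u} fun _ _ A => MC A → Cn A → CS A → KEY A → ST A → UD1 A → UD2 A → Mv A

def JobSC : Prop := AllG.{u} fun _ _ A => MC A → Cn A → CS A → ST A → UD3 A → Mv A → SC A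

def JobFin : Prop := AllG.{u} fun G _ A => IsSimpleGroup G → ¬ IsMulCommutative G → MC A → Cn A → CS A →
  Dir A → SC A → NoE A

def JobDirE : Prop := AllG.{u} fun _ _ A => MN A →
  (∀ B, Vx A B → ∀ z ∈ B, Inv z → ∃ x ∈ B, ⁅x, z⁆ ∉ opp 2 B) → Dir A

/-- The point geometry of a minimal subgroup that moves a maximal clique. -/
def Min : Prop := AllG.{u} fun G _ A => IsSimpleGroup G → A ≠ ⊤ → MC A → ∀ β : Subgroup G → Prop, Bt β →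
  Big β A → ∀ C, MClq A C → ∃ (I : Subgroup G) (J Ω : Type u) (_ : Finite J) (_ : Finite Ω)
    (_ : MulAction I J) (_ : MulAction I Ω) (pt : J → Ω) (vx : J → Subgroup G) (a : Ω) (T : Subgroup G),
    PG pt (fun j => (vx j).subgroupOf I) (fun U => β (U.map I.subtype)) ∧ (∀ j, Vx A (vx j)) ∧
    (∀ j, pt j = a → vx j ∈ C) ∧ (∀ B ∈ C, (∃ j, pt j = a ∧ vx j = B) ∨ B ≤ T) ∧
    ∀ x : I, x.1 ∈ T → Triv Ω x

def JobMin : Prop := JobMX.{u} → Min.{u}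

def JobT2 : Prop := Min.{u} → P2.{u} → AllG.{u} fun G _ A => IsSimpleGroup G → A ≠ ⊤ → MC A → CS A →
  (∀ R, IsSyl 2 R A → ¬ El R) → Cn A

def JobT3 : Prop := Min.{u} → P3.{u} → AllG.{u} fun G _ A => IsSimpleGroup G → A ≠ ⊤ → MC A → CS A →
  Flag A → (∀ R, IsSyl 2 R A → ¬ El R) → Cn A → Dir A

/-! ### Jobs: the standard subgroup -/

def JobEd : Prop := AllG.{u} fun _ _ K => FS K → ∀ g ∉ nor (cen K), ∀ d ∈ cj g (cen K), Inv d →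
  d ∈ nor (cen K) → ∃ R T, Ed (cen K) g R T

def JobK2a : Prop := AllG.{u} fun _ _ K => IsStandardSubgroup K → ∀ g R T, Ed (cen K) g R T →
  NI (K ⊓ cj g (cen K)) → Ab T ∨ ∃ S, IsSyl 2 S K ∧ S ≤ cen T

def JobK2b : Prop := AllG.{u} fun _ _ K => IsStandardSubgroup K → ∀ g R T, Ed (cen K) g R T →
  NI (K ⊓ cj g (cen K)) → ∀ S, IsSyl 2 S K → S ≤ cen T → Ab T

def JobIso : Prop := AllG.{u} fun _ _ Q => ∀ g R T, Ed Q g R T → Ab R →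
  ∀ t ∈ T, t * t = 1 → ∃ r ∈ R, r * r = 1 ∧ Zs Q (r * t)

def JobCm : Prop := AllG.{u} fun _ _ Q => ∀ g R T, Ed Q g R T → Ab R →
  (∀ t ∈ T, t * t = 1 → ∃ r ∈ R, r * r = 1 ∧ Zs Q (r * t)) → Q ≤ nor (cj g Q) ∨ CaseB Q R T

def JobNc : Prop := AllG.{u} fun _ _ Q => ∀ g R T, Ed Q g R T → Ab R → CaseB Q R T → Nc Q R

def JobG : Prop := AllG.{u} fun _ _ Q => ∀ R, IsSyl 2 R Q → Ab R → ¬ El R → Nc Q R →
  pElementClosure 2 Q ≤ R ⊔ opp 2 Q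

def JobMQ : Prop := JobEd.{u} → JobK2a.{u} → JobK2b.{u} → JobIso.{u} → JobCm.{u} → JobNc.{u} → JobG.{u} →
  AllG.{u} fun _ _ K => FS K → Done (cen K) ∨ MQ (cen K)

def JobMk : Prop := AllG.{u} fun _ _ Q => IsTightlyEmbedded Q → MQ Q → ∀ A ≤ pElementClosure 2 Q,
  nor Q ≤ nor A → Four A → (∀ R, IsSyl 2 R A → ∃ a ∈ R, a * a ≠ 1 ∨ ∃ x ∈ A, ⁅x, a⁆ ∉ opp 2 A) →
  MN A ∧ (NoE A → NoQ Q)

def JobE : Prop := AllG.{u} fun _ _ Q => ∀ R, IsSyl 2 R Q → El R → ¬ Group.IsSolvable Q →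
  ∃ E ≤ pElementClosure 2 Q, nor Q ≤ nor E ∧ Four E ∧ Cn E ∧
    ∀ B, Vx E B → ∀ z ∈ B, Inv z → ∃ x ∈ B, ⁅x, z⁆ ∉ opp 2 B

def JobNo : Prop := AllG.{u} fun G _ K => IsSimpleGroup G → ¬ IsMulCommutative G → FS K → ¬ NoQ (cen K)

/-- The theorem of the tower. -/
def Main : Prop := AllG.{u} fun G _ K => IsSimpleGroup G → ¬ IsMulCommutative G → FS K → Done (cen K)

end H14.FE
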