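import Cfsg.Agent.H43.AlcE8S

/-! The classes of elements of order dividing 5, 8, 11, 31 or 41 in `E₈(3)`. -/

set_option autoImplicit false

namespace H14.E8

def cl5 : List (List ℕ) :=
  [[0, 0, 0, 0, 0, 0, 0, 0], [0, 0, 0, 0, 1, 0, 0, 0], [1, 0, 0, 0, 0, 0, 0, 1]]

def cl8 : List (List ℕ) :=
  [[0, 0, 0, 0, 0, 0, 0, 0], [0, 0, 0, 0, 0, 0, 0, 4], [4, 0, 0, 0, 0, 0, 0, 0], [0, 0, 0, 0, 0,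
   0, 0, 2], [0, 0, 0, 0, 0, 0, 2, 0], [0, 0, 0, 0, 0, 2, 0, 0], [0, 0, 2, 0, 0, 0, 0, 0], [0,
   2, 0, 0, 0, 0, 0, 0], [2, 0, 0, 0, 0, 0, 0, 0], [2, 0, 0, 0, 0, 0, 0, 2], [0, 0, 0, 0, 0, 0,
   1, 1], [0, 0, 0, 0, 0, 0, 1, 2], [0, 0, 0, 0, 0, 1, 0, 2], [0, 0, 0, 1, 0, 0, 0, 1], [0, 0,
   1, 0, 0, 0, 1, 0], [0, 0, 1, 0, 0, 1, 0, 0], [0, 1, 0, 0, 0, 1, 0, 0], [1, 0, 0, 0, 0, 0, 0,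
   2], [1, 0, 0, 0, 0, 0, 1, 1], [1, 0, 0, 0, 0, 1, 0, 0], [1, 0, 0, 0, 0, 1, 0, 1], [1, 0, 0,
   0, 1, 0, 0, 0], [1, 0, 1, 0, 0, 0, 0, 1], [1, 1, 0, 0, 0, 0, 0, 0], [1, 1, 0, 0, 0, 0, 0, 1],
   [2, 0, 0, 0, 0, 1, 0, 0], [2, 0, 1, 0, 0, 0, 0, 0]]

def cl11 : List (List ℕ) :=
  [[0, 0, 0, 0, 0, 0, 0, 0], [1, 1, 0, 0, 0, 0, 1, 1]]

def cl31 : List (List ℕ) :=
  [[0, 0, 0, 0, 0, 0, 0, 0], [1, 1, 1, 1, 1, 1, 1, 1]]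

def cl41 : List (List ℕ) :=
  [[0, 0, 0, 0, 0, 0, 0, 0], [0, 1, 6, 0, 1, 0, 2, 0], [1, 0, 0, 0, 0, 2, 4, 7], [1, 1, 0, 1, 0,
   3, 0, 9], [1, 1, 1, 1, 2, 2, 1, 2], [2, 1, 1, 1, 1, 1, 3, 1], [2, 1, 2, 1, 1, 1, 2, 2], [3,
   0, 0, 0, 0, 1, 1, 7], [3, 0, 0, 3, 1, 0, 1, 0], [3, 1, 1, 1, 1, 1, 1, 1], [4, 1, 1, 1, 1, 2,
   1, 1], [5, 0, 0, 1, 0, 2, 0, 2], [5, 0, 0, 2, 0, 3, 1, 0], [6, 0, 0, 0, 0, 2, 2, 1], [7, 0,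
   0, 0, 0, 1, 2, 6], [7, 0, 0, 0, 0, 4, 1, 3]]

def tb : List (ℕ × List (List ℕ)) := [(5, cl5), (8, cl8), (11, cl11), (31, cl31), (41, cl41)]

theorem chk_tb : H43.Alc.chk tb 250 H43.Alc.hs0 H43.Alc.es0 = true := by decide +kernel

end H14.E8
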