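/- The rational part of the Brauer character on finite 2-groups. -/
import Cfsg.Agent.H56.SL2M1

set_option autoImplicit false

namespace H14.E8

open Module Polynomial

universe u

variable {k : Type*} [Field k]

theorem roots_charpoly_neg {V : Type*} [AddCommGroup V] [Module k V] [FiniteDimensional k V]
    (y : End k V) : (-y).charpoly.roots = y.charpoly.roots.map fun a => -a := by
  let b := Module.Free.chooseBasis k V
  rw [← LinearMap.charpoly_toMatrix _ b, ← LinearMap.charpoly_toMatrix _ b, map_neg,
    ← roots_comp_neg_X]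
  set A := LinearMap.toMatrix b b y
  have h : (-A).charmatrix = - (A.charmatrix.map (compRingHom (-X : k[X]))) := by
    refine Matrix.ext fun i j => ?_
    by_cases e : i = j
    · subst e; simp [add_comm]
    · simp [e]
  have h2 : (-A).charpoly = C ((-1) ^ Fintype.card (Module.Free.ChooseBasisIndex k V)) *
      A.charpoly.comp (-X) := by
    rw [Matrix.charpoly, h, Matrix.det_neg, ← RingHom.mapMatrix_apply, ← RingHom.map_det]
    simp [Matrix.charpoly]
  rw [h2, roots_C_mul _ (by simp)]

open Classical in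
/-- The number of eigenvalues `1` minus the number of eigenvalues `-1`. -/
noncomputable def tau {V : Type*} [AddCommGroup V] [Module k V] [FiniteDimensional k V]
    (x : End k V) : ℤ :=
  (x.charpoly.roots.count 1 : ℤ) - x.charpoly.roots.count (-1)

variable {V : Type*} [AddCommGroup V] [Module k V] [FiniteDimensional k V]

theorem tau_neg (y : End k V) : tau (-y) = - tau y := by
  classical
  have h1 := Multiset.count_map_eq_count' (fun a : k => -a) y.charpoly.roots neg_injective
  have h2 := h1 (-1)
  simp only [neg_neg] at h2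
  simp only [tau, roots_charpoly_neg]
  rw [h1 1]
  convert_to ((Multiset.count 1 (Multiset.map (fun a => -a) y.charpoly.roots) : ℕ) : ℤ) - _ = _
  rw [h2]; ring

theorem tau_one (h2 : (2 : k) ≠ 0) : tau (1 : End k V) = finrank k V := by
  classical
  have : (-1 : k) ≠ 1 := fun e => h2 (by linear_combination -e)
  simp [tau, LinearMap.charpoly_one, roots_pow, Multiset.count_singleton, this,
    ← C_1 (R := k), -map_one, roots_X_sub_C]

theorem tau_sub_quot (W : Submodule k V) (e : End k V) (he : W ≤ W.comap e) :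
    tau e = tau (e.restrict he : End k W) + tau (W.mapQ W e he : End k (V ⧸ W)) := by
  classical
  simp only [tau]
  rw [H56.SL2M.charpoly_sub_quot W e he, roots_mul (mul_ne_zero (LinearMap.charpoly_monic _).ne_zero
    (LinearMap.charpoly_monic _).ne_zero), Multiset.count_add, Multiset.count_add]
  push_cast; ring

theorem tau_conj (a b x : End k V) (h : a * b = 1) : tau (a * x * b) = tau x := by
  have h' : b * a = 1 := mul_eq_one_comm.1 h
  let e : V ≃ₗ[k] V := LinearEquiv.ofLinearMap a b h h'
  have : a * x * b = e.conj x := rfl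
  simp only [tau, this, LinearEquiv.charpoly_conj]

theorem tau_add_mul {x z : End k V} (hc : Commute x z) (hz : z * z = 1)
    (he : LinearMap.ker (z - 1) ≤ (LinearMap.ker (z - 1)).comap x) :
    tau x + tau (x * z) = 2 * tau (x.restrict he : End k (LinearMap.ker (z - 1))) := by
  set W := LinearMap.ker (z - 1)
  have hW : ∀ v ∈ W, z v = v := fun v hv => by simpa [W, sub_eq_zero] using hv
  have he' : W ≤ W.comap (x * z) := fun v hv => by
    rw [Submodule.mem_comap, End.mul_apply, hW v hv]; exact he hv
  have e1 : ((x * z).restrict he' : End k W) = (x.restrict he : End k W) := by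
    ext v; simp [hW v v.2]
  have e2 : W.mapQ W (x * z) he' = - W.mapQ W x he := by
    ext v
    simp only [LinearMap.comp_apply, Submodule.mkQ_apply, Submodule.mapQ_apply, LinearMap.neg_apply,
      End.mul_apply]
    rw [← Submodule.Quotient.mk_neg, Submodule.Quotient.eq, sub_neg_eq_add, ← map_add]
    refine he ?_
    have := congrArg (fun f : End k V => f v) hz
    simp only [End.mul_apply, End.one_apply] at this
    simp [W, this, add_comm]
  rw [tau_sub_quot W x he, tau_sub_quot W (x * z) he', e1, e2, tau_neg]; ring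

theorem sum_tau_aux (h2 : (2 : k) ≠ 0) {K : Type*} [Group K] [Fintype K] (hK : IsPGroup 2 K)
    (n : ℕ) : ∀ {V : Type u} [AddCommGroup V] [Module k V] [FiniteDimensional k V]
      (ρ : K →* End k V), finrank k V = n → ∃ d : ℕ, ∑ g, tau (ρ g) = Fintype.card K * d := by
  induction n using Nat.strong_induction_on with
  | _ n ih =>
  intro V _ _ _ ρ hn
  by_cases h1 : ∀ g, ρ g = 1
  · exact ⟨finrank k V, by simp [h1, tau_one h2]⟩
  have hQ : IsPGroup 2 (K ⧸ ρ.ker) := hK.to_quotient _
  have : Nontrivial (K ⧸ ρ.ker) := by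
    rw [QuotientGroup.nontrivial_iff]
    exact fun e => h1 fun g => MonoidHom.mem_ker.1 (e ▸ Subgroup.mem_top g)
  have := hQ.center_nontrivial
  obtain ⟨m, hm0, hm⟩ := (hQ.to_subgroup (Subgroup.center _)).nontrivial_iff_card.1 this
  obtain ⟨⟨q, hq⟩, ho⟩ := exists_prime_orderOf_dvd_card' (G := Subgroup.center (K ⧸ ρ.ker)) 2
    (hm ▸ dvd_pow_self 2 hm0.ne')
  obtain ⟨z, rfl⟩ := QuotientGroup.mk_surjective q
  have key : ∀ a b : K, (a : K ⧸ ρ.ker) = b → ρ a = ρ b := fun a b e => by
    have := MonoidHom.mem_ker.1 (QuotientGroup.eq.1 e)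
    rw [← mul_inv_cancel_left a b, map_mul, this, mul_one]
  have hc : ∀ g, Commute (ρ g) (ρ z) := fun g => by
    rw [Commute, SemiconjBy, ← map_mul, ← map_mul]
    exact key _ _ (Subgroup.mem_center_iff.1 hq g)
  rw [← Subgroup.orderOf_coe] at ho
  have hz : ρ z * ρ z = 1 := by
    rw [← map_mul, ← map_one ρ]
    refine key _ _ ?_
    have := pow_orderOf_eq_one (z : K ⧸ ρ.ker)
    rwa [ho, sq] at this
  have hz1 : ρ z ≠ 1 := fun e => by
    have : (z : K ⧸ ρ.ker) = 1 := (QuotientGroup.eq_one_iff _).2 e
    simp [this] at ho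
  set W := LinearMap.ker (ρ z - 1)
  have he : ∀ g, W ≤ W.comap (ρ g) := fun g v hv => by
    have h3 : ρ z v = v := by simpa [W, sub_eq_zero] using hv
    have := congrArg (fun f : End k V => f v) (hc g).eq
    simp only [End.mul_apply, h3] at this
    simp [W, ← this]
  let σ : K →* End k W :=
    { toFun := fun g => (ρ g).restrict (he g)
      map_one' := by ext v; simp
      map_mul' := fun a b => by ext v; simp }
  obtain ⟨d, hd⟩ := ih _ (hn ▸ Submodule.finrank_lt (s := W) fun e => hz1
    (sub_eq_zero.1 (LinearMap.ker_eq_top.1 e))) σ rfl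
  refine ⟨d, ?_⟩
  have h3 : ∑ g, tau (ρ (g * z)) = ∑ g, tau (ρ g) :=
    Fintype.sum_equiv (Equiv.mulRight z) _ _ fun _ => rfl
  have h4 : ∑ g, (tau (ρ g) + tau (ρ (g * z))) = ∑ g, 2 * tau (σ g) :=
    Finset.sum_congr rfl fun g _ => by rw [map_mul, tau_add_mul (hc g) hz (he g)]; rfl
  rw [Finset.sum_add_distrib, h3, ← Finset.mul_sum, hd] at h4
  omega

/-- The multiplicity of a sign character of a finite 2-group is a natural number. -/
theorem sum_tau (h2 : (2 : k) ≠ 0) {K : Type*} [Group K] [Fintype K] (hK : IsPGroup 2 K)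
    (ρ : K →* End k V) (s : K →* ℤˣ) :
    ∃ d : ℕ, ∑ g, (s g : ℤ) * tau (ρ g) = Fintype.card K * d := by
  let σ : K →* End k V :=
    { toFun := fun g => (s g : ℤ) • ρ g
      map_one' := by simp
      map_mul' := fun a b => by
        rw [map_mul, map_mul, Units.val_mul, smul_mul_smul_comm] }
  obtain ⟨d, hd⟩ := sum_tau_aux h2 hK _ σ rfl
  refine ⟨d, hd ▸ Finset.sum_congr rfl fun g _ => ?_⟩
  change _ = tau ((s g : ℤ) • ρ g)
  rcases Int.units_eq_one_or (s g) with e | e <;> simp [e, tau_neg]

end H14.E8
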