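/- The fixed point formula for a 2-group given by a central series of generators. -/
import Cfsg.Agent.H14.E8Tau

set_option autoImplicit false

namespace H14.E8

open Module

universe u

variable {k : Type*} [Field k] {ι : Type*}

/-- All ordered products of distinct generators. -/
def prods : List ι → List (List ι)
  | [] => [[]]
  | i :: l => prods l ++ (prods l).map (· ++ [i])

/-- The relations along a central series: `d` lists the generators already killed. -/
def PC (R : List ι → List ι → Prop) (W : ι → ι → List ι) : List ι → List ι → Prop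
  | _, [] => True
  | d, i :: l => ((∀ x ∈ W i i, x ∈ d) ∧ R [i, i] (W i i)) ∧
      (∀ j ∈ l, (∀ x ∈ W j i, x ∈ d) ∧ R [j, i] (i :: j :: W j i)) ∧ PC R W (i :: d) l

instance PC.dec [DecidableEq ι] (R : List ι → List ι → Prop) [DecidableRel R] (W : ι → ι → List ι) :
    ∀ d l, Decidable (PC R W d l)
  | _, [] => isTrue trivial
  | d, i :: l => by
    have := PC.dec R W (i :: d) l
    unfold PC
    infer_instance

theorem sum_prods (h2 : (2 : k) ≠ 0) {R : List ι → List ι → Prop} {W : ι → ι → List ι}
    (l : List ι) : ∀ (d : List ι) {V : Type u} [AddCommGroup V] [Module k V] [FiniteDimensional k V]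
      (ρ : ι → End k V), (∀ j ∈ d, ρ j = 1) → (∀ j, j ∈ d ∨ j ∈ l) →
      (∀ u v, R u v → (u.map ρ).prod = (v.map ρ).prod) → PC R W d l →
      ∃ n : ℕ, ((prods l).map fun w => tau (w.map ρ).prod).sum = 2 ^ l.length * n := by
  induction l with
  | nil => exact fun d V _ _ _ ρ _ _ _ _ => ⟨finrank k V, by simp [prods, tau_one h2]⟩
  | cons i l ih =>
  intro d V _ _ _ ρ hd hall hR ⟨⟨h1, h1'⟩, h3, h4⟩
  have hw : ∀ w : List ι, (∀ x ∈ w, x ∈ d) → (w.map ρ).prod = 1 := fun w hw =>
    List.prod_eq_one fun x hx => by
      obtain ⟨y, hy, rfl⟩ := List.mem_map.1 hx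
      exact hd y (hw y hy)
  have hz : ρ i * ρ i = 1 := by simpa [hw _ h1] using hR _ _ h1'
  have hc : ∀ j, Commute (ρ j) (ρ i) := fun j => by
    rcases hall j with h | h
    · rw [hd j h]; exact Commute.one_left _
    rcases List.mem_cons.1 h with rfl | h
    · exact Commute.refl _
    · have := hR _ _ (h3 j h).2
      simp only [List.map_cons, List.prod_cons, hw _ (h3 j h).1, List.map_nil, List.prod_nil,
        mul_one] at this
      exact this
  have hc' : ∀ w : List ι, Commute (w.map ρ).prod (ρ i) := fun w =>
    Commute.list_prod_left _ _ fun x hx => by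
      obtain ⟨y, -, rfl⟩ := List.mem_map.1 hx
      exact hc y
  set U := LinearMap.ker (ρ i - 1)
  have he : ∀ x : End k V, Commute x (ρ i) → U ≤ U.comap x := fun x hx v hv => by
    have h3 : ρ i v = v := by simpa [U, sub_eq_zero] using hv
    have := congrArg (fun f : End k V => f v) hx.eq
    simp only [End.mul_apply, h3] at this
    simp [U, ← this]
  let σ : ι → End k U := fun j => (ρ j).restrict (he _ (hc j))
  have hσ : ∀ w : List ι, (w.map σ).prod = (w.map ρ).prod.restrict (he _ (hc' w)) := fun w => by
    induction w with
    | nil => ext v; simp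
    | cons a w ih => ext v; simp [ih, σ]
  obtain ⟨n, hn⟩ := ih (i :: d) σ (fun j hj => by
      rcases List.mem_cons.1 hj with rfl | hj
      · ext v
        have := LinearMap.mem_ker.1 v.2
        rw [LinearMap.sub_apply, sub_eq_zero] at this
        exact this
      · ext v; simp [σ, hd j hj])
    (fun j => by have := hall j; simp only [List.mem_cons] at this ⊢; tauto)
    (fun u v h => by ext x; simp [hσ, hR u v h]) h4
  refine ⟨n, ?_⟩
  rw [prods, List.map_append, List.sum_append, List.map_map, ← List.sum_map_add, List.length_cons,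
    pow_succ', mul_assoc, ← hn, ← List.sum_map_mul_left]
  refine congrArg _ (List.map_congr_left fun w _ => ?_)
  simp only [Function.comp, List.map_append, List.prod_append, List.map_cons, List.map_nil,
    List.prod_cons, List.prod_nil, mul_one]
  rw [tau_add_mul (hc' w) hz (he _ (hc' w)), hσ]

end H14.E8
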