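/- The group `PSp₆(3)` is not a subgroup of a group with the 2-element traces of `E₈(3)`. -/
import Cfsg.Agent.H14.E8Pc

set_option autoImplicit false

namespace H14.E8

open Module Matrix

/-- Entries of a packed matrix over the field with three elements. -/
def ent (a i j : ℕ) : ℕ := a / 3 ^ (6 * i + j) % 3

/-- Packing of digits. -/
def pack (f : ℕ → ℕ) (n : ℕ) : ℕ := Nat.rec 0 (fun m b => b + f m % 3 * 3 ^ m) n

theorem pack_lt (f : ℕ → ℕ) (n : ℕ) : pack f n < 3 ^ n := by
  induction n with
  | zero => simp [pack]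
  | succ n ih =>
    have : pack f (n + 1) = pack f n + f n % 3 * 3 ^ n := rfl
    have h : f n % 3 * 3 ^ n ≤ 2 * 3 ^ n := Nat.mul_le_mul_right _ (by omega)
    rw [this, pow_succ]; omega

theorem pack_digit (f : ℕ → ℕ) {n m : ℕ} (h : m < n) : pack f n / 3 ^ m % 3 = f m % 3 := by
  induction n with
  | zero => omega
  | succ n ih =>
    have : pack f (n + 1) = pack f n + f n % 3 * 3 ^ n := rfl
    rw [this]
    rcases Nat.lt_succ_iff_lt_or_eq.1 h with h | rfl
    · obtain ⟨d, rfl⟩ := Nat.exists_eq_add_of_lt h
      rw [← ih h, show f (m + d + 1) % 3 * 3 ^ (m + d + 1) = 3 ^ m * (3 * (3 ^ d * (f (m + d + 1) % 3)))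
        by ring, Nat.add_mul_div_left _ _ (by positivity), Nat.add_mul_mod_self_left]
    · rw [Nat.add_mul_div_right _ _ (by positivity), Nat.div_eq_of_lt (pack_lt f m), zero_add,
        Nat.mod_mod]

/-- Evaluation of an argument before its use. -/
def frc (n : ℕ) (f : ℕ → ℕ) : ℕ := Nat.rec (f 0) (fun m _ => f (Nat.succ m)) n

theorem frc_eq (n : ℕ) (f : ℕ → ℕ) : frc n f = f n := by cases n <;> rfl

/-- The product of packed matrices. -/
def mulc (a b : ℕ) : ℕ := frc a fun a => frc b fun b => pack (fun t => ent a (t / 6) 0 * ent b 0 (t % 6) +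
  ent a (t / 6) 1 * ent b 1 (t % 6) + ent a (t / 6) 2 * ent b 2 (t % 6) +
  ent a (t / 6) 3 * ent b 3 (t % 6) + ent a (t / 6) 4 * ent b 4 (t % 6) +
  ent a (t / 6) 5 * ent b 5 (t % 6)) 36

/-- The transpose of a packed matrix. -/
def trc (a : ℕ) : ℕ := pack (fun t => ent a (t % 6) (t / 6)) 36

/-- The position of an index. -/
def ix : Fin 3 ⊕ Fin 3 → ℕ := Sum.elim (·.val) (3 + ·.val)

theorem ix_lt (i : Fin 3 ⊕ Fin 3) : ix i < 6 := by
  rcases i with i | i <;> simp only [ix, Sum.elim_inl, Sum.elim_inr] <;> omega

/-- The matrix of a code. -/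
def toM (a : ℕ) : Matrix (Fin 3 ⊕ Fin 3) (Fin 3 ⊕ Fin 3) (ZMod 3) :=
  Matrix.of fun i j => (ent a (ix i) (ix j) : ZMod 3)

theorem toM_pack (f : ℕ → ℕ) (i j : Fin 3 ⊕ Fin 3) :
    toM (pack f 36) i j = (f (6 * ix i + ix j) : ZMod 3) := by
  have := ix_lt i
  have := ix_lt j
  rw [toM, of_apply, ent, pack_digit f (by omega), ZMod.natCast_mod]

theorem toM_mulc (a b : ℕ) : toM (mulc a b) = toM a * toM b := by
  ext i j
  have := ix_lt j
  rw [mulc, frc_eq, frc_eq, toM_pack, show (6 * ix i + ix j) / 6 = ix i by omega,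
    show (6 * ix i + ix j) % 6 = ix j by omega, mul_apply, Fintype.sum_sum_type,
    Fin.sum_univ_three, Fin.sum_univ_three]
  push_cast
  simp only [← add_assoc]
  rfl

theorem toM_trc (a : ℕ) : toM (trc a) = (toM a)ᵀ := by
  ext i j
  have := ix_lt j
  rw [trc, toM_pack, show (6 * ix i + ix j) / 6 = ix i by omega,
    show (6 * ix i + ix j) % 6 = ix j by omega]
  rfl

/-- The codes of the form, of the identity and of its negative. -/
def cJ : ℕ := 1853868123280251
def cI : ℕ := 50054432356593028
def cN : ℕ := 100108864713186056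

theorem toM_cJ : toM cJ = J (Fin 3) (ZMod 3) := by decide +kernel
theorem toM_cI : toM cI = 1 := by decide +kernel
theorem toM_cN : toM cN = -1 := by decide +kernel

/-- The code is symplectic. -/
abbrev Sp (a : ℕ) : Prop := mulc (mulc a cJ) (trc a) = cJ

/-- Equality up to sign. -/
abbrev Pm (a b : ℕ) : Prop := a = b ∨ a = mulc cN b

theorem Sp.mem {a : ℕ} (h : Sp a) : toM a ∈ symplecticGroup (Fin 3) (ZMod 3) := by
  rw [SymplecticGroup.mem_iff, ← toM_cJ, ← toM_trc, ← toM_mulc, ← toM_mulc, h]

open Classical in
/-- The symplectic matrix of a code. -/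
noncomputable def el (a : ℕ) : symplecticGroup (Fin 3) (ZMod 3) :=
  if h : toM a ∈ symplecticGroup (Fin 3) (ZMod 3) then ⟨toM a, h⟩ else 1

/-- Membership in the symplectic group. -/
def Mem (a : ℕ) : Prop := toM a ∈ symplecticGroup (Fin 3) (ZMod 3)

theorem Mem.val {a : ℕ} (h : Mem a) : (el a).1 = toM a := by
  unfold Mem at h; rw [el, dif_pos h]

theorem Mem.mul {a b : ℕ} (ha : Mem a) (hb : Mem b) : Mem (mulc a b) := by
  rw [Mem, toM_mulc]; exact mul_mem ha hb

theorem el_mulc {a b : ℕ} (ha : Mem a) (hb : Mem b) : el (mulc a b) = el a * el b :=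
  Subtype.ext (by rw [(ha.mul hb).val, toM_mulc, Submonoid.coe_mul, ha.val, hb.val])

theorem mem_cI : Mem cI := Sp.mem (by decide +kernel)
theorem mem_cN : Mem cN := Sp.mem (by decide +kernel)

theorem el_cI : el cI = 1 := Subtype.ext (by rw [mem_cI.val, toM_cI]; rfl)

theorem el_cN : el cN ∈ Subgroup.center (symplecticGroup (Fin 3) (ZMod 3)) :=
  Subgroup.mem_center_iff.2 fun g => Subtype.ext (by
    simp [mem_cN.val, toM_cN])

/-- The class of a code in `PSp₆(3)`. -/
noncomputable def pe (a : ℕ) : Cfsg.PSp 3 (ZMod 3) := QuotientGroup.mk (el a)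

theorem pe_mulc {a b : ℕ} (ha : Mem a) (hb : Mem b) : pe (mulc a b) = pe a * pe b := by
  rw [pe, el_mulc ha hb]; rfl

theorem pe_cI : pe cI = 1 := by rw [pe, el_cI]; rfl

theorem Pm.eq {a b : ℕ} (h : Pm a b) (hb : Mem b) : pe a = pe b := by
  rcases h with rfl | rfl
  · rfl
  · rw [pe_mulc mem_cN hb, pe, (QuotientGroup.eq_one_iff _).2 el_cN, one_mul]

theorem pe_ne_one {a b : ℕ} (ha : Mem a) (hb : Mem b) (h : toM a * toM b ≠ toM b * toM a) :
    pe a ≠ 1 := fun e => h (by
  have := congrArg Subtype.val (Subgroup.mem_center_iff.1 ((QuotientGroup.eq_one_iff _).1 e) (el b))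
  rw [Submonoid.coe_mul, Submonoid.coe_mul, ha.val, hb.val] at this
  exact this.symm)

/-- Generators of a subgroup of order 128 along a central series. -/
def gen : Fin 7 → ℕ :=
  ![100108854252832852, 50077309149050176, 1853878196212912, 50032393167351222, 53761310600518485,
    33356906043545412, 103769999435620855]

/-- The squares and commutators of the generators. -/
def wd : Fin 7 → Fin 7 → List (Fin 7) :=
  ![![[], [], [], [], [], [], []],
    ![[], [], [], [], [], [], []],
    ![[], [], [0], [], [], [], []],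
    ![[], [], [], [1, 0], [], [], []],
    ![[], [], [0], [1], [], [], []],
    ![[], [0], [], [2, 1, 0], [2], [2], []],
    ![[], [], [1, 0], [0], [], [4, 3, 0], []]]

/-- Class representatives. -/
def rep : Fin 5 → ℕ :=
  ![50054432356593028, 33356906043545412, 3707756004828188, 100108854252832852, 103769999435620855]

/-- The code of a word. -/
def evc (w : List (Fin 7)) : ℕ := w.foldr (fun i a => mulc (gen i) a) cI

theorem mem_gen (i : Fin 7) : Mem (gen i) := Sp.mem ((by decide +kernel : ∀ i, Sp (gen i)) i)

theorem mem_rep (i : Fin 5) : Mem (rep i) := Sp.mem ((by decide +kernel : ∀ i, Sp (rep i)) i)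

theorem evc_cons (i : Fin 7) (w : List (Fin 7)) : evc (i :: w) = mulc (gen i) (evc w) := by
  unfold evc; rw [List.foldr_cons]

theorem evc_spec (w : List (Fin 7)) : Mem (evc w) ∧ pe (evc w) = (w.map fun i => pe (gen i)).prod := by
  induction w with
  | nil => exact ⟨mem_cI, pe_cI⟩
  | cons i w ih =>
    rw [evc_cons, List.map_cons, List.prod_cons, ← ih.2]
    exact ⟨(mem_gen i).mul ih.1, pe_mulc (mem_gen i) ih.1⟩

/-- The class and a conjugating matrix for each element. -/
def dat : List (Fin 5 × ℕ) :=
  [(0,50054432356593028), (4,50054432356593028), (1,50054432356593028), (1,16745823357050386),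
   (4,16684901441925444), (4,5627722325518020), (2,136002541611902293), (1,50077309794810040),
   (2,16685183871482337), (2,6039504589884465), (3,50657033594001240), (1,16745822625433330),
   (2,17363495935623781), (4,16745822538985540), (1,101938997773584739), (1,34040677636707553),
   (2,50054432356593028), (2,5833613457966963), (1,17366037845922568), (1,53760472734355786),
   (4,50039203244589555), (2,5582031517130904), (2,138473235196919983), (1,17363496323044270),
   (2,61714556711137794), (4,5582031502722948), (2,51454153230697927), (1,51907452932983456),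
   (2,16750906313688919), (2,5787922634935695), (1,16816995169776416), (1,16748364448208350),
   (3,50039202082328004), (4,50055279645263707), (1,34043219543994814), (1,18052341574753234),
   (4,5787922634876646), (4,5627723487779571), (3,84629134317187662), (1,51908300221474801),
   (2,27856401759559350), (2,5632806071523585), (2,133537779046910134), (1,17366037801097870),
   (2,121253788788502411), (4,16685190845030727), (1,50078156437716481), (1,16750906313688946),
   (2,50055279645263707), (2,5630264220044163), (1,16745822538985540), (1,686314321873534),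
   (4,50039202082328004), (2,5583726094290741), (3,67951921234867158), (1,16748364490907365),
   (2,50039484511884897), (4,5582878791393627), (3,133425236106493626), (1,17368580054517220),
   (2,116923296921109039), (2,5788769923427040), (1,34040677677982777), (1,691398053353045),
   (3,50054432356593028), (4,50054432744013545), (1,50054432744013545), (1,16745822582209435),
   (4,16685183871482337), (4,11392674038517099), (2,133537779218806147), (1,50077309407389605),
   (2,16684901441925444), (2,5627722340044074), (3,51274708195593456), (1,16745823012853765),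
   (2,16748364490907311), (4,16745822926406057), (1,16748364404997577), (1,17981169331730608),
   (2,83568933309494746), (2,109692274201695381), (1,101939845062255418), (1,16679734070850028),
   (4,50039485674146448), (2,5993813766971295), (2,84761915716649251), (1,17363495935623835),
   (2,61302209572974774), (4,11346983215722027), (2,50812755710359717), (1,17983711626254650),
   (2,17981169331730581), (2,40418020252561905), (1,16816994782355899), (1,50054432485792267),
   (3,16684901441925444), (4,50039486836387419), (1,17434668223280890), (1,17986253063210119),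
   (4,16684904928710097), (4,16745822969452750), (3,134660585268225582), (1,51908299834054366),
   (2,5582878791393627), (2,105774694259202237), (2,83572322464413658), (1,17366038188518305),
   (2,17366037801097816), (4,5627723502128394), (1,50078156825136998), (1,16816994825232061),
   (2,16748364404997577), (2,5836155323440998), (1,16745822926406057), (1,17983711197729523),
   (4,50039484511884897), (2,38974522963430781), (3,117983372185905078), (1,16748364878327800),
   (2,50039202082328004), (4,5582034989507601), (3,83393785155455706), (1,17368579667096785),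
   (2,16745822582209408), (2,5582878820030205), (1,50055279645263707), (1,53784196815363328)]

theorem pc : PC (fun u v => Pm (evc u) (evc v)) wd [] [0, 1, 2, 3, 4, 5, 6] := by decide +kernel

theorem cls : List.Forall₂ (fun w (d : Fin 5 × ℕ) => Sp d.2 ∧
    Pm (mulc d.2 (evc w)) (mulc (rep d.1) d.2)) (prods [0, 1, 2, 3, 4, 5, 6]) dat := by
  decide +kernel

/-- The traces of an element of order eight, its square and its fourth power. -/
def L8 : List (ℤ × ℤ × ℤ) :=
  [(-6,132,24), (-4,64,-8), (-2,4,24), (-2,28,24), (0,0,-8), (0,8,-8), (2,-4,24), (2,4,24),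
   (4,0,-8), (6,4,24), (12,64,-8), (14,28,24), (16,0,-8), (26,132,24), (34,-4,24), (44,64,-8),
   (78,28,24)]

theorem no_sp6 {k V G : Type*} [Field k] [AddCommGroup V] [Module k V] [FiniteDimensional k V]
    [Group G] (h2 : (2 : k) ≠ 0) (ρ : G →* End k V) (hV : finrank k V = 248)
    (t2 : ∀ g, orderOf g = 2 → tau (ρ g) = 24 ∨ tau (ρ g) = -8)
    (t8 : ∀ g, orderOf g = 8 → (tau (ρ g), tau (ρ (g ^ 2)), tau (ρ (g ^ 4))) ∈ L8)
    (H : Subgroup G) : IsEmpty (↥H ≃* Cfsg.PSp 3 (ZMod 3)) := ⟨fun e => by
  let ψ : Cfsg.PSp 3 (ZMod 3) →* G := H.subtype.comp e.symm.toMonoidHom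
  have hψ : ∀ x, orderOf (ψ x) = orderOf x := fun x =>
    (Subgroup.orderOf_coe (e.symm x)).trans (MulEquiv.orderOf_eq e.symm _)
  let σ := ρ.comp ψ
  have hev : ∀ w : List (Fin 7), (w.map fun i => σ (pe (gen i))).prod = σ (pe (evc w)) := fun w => by
    rw [(evc_spec w).2, map_list_prod, List.map_map]; rfl
  obtain ⟨n, hn⟩ := sum_prods h2 [0, 1, 2, 3, 4, 5, 6] [] (fun i => σ (pe (gen i))) (by simp)
    (by decide) (fun u v h => by rw [hev, hev, Pm.eq h (evc_spec v).1]) pc
  have h1 : (prods [0, 1, 2, 3, 4, 5, 6]).map (fun w => tau (w.map fun i => σ (pe (gen i))).prod) =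
      dat.map fun d => tau (σ (pe (rep d.1))) := by
    rw [← List.forall₂_eq_eq_eq, List.forall₂_map_left_iff, List.forall₂_map_right_iff]
    refine cls.imp fun w d h => ?_
    have h3 := h.2.eq ((mem_rep _).mul h.1.mem)
    rw [pe_mulc h.1.mem (evc_spec w).1, pe_mulc (mem_rep _) h.1.mem, ← mul_inv_eq_iff_eq_mul] at h3
    rw [hev, ← h3, map_mul, map_mul, tau_conj _ _ _ (by rw [← map_mul, mul_inv_cancel, map_one])]
  have e0 : pe (rep 0) = 1 := pe_cI
  have e2 : pe (rep 2) = pe (rep 1) ^ 2 := by
    rw [sq, ← pe_mulc (mem_rep 1) (mem_rep 1), show mulc (rep 1) (rep 1) = rep 2 by decide +kernel]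
  have e3 : pe (rep 3) = pe (rep 1) ^ 4 := by
    rw [show pe (rep 1) ^ 4 = (pe (rep 1) ^ 2) ^ 2 from pow_mul _ 2 2, ← e2, sq, ← pe_mulc (mem_rep 2) (mem_rep 2),
      show mulc (rep 2) (rep 2) = rep 3 by decide +kernel]
  have hsq : ∀ i, Pm (mulc (rep i) (rep i)) cI → pe (rep i) ^ 2 = 1 := fun i h => by
    rw [sq, ← pe_mulc (mem_rep i) (mem_rep i), h.eq mem_cI, pe_cI]
  have hne : ∀ i, toM (rep i) * toM 50039202082328004 ≠ toM 50039202082328004 * toM (rep i) →
      pe (rep i) ≠ 1 := fun i => pe_ne_one (mem_rep i) (Sp.mem (by decide +kernel))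
  have o8 : orderOf (pe (rep 1)) = 2 ^ (2 + 1) := orderOf_eq_prime_pow
    (e3 ▸ hne 3 (by decide +kernel)) (by
      rw [show 2 ^ (2 + 1) = 4 * 2 from rfl, pow_mul, ← e3, hsq 3 (by decide +kernel)])
  have o2 : orderOf (pe (rep 4)) = 2 :=
    orderOf_eq_prime (hsq 4 (by decide +kernel)) (hne 4 (by decide +kernel))
  have a8 := t8 _ ((hψ _).trans o8)
  have a2 := t2 _ ((hψ _).trans o2)
  rw [← map_pow, ← map_pow, ← e2, ← e3] at a8
  have h4 : ∀ v : Fin 5 → ℤ, (dat.map fun d => v d.1).sum =
      v 0 + 48 * v 1 + 44 * v 2 + 11 * v 3 + 24 * v 4 := fun v => by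
    simp only [dat, List.map_cons, List.map_nil, List.sum_cons, List.sum_nil]
    ring
  rw [h1, h4 fun i => tau (σ (pe (rep i))), e0, map_one, tau_one h2, hV] at hn
  simp only [σ, MonoidHom.comp_apply, List.length_cons, List.length_nil] at hn
  simp only [L8, List.mem_cons, Prod.mk.injEq, List.not_mem_nil, or_false] at a8
  omega⟩

end H14.E8
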