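/- Eigenvalue multiplicities of elements of order 2, 4, 5, 8, 11, 31, 41 of `E₈(3)`. -/
import Cfsg.Agent.H14.E8Cl
import Cfsg.Agent.H14.E8Sp6
import Cfsg.Agent.H43.E8Cert
import Cfsg.Agent.H56.E8Head

set_option autoImplicit false
set_option linter.unusedSectionVars false

namespace H14.E8

open Module Polynomial Matrix Cfsg.Lie H63 H64 H65 H46 H67 H56.SL2M H43.Alc

section Bridge
variable {D : ChevalleyDatum} [RS D] [Tab D] [Comm D] {E : Type*} [Field E] [Fintype E]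

/-- The eigenvalues of the powers of a semisimple element. -/
theorem exists_torus_pow (hk : cker D (AlgebraicClosure E)ˣ = ⊥) (p : ℕ) [hp : Fact p.Prime]
    [CharP E p] (g : ↥(D.group E)) (hg : ¬ p ∣ orderOf g) :
    ∃ (c : Fin D.rank → (AlgebraicClosure E)ˣ) (w : (H64.wdata D).W),
      (∀ r, chi D c (w.1 r) = chi D c r ^ Fintype.card E) ∧ orderOf c = orderOf g ∧
      ∀ j : ℕ, (adj D E (g ^ j)).charpoly.roots = (Multiset.replicate D.rank 1 +
        Finset.univ.val.map fun r : Rt D => chi D c r ^ j).map Units.val := by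
  obtain ⟨c, w, u, e, a, h1, -, -, h3, -, h5, -, h6⟩ := exists_jordan hk p g
  obtain rfl : a = 0 := by
    rcases a with _ | a
    · rfl
    · exact absurd ⟨e * p ^ a, by rw [h1]; ring⟩ hg
  rw [pow_zero, pow_one] at h3
  rw [h3, mul_one] at h6
  refine ⟨c, w, h5, ?_, fun j => ?_⟩
  · rw [← orderOf_torG hk, ← orderOf_eq_of_isConj' h6, orderOf_injective _ (mapG_injective _)]
  · have h6' := h6.symm.pow j
    rw [← map_pow, ← map_pow] at h6'
    obtain ⟨z, hz⟩ := isConj_iff.1 h6'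
    have h7 : (adj D E (g ^ j)).charpoly = (tor D _ (c ^ j) : Matrix D.Idx D.Idx _).charpoly := by
      have e : adj D E (g ^ j) = Matrix.toLin' (toAlg D E (g ^ j)).1.1 := rfl
      rw [e, Matrix.charpoly_toLin', ← hz, Subgroup.coe_mul, Subgroup.coe_mul, Subgroup.coe_inv,
        Units.val_mul, Units.val_mul, torG_val, Matrix.coe_units_inv]
      exact Matrix.charpoly_units_conj _ _
    rw [h7, tor_val, roots_diagonal,
      ← Finset.univ_disjSum_univ, Finset.val_disjSum, Multiset.disjSum, Multiset.map_add,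
      Multiset.map_add, Multiset.map_map, Multiset.map_map, Multiset.map_map]
    congr 1
    · simp
    · simp only [← chi_pow]
      rfl

end Bridge

attribute [local instance] H65.tabE8 H65.commE8

/-- The algebraic closure of the field with three elements. -/
abbrev K3 : Type := AlgebraicClosure (ZMod 3)

/-- The group `E₈(3)`. -/
abbrev G8 : Type := ↥(chevE8.group (ZMod 3))

/-- The adjoint module. -/
noncomputable abbrev ad : G8 →* End K3 (chevE8.Idx → K3) := adj chevE8 (ZMod 3)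

theorem finrank_ad : finrank K3 (chevE8.Idx → K3) = 248 := by
  rw [Module.finrank_fintype_fun_eq_card, Fintype.card_sum, Fintype.card_fin, Fintype.card_fin]
  rfl

theorem two_ne : (2 : K3) ≠ 0 := fun h => by
  have := (CharP.cast_eq_zero_iff K3 3 2).1 (by exact_mod_cast h)
  omega

theorem exists_zeta {n : ℕ} (hn : ¬ 3 ∣ n) : ∃ ζ : K3ˣ, orderOf ζ = n := by
  obtain ⟨ζ, h, -⟩ := exists_root_unit (k := K3) (N := n) (by
    rwa [Ne, CharP.cast_eq_zero_iff K3 3])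
  exact ⟨ζ, h⟩

/-- The multiplicity of the eigenvalue `ζ ^ a` of the `j`-th power in the class `X`. -/
noncomputable def cnt (n : ℕ) (X : List ℕ) (j a : ℕ) : ℕ := (if a % n = 0 then 8 else 0) +
  (Finset.univ.filter fun r : Rt chevE8 =>
    (j * ∑ i : Fin 8, rt8 r i * (X.getD i 0 : ℕ) - a) % (n : ℤ) = 0).card

open Classical in
theorem exists_class {n : ℕ} {C : List (List ℕ)} (hC : (n, C) ∈ tb) {g : G8}
    (hg : orderOf g ∣ n) {ζ : K3ˣ} (hζ : orderOf ζ = n) : ∃ X ∈ C,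
    (∀ m, (∀ i : Fin 8, n ∣ m * X.getD i 0) → orderOf g ∣ m) ∧
    ∀ j a : ℕ, (ad (g ^ j)).charpoly.roots.count ((ζ : K3) ^ a) = cnt n X j a := by
  have hn : 0 < n ∧ n ≤ 485 ∧ ¬ 3 ∣ n :=
    (by decide : ∀ p ∈ tb, 0 < p.1 ∧ p.1 ≤ 485 ∧ ¬ 3 ∣ p.1) _ hC
  obtain ⟨c, w, h1, h2, h3⟩ := exists_torus_pow (kerE8.cker_eq_bot _) 3 g
    fun h => hn.2.2 (h.trans hg)
  rw [ZMod.card] at h1
  obtain ⟨X, h4, u, h5⟩ := H43.E8.classes chk_tb hn.1 hn.2.1 hC h1 hζ
    (orderOf_dvd_iff_pow_eq_one.1 (h2 ▸ hg))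
  have eX : ∀ j : Fin 8, (List.ofFn X).getD j 0 = X j := fun j => by
    rw [List.getD_eq_getElem _ _ (by simp), List.getElem_ofFn]
  refine ⟨_, h4, fun m hm => ?_, fun j a => ?_⟩
  · rw [← h2, orderOf_dvd_iff_pow_eq_one]
    refine pow_eq_one_of_chi (kerE8.cker_eq_bot _) fun i => ?_
    obtain ⟨r, hr⟩ := u.1.surjective (simpleR i)
    rw [← simpleR_val, ← hr, h5, ← zpow_natCast, ← _root_.zpow_mul, ← orderOf_dvd_iff_zpow_eq_one,
      hζ, Finset.sum_mul]
    refine Finset.dvd_sum fun j _ => ?_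
    rw [mul_assoc, ← Nat.cast_mul, mul_comm (X j), ← eX]
    exact (Int.natCast_dvd_natCast.2 (hm j)).mul_left _
  · rw [h3, ← Units.val_pow_eq_pow_val, Multiset.count_map_eq_count' _ _ Units.val_injective,
      Multiset.count_add, Multiset.count_replicate, cnt]
    congr 1
    · simp only [eq_comm (a := (1 : K3ˣ)), ← orderOf_dvd_iff_pow_eq_one, hζ, Nat.dvd_iff_mod_eq_zero]
      rfl
    · rw [Multiset.count_map, ← Finset.filter_val, ← Finset.card_def]
      symm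
      refine Finset.card_equiv u.1 fun r => ?_
      simp only [Finset.mem_filter, Finset.mem_univ, true_and, h5, eX]
      rw [← zpow_natCast ζ, ← zpow_natCast, ← _root_.zpow_mul, zpow_eq_zpow_iff_modEq, hζ,
        Int.modEq_iff_dvd, mul_comm, Int.dvd_iff_emod_eq_zero]

theorem tau_class {g : G8} (hg : orderOf g ∣ 8) : ∃ X ∈ cl8,
    (∀ m, (∀ i : Fin 8, 8 ∣ m * X.getD i 0) → orderOf g ∣ m) ∧
    ∀ j : ℕ, tau (ad (g ^ j)) = (cnt 8 X j 0 : ℤ) - cnt 8 X j 4 := by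
  obtain ⟨ζ, hζ⟩ := exists_zeta (n := 8) (by decide)
  obtain ⟨X, h1, h2, h3⟩ := exists_class (C := cl8) (by decide) hg hζ
  refine ⟨X, h1, h2, fun j => ?_⟩
  have h4 : (ζ : K3) ^ 4 = -1 := by
    have h5 : ((ζ : K3) ^ 4) ^ 2 = 1 := by
      rw [← pow_mul, ← Units.val_pow_eq_pow_val, show 4 * 2 = 8 from rfl, ← hζ, pow_orderOf_eq_one,
        Units.val_one]
    refine (sq_eq_one_iff.1 h5).resolve_left fun e => ?_
    have := orderOf_dvd_of_pow_eq_one (Units.ext e : ζ ^ 4 = 1)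
    rw [hζ] at this
    omega
  rw [← h3, ← h3, h4, pow_zero, tau]

theorem tau2 (g : G8) (hg : orderOf g = 2) : tau (ad g) = 24 ∨ tau (ad g) = -8 := by
  obtain ⟨X, h1, h2, h3⟩ := tau_class (g := g) (by rw [hg]; decide)
  have h4 := h3 1
  have h5 := h3 2
  rw [← hg, pow_orderOf_eq_one, map_one, tau_one two_ne, finrank_ad, hg] at h5
  rw [pow_one] at h4
  rw [h4]
  exact ((by decide +kernel : ∀ X ∈ cl8, ((248 : ℕ) : ℤ) = (cnt 8 X 2 0 : ℤ) - cnt 8 X 2 4 →
    (∀ i : Fin 8, 8 ∣ 1 * X.getD i 0) ∨ (cnt 8 X 1 0 : ℤ) - cnt 8 X 1 4 = 24 ∨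
      (cnt 8 X 1 0 : ℤ) - cnt 8 X 1 4 = -8) X h1 h5).resolve_left fun h => by
    have := h2 _ h
    rw [hg] at this
    omega

/-- The traces of an element of order four and its square. -/
def L4 : List (ℤ × ℤ) := [(132, 24), (28, 24), (4, 24), (-4, 24), (64, -8), (8, -8), (0, -8)]

theorem tau4 (g : G8) (hg : orderOf g = 4) : (tau (ad g), tau (ad (g ^ 2))) ∈ L4 := by
  obtain ⟨X, h1, h2, h3⟩ := tau_class (g := g) (by rw [hg]; decide)
  have h4 := h3 1
  have h5 := h3 4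
  rw [← hg, pow_orderOf_eq_one, map_one, tau_one two_ne, finrank_ad, hg] at h5
  rw [pow_one] at h4
  rw [h4, h3]
  exact ((by decide +kernel : ∀ X ∈ cl8, ((248 : ℕ) : ℤ) = (cnt 8 X 4 0 : ℤ) - cnt 8 X 4 4 →
    (∀ i : Fin 8, 8 ∣ 2 * X.getD i 0) ∨
      ((cnt 8 X 1 0 : ℤ) - cnt 8 X 1 4, (cnt 8 X 2 0 : ℤ) - cnt 8 X 2 4) ∈ L4)
      X h1 h5).resolve_left fun h => by
    have := h2 _ h
    rw [hg] at this
    omega

theorem tau8 (g : G8) (hg : orderOf g = 8) :
    (tau (ad g), tau (ad (g ^ 2)), tau (ad (g ^ 4))) ∈ L8 := by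
  obtain ⟨X, h1, h2, h3⟩ := tau_class (g := g) (by rw [hg])
  have h4 := h3 1
  rw [pow_one] at h4
  rw [h4, h3, h3]
  exact ((by decide +kernel : ∀ X ∈ cl8, (∀ i : Fin 8, 8 ∣ 4 * X.getD i 0) ∨
      ((cnt 8 X 1 0 : ℤ) - cnt 8 X 1 4, (cnt 8 X 2 0 : ℤ) - cnt 8 X 2 4,
        (cnt 8 X 4 0 : ℤ) - cnt 8 X 4 4) ∈ L8) X h1).resolve_left fun h => by
    have := h2 _ h
    rw [hg] at this
    omega

open Classical in
theorem count_one {n : ℕ} {C : List (List ℕ)} (hC : (n, C) ∈ tb) (h3 : ¬ 3 ∣ n) (h1 : n ≠ 1)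
    {P : ℕ → Prop} (hP : ∀ X ∈ C, (∀ i : Fin 8, n ∣ 1 * X.getD i 0) ∨ P (cnt n X 1 0)) {g : G8}
    (hg : orderOf g = n) : P ((ad g).charpoly.roots.count 1) := by
  obtain ⟨ζ, hζ⟩ := exists_zeta h3
  obtain ⟨X, h4, h5, h6⟩ := exists_class hC hg.dvd hζ
  have h7 := h6 1 0
  rw [pow_one, pow_zero] at h7
  rw [h7]
  exact (hP X h4).resolve_left fun h => h1 (hg ▸ Nat.dvd_one.1 (h5 _ h))

open Classical in
theorem count5 {g : G8} (hg : orderOf g = 5) :
    (ad g).charpoly.roots.count 1 = 48 ∨ (ad g).charpoly.roots.count 1 = 68 :=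
  count_one (C := cl5) (by decide) (by decide) (by decide) (P := fun m => m = 48 ∨ m = 68)
    (by decide +kernel) hg

open Classical in
theorem count11 {g : G8} (hg : orderOf g = 11) : (ad g).charpoly.roots.count 1 = 28 :=
  count_one (C := cl11) (by decide) (by decide) (by decide) (P := fun m => m = 28)
    (by decide +kernel) hg

open Classical in
theorem count31 {g : G8} (hg : orderOf g = 31) : (ad g).charpoly.roots.count 1 = 8 :=
  count_one (C := cl31) (by decide) (by decide) (by decide) (P := fun m => m = 8)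
    (by decide +kernel) hg

/-- An element of order 41 is not conjugate to its fourth power. -/
theorem not_isConj41 {g : G8} (hg : orderOf g = 41) : ¬ IsConj g (g ^ 4) := fun h => by
  classical
  obtain ⟨ζ, hζ⟩ := exists_zeta (n := 41) (by decide)
  obtain ⟨X, h4, h5, h6⟩ := exists_class (C := cl41) (by decide) hg.dvd hζ
  obtain ⟨z, hz⟩ := isConj_iff.1 h
  have h7 : (ad (g ^ 4)).charpoly = (ad (g ^ 1)).charpoly := by
    rw [← hz, pow_one, map_mul, map_mul]
    exact LinearEquiv.charpoly_conj (LinearEquiv.ofLinearMap (ad z) (ad z⁻¹)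
      (by rw [← End.mul_eq_comp, ← map_mul, mul_inv_cancel, map_one]; rfl)
      (by rw [← End.mul_eq_comp, ← map_mul, inv_mul_cancel, map_one]; rfl)) _
  rcases (by decide +kernel : ∀ X ∈ cl41, (∀ i : Fin 8, 41 ∣ 1 * X.getD i 0) ∨
    cnt 41 X 4 1 ≠ cnt 41 X 1 1 ∨ cnt 41 X 4 4 ≠ cnt 41 X 1 4 ∨ cnt 41 X 4 16 ≠ cnt 41 X 1 16 ∨
      cnt 41 X 4 23 ≠ cnt 41 X 1 23) X h4 with e | e
  · have := h5 _ e
    rw [hg] at this
    omega
  · simp only [← h6, h7, ne_eq, not_true, or_self] at e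

theorem no_psp6 (H : Subgroup G8) : IsEmpty (↥H ≃* Cfsg.PSp 3 (ZMod 3)) :=
  no_sp6 two_ne ad finrank_ad tau2 tau8 H

end H14.E8
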