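import Cfsg.Agent.H14.NF0

/-! Tower CB (S1308, case B does not occur): definitions and job statements. Proofs: `blueprints/CB.md`. -/

set_option autoImplicit false

namespace H14.CB

open Cfsg Subgroup MulAction H14 H98 H1.Gold H31.S2 H14.GC H14.FE H14.NF
open scoped commutatorElement

universe u

section Defs

variable {G : Type u} [Group G]

/-- A full line `E T` at the point `E` with its group `P`. -/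
structure Ln (Q E Q₁ T P : Subgroup G) : Prop where
  col : Col Q E Q E Q₁ T
  pg : PG1 Q E T P
  fu : Fu E T P

/-- The second elementary subgroup of `P T`. -/
structure Sec (E T P S : Subgroup G) : Prop where
  le : S ≤ P ⊔ T
  el : El S
  lE : E ≤ S
  cov1 : ∀ t ∈ T, ∃ y ∈ P, t * y ∈ S ∧ (t ≠ 1 → y ∉ E)
  cov2 : ∀ y ∈ P, ∃ t ∈ T, t * y ∈ S
  inv : ∀ x ∈ P ⊔ T, x * x = 1 → x ∈ E ⊔ T ∨ x ∈ S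
  inf : S ⊓ (E ⊔ T) ≤ E

/-- `T'` acts on `P T` as `S` does. -/
structure As (T P S T' : Subgroup G) : Prop where
  cS : T' ≤ cen S
  fw : ∀ a ∈ T', ∃ c ∈ S, a * c ∈ cen (P ⊔ T)
  bw : ∀ c ∈ S, ∃ a ∈ T', a * c ∈ cen (P ⊔ T)

/-- The element `m` moves `r` to `r z`. -/
structure Mm (E T Z : Subgroup G) (r z m : G) : Prop where
  cT : m ∈ cen T
  cZ : m ∈ cen Z
  mv : m * r * m⁻¹ = r * z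
  cm : ∀ s ∈ E, ⁅s, m⁆ ∈ Z

/-- A plane with radical `Z`. -/
structure Pl (E T P Z : Subgroup G) : Prop where
  cP : Z ≤ cen P
  cT : Z ≤ cen T
  el : El Z
  dj : Z ⊓ E = ⊥
  card : Nat.card Z = Nat.card E
  mv : ∀ r ∈ E, r ≠ 1 → ∀ z ∈ Z, ∃ m, Mm E T Z r z m

def Pl2 (E T P Z : Subgroup G) : Prop :=
  ∀ r ∈ E, r ≠ 1 → ∀ z ∈ Z, ∃ m, Mm E T Z r z m ∧ (z ≠ 1 → cj m P ≤ cen P)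

/-- Two perpendicular neighbours `T`, `T₃` of `E`. -/
structure Pp (Q E Q₁ T P Q₃ T₃ P' : Subgroup G) : Prop where
  col : Col Q E Q E Q₃ T₃
  ne : Q₃ ≠ Q₁
  cT : T₃ ≤ cen T
  cm : Cm3 T₃ P E
  pg : PG1 Q₁ T E P'
  fu : Fu T E P'
  cP : P' ≤ cen T₃
  as : ∀ a ∈ T₃, ∃ t ∈ T, t * a ∈ cen P

/-- A group transitive on the involutions of `E`. -/
def Tr (E T P C : Subgroup G) : Prop := ∀ r ∈ E, ∀ s ∈ E, r ≠ 1 → s ≠ 1 →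
  ∃ h ∈ nor P ⊓ nor (E ⊔ T) ⊓ cen C, h * r * h⁻¹ = s

end Defs

/-- A statement about all point geometries. -/
def AllT (F : ∀ (G : Type u) [Group G] (_ _ : Subgroup G), Prop) : Prop :=
  ∀ (G : Type u) [Group G] [Finite G] (Q E : Subgroup G), TG Q E → F G Q E

def JSame : Prop := AllT.{u} fun _ _ Q E => ∀ Q₁ T P, Ln Q E Q₁ T P → ∀ Q₂ T₂, Pt Q E Q₂ T₂ → Q₂ ≠ Q →
  T₂ ≤ cen (E ⊔ T) → (∃ a ∈ T₂, a ≠ 1 ∧ a ∈ E ⊔ T) → T₂ ≤ E ⊔ T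

def JAct : Prop := AllT.{u} fun G _ Q E => ∀ Q₁ T P, Ln Q E Q₁ T P → ∀ x : G, x ∈ cen E →
  (∀ t ∈ T, ⁅t, x⁆ ∈ E) → ∃ y ∈ P, ∀ t ∈ T, ⁅t, x⁆ = ⁅t, y⁆

def JLn : Prop := AllT.{u} fun _ _ Q E => ∀ Q₁ T P, Ln Q E Q₁ T P →
  Nat.card P = Nat.card E * Nat.card E ∧ ∀ Q₂ T₂, Col Q E Q E Q₂ T₂ → Cm3 T₂ P E → Ln Q E Q₂ T₂ P

def JPerp : Prop := AllT.{u} fun _ _ Q E => ∀ Qa Ea Qb Eb U, Pt Q E Qa Ea → Pt Q E Qb Eb → Qa ≠ Qb →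
  Eb ≤ cen Ea → U ≤ Qa ⊓ cen Ea → IsPGroup 2 U → Cm3 Eb U Ea →
  ((∃ x ∈ U, x ∉ Ea ∧ x ∈ nor Qb) ∨
    ∃ x ∈ Qb ⊓ cen Eb, x ∉ Eb ∧ (∃ n : ℕ, x ^ 2 ^ n = 1) ∧ x ∈ nor Qa) → U ≤ cen Eb

def JTr : Prop := AllT.{u} fun _ _ Q E => ∀ Q₁ T P P', Ln Q E Q₁ T P → PG1 Q₁ T E P' → ∀ x ∈ P', x ∉ T →
  (∀ t ∈ T, ∃ r ∈ E, ⁅r, x⁆ = t) ∧ P ⊔ zpowers x ≤ nor (E ⊔ T) ∧
  ∀ r ∈ E, ∀ s ∈ E, r ≠ 1 → s ≠ 1 → ∃ g ∈ P ⊔ zpowers x, g * r * g⁻¹ = s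

def JH1 : Prop := JAct.{u} → JTr.{u} → AllT.{u} fun _ _ Q E => ∀ Q₁ T P P' C, Ln Q E Q₁ T P →
  PG1 Q₁ T E P' → ∀ x ∈ P', x ∉ T → P ≤ cen C → x ∈ cen C → Tr E T P C

def JS1 : Prop := AllT.{u} fun _ _ Q E => FU Q E → ∀ Q₁ T Q₂ T' P, Sp Q E Q₁ T Q₂ T' → Ln Q E Q₁ T P →
  El ((P ⊔ T) ⊓ cen T') ∧ ∀ t ∈ T, ∀ a ∈ T', t ≠ 1 → a ≠ 1 → ⁅t, a⁆ ≠ 1

/-- The output of `JS1`. -/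
def S1 {G : Type u} [Group G] (T T' P : Subgroup G) : Prop :=
  El ((P ⊔ T) ⊓ cen T') ∧ ∀ t ∈ T, ∀ a ∈ T', t ≠ 1 → a ≠ 1 → ⁅t, a⁆ ≠ 1

def JS2 : Prop := JAct.{u} → JLn.{u} → AllT.{u} fun _ _ Q E => ∀ Q₁ T Q₂ T' P, Sp Q E Q₁ T Q₂ T' →
  Ln Q E Q₁ T P → Ln Q E Q₂ T' P → S1 T T' P → Sec E T P ((P ⊔ T) ⊓ cen T')

def JCard : Prop := AllT.{u} fun _ _ Q E => ∀ Q₁ T P S, Ln Q E Q₁ T P → Sec E T P S →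
  Nat.card S ≤ Nat.card E * Nat.card E ∧ S ⊓ cen P ≤ E ∧ (∀ S', Sec E T P S' → S' = S) ∧
  ∀ h ∈ nor P ⊓ nor (E ⊔ T), h ∈ nor S ∧ h ∈ nor E ∧ h ∈ nor Q ∧ h ∈ nor (P ⊔ T)

def JS3 : Prop := JAct.{u} → JCard.{u} → AllT.{u} fun _ _ Q E => ∀ Q₁ T Q₂ T' P S, Sp Q E Q₁ T Q₂ T' →
  Ln Q E Q₁ T P → Ln Q E Q₂ T' P → Sec E T P S → T' ≤ cen S → As T P S T'

def JPl1 : Prop := JLn.{u} → JPerp.{u} → JTr.{u} → AllT.{u} fun _ _ Q E => FU Q E →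
  ∀ Q₁ T P Q₂ T₂, Ln Q E Q₁ T P → Ln Q E Q₂ T₂ P → T₂ ≤ cen T → ¬ T₂ ≤ E ⊔ T →
  (∀ t ∈ T, ∃ a ∈ T₂, t * a ∈ cen P) →
  ∃ Q₃ T₃ P', Pp Q E Q₁ T P Q₃ T₃ P' ∧ T₃ ≤ E ⊔ T₂ ∧ T₂ ≤ E ⊔ T₃

def JPl2 : Prop := JPerp.{u} → AllT.{u} fun _ _ Q E => FU Q E → ∀ Q₁ T P Q₃ T₃ P', Ln Q E Q₁ T P →
  Pp Q E Q₁ T P Q₃ T₃ P' → ∃ Z ≤ T ⊔ T₃, T₃ ≤ T ⊔ Z ∧ Pl E T P Z

def JCm : Prop := ∀ (G : Type u) [Group G] [Finite G] (A B V O : Subgroup G), IsPGroup 2 A → IsPGroup 2 B →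
  IsPGroup 2 V → V ≤ nor A → V ≤ nor B → Odd (Nat.card O) → A ⊔ B ⊔ V ≤ nor O → Cm3 A B O →
  ∃ o ∈ O, o ∈ cen V ∧ cj o B ≤ cen A

def JAdj : Prop := JCm.{u} → AllT.{u} fun _ _ Q E => ∀ Q₁ T P Z, Ln Q E Q₁ T P → Pl E T P Z → Pl2 E T P Z

def JF1 : Prop := ∀ (G : Type u) [Group G] [Finite G] (W Q₂ : Subgroup G) (a : G), IsPGroup 2 W →
  (∀ d ∈ W, d ≠ 1 → NI (Q₂ ⊓ cj d Q₂)) → a ∈ Q₂ → a ^ 4 = 1 → (∀ d ∈ W, a ∈ nor (cj d Q₂)) →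
  ∃ o ∈ nor Q₂, ∀ d ∈ W, Commute (o * a * o⁻¹) (d * (o * a * o⁻¹) * d⁻¹)

def F3 : Prop := AllT.{u} fun G _ Q E => ∀ Q₁ E₁ Q₂ E₂, Pt Q E Q₁ E₁ → Pt Q E Q₂ E₂ →
  (∀ d ∈ E₁, d ≠ 1 → d ∉ nor Q₂) → ∀ a : G, a ∈ Q₂ → a * a ∈ E₂ → a * a ≠ 1 →
  ¬ ∀ d ∈ E₁, a ∈ nor (cj d Q₂)

def JF2 : Prop := JF1.{u} → F3.{u}

/-- `T'` lies in `P T` outside `E T`. -/
def Pa {G : Type u} [Group G] (E T P T' : Subgroup G) : Prop :=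
  ∀ d ∈ T', d ≠ 1 → ∃ t ∈ T, ∃ y ∈ P, y ∉ E ∧ d = t * y

def JKa : Prop := AllT.{u} fun _ _ Q E => FU Q E → ∀ Q₁ T P Z Q₂ T', Ln Q E Q₁ T P → Pl E T P Z →
  Pl2 E T P Z → Col Q E Q E Q₂ T' → Pa E T P T' → ∃ a ∈ Q₂ ⊓ cen T' ⊓ cen Z, a * a ∈ T' ∧ a * a ≠ 1

def JKb : Prop := F3.{u} → AllT.{u} fun _ _ Q E => ∀ Q₁ T P Z Q₂ T', Ln Q E Q₁ T P → Pl E T P Z →
  Pl2 E T P Z → Col Q E Q E Q₂ T' → Pa E T P T' → ¬ ∃ a ∈ Q₂ ⊓ cen T' ⊓ cen Z, a * a ∈ T' ∧ a * a ≠ 1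

def JPar1 : Prop := JTr.{u} → AllT.{u} fun _ _ Q E => FU Q E → ∀ Q₁ T P S Q₂ T', Ln Q E Q₁ T P →
  Sec E T P S → Col Q E Q E Q₂ T' → As T P S T' → ∃ C P', El C ∧ C ≤ cen (P ⊔ T) ∧ C ≤ S ⊔ T' ∧
    T' ≤ S ⊔ C ∧ PG1 Q₁ T E P' ∧ ∃ x ∈ P', x ∉ T ∧ x ∈ cen C

/-- The setting of the partner lemma. -/
structure Pr {G : Type u} [Group G] (Q E Q₁ T P S C : Subgroup G) : Prop where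
  ln : Ln Q E Q₁ T P
  sec : Sec E T P S
  el : El C
  cC : C ≤ cen (P ⊔ T)
  tr : Tr E T P C

def JPar2 : Prop := JSame.{u} → JCard.{u} → AllT.{u} fun _ _ Q E => ∀ Q₁ T P S C Qa Ta,
  Pr Q E Q₁ T P S C → Ln Q E Qa Ta P → Ta ≤ S ⊔ C → (∃ x ∈ (E ⊔ Ta) ⊓ S, x ∉ E) →
  ∀ h ∈ nor P ⊓ nor (E ⊔ T) ⊓ cen C, cj h Ta ≤ E ⊔ Ta

def JPar3 : Prop := JCard.{u} → AllT.{u} fun _ _ Q E => ∀ Q₁ T P S C Qa Ta,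
  Pr Q E Q₁ T P S C → Col Q E Q E Qa Ta → (∃ x ∈ (E ⊔ Ta) ⊓ S, x ∉ E) →
  (∀ h ∈ nor P ⊓ nor (E ⊔ T) ⊓ cen C, cj h Ta ≤ E ⊔ Ta) → E ⊔ Ta = S

def JPar4 : Prop := JCard.{u} → AllT.{u} fun _ _ Q E => ∀ Q₁ T P S C Q₂ T', Pr Q E Q₁ T P S C →
  Ln Q E Q₂ T' P → As T P S T' → T' ≤ S ⊔ C → ∃ h ∈ nor P ⊓ nor (E ⊔ T) ⊓ cen C,
    Ln Q E (cj h Q₂) (cj h T') P ∧ cj h T' ≤ S ⊔ C ∧ cj h T' ≤ cen T' ∧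
    (∀ t ∈ T', ∃ a ∈ cj h T', t * a ∈ cen P) ∧ ∃ x ∈ (T' ⊔ cj h T') ⊓ S, x ∉ E

def JPar5 : Prop := AllT.{u} fun G _ Q E => ∀ Q₁ T P Z, Ln Q E Q₁ T P → Pl E T P Z →
  ∀ x ∈ E ⊔ T ⊔ Z, x ∉ cen P → ∃ g : G, Col Q E Q E (cj g Q₁) (cj g T) ∧ cj g T ≤ E ⊔ T ⊔ Z ∧ x ∈ cj g T

def JZK : Prop := ∀ (X : Type u) [Group X] [Finite X] (A T D : Subgroup X), A.Normal → El T → A ⊔ T = ⊤ →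
  IsSyl 2 T D → NI (D ⊓ A) → (∀ d ∈ D, Inv d → cen1 d ≤ nor D) →
  ∀ t ∈ T, t ≠ 1 → (∃ x : X, ⁅x, t⁆ ∉ opp 2 (⊤ : Subgroup X)) → ∃ k ∈ A, cj k T ≤ cen T ∧ cj k T ≠ T

/-- The output of `JX1`. -/
def XD {G : Type u} [Group G] (K E T B : Subgroup G) : Prop :=
  B ≤ K ∧ NI B ∧ T ≤ nor B ∧ NI ((T ⊔ B) ⊓ (K ⊔ E)) ∧
  ∀ x ∈ K ⊔ E ⊔ T, ∀ t ∈ T, t ≠ 1 → ⁅t, x⁆ ∈ E → x ∈ nor (E ⊔ T ⊔ B)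

def JX1 : Prop := AllG.{u} fun _ _ K => IsStandardSubgroup K → ∀ E, TG (cen K) E → OutK K E →
  ∀ Q₁ T P, Ln (cen K) E Q₁ T P → T ≤ nor K ∧ XD K E T (Q₁ ⊓ K)

def JX2 : Prop := JZK.{u} → AllG.{u} fun _ _ K => IsQuasisimple K → ∀ E T B, El E → El T → T ≠ ⊥ →
  E ≤ cen K → T ≤ cen E → T ≤ nor K → T ⊓ cen K = ⊥ → XD K E T B →
  ∃ k ∈ K, Cm3 T (cj k T) E ∧ ¬ cj k T ≤ E ⊔ T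

def JSq : Prop := JAct.{u} → AllT.{u} fun _ _ Q E => ∀ Q₁ T P S, Ln Q E Q₁ T P → Sec E T P S →
  ∀ k ∈ cen P, ¬ cj k T ≤ S

end H14.CB
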