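import Cfsg.Agent.H14.FESpec

/-! Tower FE: kit. -/

set_option autoImplicit false
set_option linter.unusedSectionVars false

namespace H14.FE

open Cfsg Subgroup MulAction H14 H98 H1.Gold H31.S2 H14.GC
open scoped commutatorElement

universe u

section Gen

variable {G : Type u} [Group G] [Finite G] {A B B' P U H Y : Subgroup G} {d e x y g : G}

theorem exists_inv_of_even (h : 2 ∣ Nat.card Y) : ∃ d ∈ Y, Inv d := by
  obtain ⟨x, hx⟩ := exists_prime_orderOf_dvd_card' (G := Y) 2 h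
  exact ⟨x, x.2, inv_iff.2 (by rw [orderOf_coe, hx])⟩

theorem NI.odd (h : NI Y) : Odd (Nat.card Y) := by
  by_contra e
  obtain ⟨d, hd, h2⟩ := exists_inv_of_even (Y := Y) (even_iff_two_dvd.1 (Nat.not_odd_iff_even.1 e))
  exact h d hd h2

theorem ni_of_odd (h : Odd (Nat.card Y)) : NI Y := fun d hd h2 => by
  have := orderOf_dvd_natCard (⟨d, hd⟩ : Y)
  rw [← orderOf_coe, inv_iff.1 h2] at this
  exact not_two_dvd_of_odd h this

theorem exists_inv_two (hP : IsPGroup 2 P) (h : P ≠ ⊥) : ∃ d ∈ P, Inv d := by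
  obtain ⟨n, hn⟩ := hP.exists_card_eq
  refine exists_inv_of_even ?_
  rcases n with _ | n
  · exact absurd (card_eq_one.1 (by simpa using hn)) h
  · rw [hn]; exact dvd_pow_self 2 n.succ_ne_zero

/-- A 2-element of a group without involutions is trivial. -/
theorem NI.eq_one (h : NI Y) (hP : IsPGroup 2 P) (hx : x ∈ P) (hy : x ∈ Y) : x = 1 := by
  by_contra e
  obtain ⟨d, hd, h2⟩ := exists_inv_two (P := P ⊓ Y) (hP.to_le inf_le_left)
    fun h0 => e (mem_bot.1 (h0 ▸ (⟨hx, hy⟩ : x ∈ P ⊓ Y)))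
  exact h d hd.2 h2

theorem four_exists_inv (h : Four Y) : ∃ d ∈ Y, Inv d := let ⟨s, hs, _, _, h1, _⟩ := h; ⟨s, hs, h1⟩

theorem syl_ne_bot (h : IsSyl 2 P Y) (hd : d ∈ Y) (h2 : Inv d) : P ≠ ⊥ := by
  obtain ⟨g, -, hg⟩ := h.exists_cj_le h2.isPGroup (zpowers_le.2 hd)
  rintro rfl
  exact (h2.conj g).1 (mem_bot.1 (hg (conj_mem_cj (mem_zpowers d))))

theorem syl_four (h : IsSyl 2 P Y) (h4 : Four Y) : Four P := by
  obtain ⟨E, hE, -, hl⟩ := h4.exists_e4
  obtain ⟨g, -, hg⟩ := h.exists_cj_le hE.1.isPGroup hl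
  exact ((four_of_e4 hE).cj g).mono hg

/-- A 2-group that normalises `Y` has an invariant Sylow subgroup in `Y`. -/
theorem exists_inv_syl (hU : IsPGroup 2 U) (hn : U ≤ nor Y) :
    ∃ P, IsSyl 2 P (Y ⊔ U) ∧ U ≤ P ∧ IsSyl 2 (P ⊓ Y) Y := by
  obtain ⟨P, hP, hl⟩ := exists_isSyl_le hU (le_sup_right : U ≤ Y ⊔ U)
  exact ⟨P, hP, hl, hP.inf_of_le_normalizer le_sup_left (hP.le.trans (sup_le le_normalizer hn))⟩

/-- A 2-group that normalises a nontrivial 2-group centralises an involution of it. -/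
theorem exists_inv_cen_two (hH : IsPGroup 2 H) (hP : IsPGroup 2 P) (h : H ≤ nor P) (h1 : P ≠ ⊥) :
    ∃ s ∈ P, Inv s ∧ s ∈ cen H := by
  have hX : IsPGroup 2 (H ⊔ P : Subgroup G) := IsPGroup.to_sup_of_normal_right' hH hP h
  set X : Subgroup G := H ⊔ P
  have hn : (P.subgroupOf X).Normal :=
    (normal_subgroupOf_iff_le_normalizer le_sup_right).2 (sup_le h le_normalizer)
  have hne : P.subgroupOf X ≠ ⊥ := fun e =>
    h1 (disjoint_self.1 ((subgroupOf_eq_bot.1 e).mono_right le_sup_right))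
  haveI : Group.IsNilpotent X := hX.isNilpotent
  obtain ⟨⟨x, hxP, hxZ⟩, h1⟩ := (ne_bot_iff_exists_ne_one).1
    (H2.inf_center_ne_bot_of_isNilpotent (P.subgroupOf X) hne)
  have hc : (x : G) ∈ cen H := mem_centralizer_iff.2 fun y hy =>
    congrArg Subtype.val (mem_center_iff.1 hxZ ⟨y, mem_sup_left hy⟩)
  obtain ⟨s, hs, h2⟩ := exists_inv_two (P := P ⊓ cen H) (hP.to_le inf_le_left)
    fun h0 => h1 (Subtype.ext (Subtype.ext (mem_bot.1 (h0 ▸ (⟨hxP, hc⟩ : (x : G) ∈ P ⊓ cen H)))))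
  exact ⟨s, hs.1, h2, hs.2⟩

/-- A 2-group that normalises a group of even order centralises an involution of it. -/
theorem exists_inv_cen (hU : IsPGroup 2 U) (hn : U ≤ nor Y) (hd : d ∈ Y) (h2 : Inv d) :
    ∃ s ∈ Y, Inv s ∧ s ∈ cen U := by
  obtain ⟨P, hP, hl, hs⟩ := exists_inv_syl hU hn
  obtain ⟨s, h1, h3, h4⟩ := exists_inv_cen_two hU hs.isPGroup
    (le_normalizer_inf (hl.trans le_normalizer) hn) (syl_ne_bot hs hd h2)
  exact ⟨s, h1.2, h3, h4⟩

theorem comm_mem_left (hx : x ∈ B) (hy : y ∈ nor B) : ⁅x, y⁆ ∈ B := by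
  rw [commutatorElement_def, mul_assoc, mul_assoc, ← mul_assoc y]
  exact mul_mem hx (conj_mem_of_mem_normalizer hy (inv_mem hx))

theorem comm_mem_right (hx : x ∈ nor B) (hy : y ∈ B) : ⁅x, y⁆ ∈ B :=
  mul_mem (conj_mem_of_mem_normalizer hx hy) (inv_mem hy)

theorem comm_mem (hx : x ∈ P) (hy : y ∈ P) : ⁅x, y⁆ ∈ P := comm_mem_left hx (le_normalizer hy)

omit [Finite G] in
theorem vx_cj (h : Vx A B) (g : G) : Vx A (cj g B) := by
  obtain ⟨a, rfl⟩ := h
  exact ⟨g * a, cj_cj g a A⟩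

omit [Finite G] in
theorem vx_self (A : Subgroup G) : Vx A A := ⟨1, (cj_one A).symm⟩

omit [Finite G] in
theorem Vx.exists_cj (h : Vx A B) (h' : Vx A B') : ∃ g : G, cj g B = B' := by
  obtain ⟨a, rfl⟩ := h
  obtain ⟨b, rfl⟩ := h'
  exact ⟨b * a⁻¹, by rw [cj_cj, inv_mul_cancel_right]⟩

theorem MN.eq_of_mem (h : MN A) (hB : Vx A B) (hB' : Vx A B') (hd : d ∈ B) (hd' : d ∈ B') (h2 : Inv d) :
    B = B' := by
  by_contra e
  exact h.ti B B' hB hB' e d ⟨hd, hd'⟩ h2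

theorem MN.cen_le (h : MN A) (hB : Vx A B) (hd : d ∈ B) (h2 : Inv d) : cen1 d ≤ nor B := fun g hg =>
  cj_eq_self_iff.1 (h.eq_of_mem (vx_cj hB g) hB
    (by have := conj_mem_cj (g := g) hd; rwa [mem_cen1.1 hg, mul_inv_cancel_right] at this) hd h2)

theorem MN.sym' (h : MN A) (hB : Vx A B) (hB' : Vx A B') (hd : d ∈ B) (h2 : Inv d) (hn : d ∈ nor B') :
    B' ≤ nor B := by
  obtain ⟨e, he, e2⟩ := four_exists_inv (h.four B' hB')
  obtain ⟨s, h1, h3, h4⟩ := exists_inv_cen h2.isPGroup (zpowers_le.2 hn) he e2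
  exact h.mn B' B hB' hB s h1 h3 (h.cen_le hB hd h2 (cen_le_cen1 (mem_zpowers d) h4))

theorem MN.sym (h : MN A) (hB : Vx A B) (hB' : Vx A B') (hn : B ≤ nor B') : B' ≤ nor B := by
  obtain ⟨d, hd, h2⟩ := four_exists_inv (h.four B hB)
  exact h.sym' hB hB' hd h2 (hn hd)

theorem MN.comm_mem (h : MN A) (hB : Vx A B) (hB' : Vx A B') (hn : B ≤ nor B') (hx : x ∈ B) (hy : y ∈ B') :
    ⁅x, y⁆ ∈ B ⊓ B' :=
  ⟨comm_mem_left hx (h.sym hB hB' hn hy), comm_mem_right (hn hx) hy⟩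

theorem MN.f1 (h : MN A) (hB : Vx A B) (hB' : Vx A B') (hne : B ≠ B') (hn : B ≤ nor B')
    (hP : IsPGroup 2 P) (hx : x ∈ B) (hy : y ∈ B') (hx' : x ∈ P) (hy' : y ∈ P) : x * y = y * x :=
  (commutatorElement_eq_one_iff_mul_comm).1
    ((h.ti B B' hB hB' hne).eq_one hP (FE.comm_mem hx' hy') (h.comm_mem hB hB' hn hx hy))

theorem MN.inf_le_opp (h : MN A) (hB : Vx A B) (hB' : Vx A B') (hne : B ≠ B') (hn : B ≤ nor B') :
    B ⊓ B' ≤ opp 2 B :=
  le_opp_of_odd inf_le_left (le_normalizer_inf le_normalizer hn) (h.ti B B' hB hB' hne).odd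

/-- Vertices that meet a 2-group are adjacent. -/
theorem MC.adj (h : MC A) (hP : IsPGroup 2 P) (hB : B ∈ CP A P) (hB' : B' ∈ CP A P) : B ≤ nor B' := by
  obtain ⟨d, hd, d2⟩ := exists_inv_two (hP.to_le inf_le_left) hB.2
  obtain ⟨e, he, e2⟩ := exists_inv_two (hP.to_le inf_le_left) hB'.2
  exact h.f3 B B' hB.1 hB'.1 d hd.2 e he.2 d2 e2 P hP hd.1 he.1

theorem MC.clq (h : MC A) (hP : IsPGroup 2 P) : Clq A (CP A P) :=
  ⟨fun _ hB => hB.1, fun _ hB _ hB' => h.adj hP hB hB'⟩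

omit [Finite G] in
theorem mem_CP (hB : Vx A B) (hx : x ∈ P) (hx' : x ∈ B) (h1 : x ≠ 1) : B ∈ CP A P :=
  ⟨hB, fun e => h1 (mem_bot.1 (e ▸ (⟨hx, hx'⟩ : x ∈ P ⊓ B)))⟩

/-- Elements of distinct vertices in a 2-group commute. -/
theorem MC.comm (h : MC A) (hB : Vx A B) (hB' : Vx A B') (hne : B ≠ B') (hP : IsPGroup 2 P)
    (hx : x ∈ B) (hy : y ∈ B') (hx' : x ∈ P) (hy' : y ∈ P) : x * y = y * x := by
  by_cases x1 : x = 1
  · simp [x1]
  by_cases y1 : y = 1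
  · simp [y1]
  exact h.toMN.f1 hB hB' hne (h.adj hP (mem_CP hB hx' hx x1) (mem_CP hB' hy' hy y1)) hP hx hy hx' hy'

theorem f3_of (h : MN A) (h3 : F3a A) : MC A := by
  refine ⟨h, fun B B' hB hB' d hd e he d2 e2 P hP dP eP => ?_⟩
  generalize hn : orderOf (d * e) = n
  induction n using Nat.strong_induction_on generalizing B' e with
  | _ n ih =>
  by_cases hN : e ∈ nor B
  · exact h.sym' hB' hB he e2 hN
  refine absurd (ih (orderOf (d * (e * d * e⁻¹))) ?_ _ (vx_cj hB e) _ (conj_mem_cj hd) (d2.conj e)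
    (mul_mem (mul_mem eP dP) (inv_mem eP)) rfl) (h3 B B' hB hB' e he e2 hN)
  have e1 : d * (e * d * e⁻¹) = (d * e) ^ 2 := by rw [e2.inv_eq, pow_two]; group
  obtain ⟨k, hk⟩ := (IsPGroup.iff_orderOf.1 hP) ⟨d * e, mul_mem dP eP⟩
  rw [← orderOf_coe] at hk
  change orderOf (d * e) = _ at hk
  rcases k with _ | k
  · exact absurd (by
      rw [← inv_eq_of_mul_eq_one_right (orderOf_eq_one_iff.1 (by simpa using hk) : d * e = 1)]
      exact le_normalizer (inv_mem hd)) hN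
  · rw [e1, ← hn, orderOf_pow_of_dvd two_ne_zero (hk ▸ dvd_pow_self 2 k.succ_ne_zero)]
    exact Nat.div_lt_self (orderOf_pos _) one_lt_two

variable {β : Subgroup G → Prop}

omit [Finite G] in
theorem Big.mono (h : Big β H) (hl : H ≤ Y) : Big β Y :=
  let ⟨U, h1, h2⟩ := h; ⟨U, h1.trans hl, h2⟩

theorem Big.syl (hb : Bt β) (h : Big β H) (hP : IsSyl 2 P H) : Big β P := by
  obtain ⟨U, h1, h2, h3⟩ := h
  obtain ⟨g, -, hg⟩ := hP.exists_cj_le h2 h1
  exact ⟨_, hg, isPGroup_cj g h2, hb.cj U g h3⟩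

omit [Finite G] in
theorem Big.cj (hb : Bt β) (h : Big β H) (g : G) : Big β (cj g H) :=
  let ⟨U, h1, h2, h3⟩ := h; ⟨_, cj_mono g h1, isPGroup_cj g h2, hb.cj U g h3⟩

omit [Finite G] in
theorem Big.not_el (hb : Bt β) (h : Big β H) : ¬ El H :=
  let ⟨U, h1, _, h3⟩ := h; fun e => hb.ne U h3 fun a ha => e a (h1 ha)

omit [Finite G] in
theorem Big.four (hb : Bt β) (h : Big β H) : Four H :=
  let ⟨U, h1, _, h3⟩ := h; (hb.four U h3).mono h1

end Gen

section PG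

variable {X : Type u} [Group X] [Finite X] {J Ω : Type u} [MulAction X J] [MulAction X Ω]
  {pt : J → Ω} {B : J → Subgroup X} {β : Subgroup X → Prop} {P H : Subgroup X} {x y u g : X}
  {i j : J} {a : Ω}

omit [Finite X] in
theorem triv_iff : Triv Ω g ↔ toPermHom X Ω g = 1 :=
  ⟨fun h => Equiv.ext h, fun h a => congrArg (fun f : Equiv.Perm Ω => f a) h⟩

omit [Finite X] in
theorem mem_ker_iff : g ∈ (toPermHom X Ω).ker ↔ Triv Ω g := triv_iff.symm

omit [Finite X] in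
theorem mem_Cm : g ∈ Cm Ω u ↔ toPermHom X Ω (g * u) = toPermHom X Ω (u * g) := by
  rw [map_mul, map_mul]; exact mem_cen1

omit [Finite X] in
theorem mem_Cm_of_comm (h : g * u = u * g) : g ∈ Cm Ω u := mem_Cm.2 (by rw [h])

omit [Finite X] in
theorem ker_le_Cm : (toPermHom X Ω).ker ≤ Cm Ω u := fun g hg => by
  rw [mem_Cm, map_mul, map_mul, MonoidHom.mem_ker.1 hg, one_mul, mul_one]

omit [Finite X] in
theorem Cm_congr (h : toPermHom X Ω x = toPermHom X Ω y) : Cm Ω x = Cm Ω y := by rw [Cm, Cm, h]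

omit [Finite X] in
theorem ker_le_stab (a : Ω) : (toPermHom X Ω).ker ≤ stabilizer X a := fun _ hg => mem_ker_iff.1 hg a

namespace PG

variable (h : PG pt B β)
include h

theorem B_le_stab (e : pt j = a) : B j ≤ stabilizer X a := fun x hx => by
  rw [mem_stabilizer_iff, ← e, ← h.pt_smul, h.mn j j rfl hx]

theorem stab_le_nor (j : J) : stabilizer X j ≤ nor (B j) := fun g hg =>
  cj_eq_self_iff.1 (by rw [← h.B_smul, hg])

theorem B_le_nor (e : pt i = pt j) : B i ≤ nor (B j) := (h.mn i j e).trans (h.stab_le_nor j)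

theorem exists_inv (j : J) : ∃ d ∈ B j, Inv d := four_exists_inv ((h.big j).four h.bt)

theorem eq_of_mem (hi : x ∈ B i) (hj : x ∈ B j) (h2 : Inv x) : i = j := by
  by_contra e
  exact h.ti i j e x ⟨hi, hj⟩ h2

theorem nor_eq (j : J) : nor (B j) = stabilizer X j := by
  refine le_antisymm (fun g hg => ?_) (h.stab_le_nor j)
  obtain ⟨d, hd, h2⟩ := h.exists_inv j
  exact h.eq_of_mem (by rw [h.B_smul, cj_eq_self hg]; exact hd) hd h2

theorem comm_mem (e : pt i = pt j) (hx : x ∈ B i) (hy : y ∈ B j) : ⁅x, y⁆ ∈ B i ⊓ B j :=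
  ⟨comm_mem_left hx (h.B_le_nor e.symm hy), comm_mem_right (h.B_le_nor e hx) hy⟩

theorem f1 (e : pt i = pt j) (hne : i ≠ j) (hP : IsPGroup 2 P) (hx : x ∈ B i) (hy : y ∈ B j)
    (hx' : x ∈ P) (hy' : y ∈ P) : x * y = y * x :=
  (commutatorElement_eq_one_iff_mul_comm).1
    ((h.ti i j hne).eq_one hP (FE.comm_mem hx' hy') (h.comm_mem e hx hy))

theorem not_triv (hx : x ∈ B j) (h2 : Inv x) : ¬ Triv Ω x := fun e => by
  obtain ⟨a, b, hab⟩ := h.two
  exact hab ((h.fix j x hx h2 a (e a)).trans (h.fix j x hx h2 b (e b)).symm)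

theorem ni_ker (j : J) : NI (B j ⊓ (toPermHom X Ω).ker) := fun _ hd h2 =>
  h.not_triv hd.1 h2 (mem_ker_iff.1 hd.2)

theorem faithful (hP : IsPGroup 2 P) (hx' : x ∈ P) (hx : x ∈ B j) (e : Triv Ω x) : x = 1 :=
  (h.ni_ker j).eq_one hP hx' ⟨hx, mem_ker_iff.2 e⟩

theorem B_le_Yp (e : pt j = a) : B j ≤ Yp pt B a := le_iSup₂_of_le j e le_rfl

theorem Yp_le_stab (a : Ω) : Yp pt B a ≤ stabilizer X a := iSup₂_le fun _ e => h.B_le_stab e

theorem Yp_le_nor (e : pt j = a) : Yp pt B a ≤ nor (B j) :=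
  iSup₂_le fun _ e' => h.B_le_nor (e'.trans e.symm)

theorem cj_Yp_le (g : X) (a : Ω) : cj g (Yp pt B a) ≤ Yp pt B (g • a) := by
  rw [cj_le_iff]
  refine iSup₂_le fun j e => ?_
  rw [← cj_le_iff, ← h.B_smul]
  exact h.B_le_Yp (by rw [h.pt_smul, e])

theorem Yp_nor (a : Ω) : stabilizer X a ≤ nor (Yp pt B a) := fun g hg =>
  mem_normalizer_of_cj_le (by have := h.cj_Yp_le g a; rwa [mem_stabilizer_iff.1 hg] at this)

theorem subN (e : pt j = a) : SubN (B j) (stabilizer X a) :=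
  (SubN.of_normal (h.B_le_Yp e) (h.Yp_le_nor e)).trans (SubN.of_normal (h.Yp_le_stab a) (h.Yp_nor a))

theorem syl (hH : H ≤ stabilizer X a) (hP : IsSyl 2 P H) (e : pt j = a) :
    IsSyl 2 (P ⊓ B j) (H ⊓ B j) := by
  have := hP.inf_subN ((h.subN e).inf_of_le hH)
  rwa [inf_comm (B j), ← inf_assoc, inf_of_le_left hP.le] at this

theorem syl' (hP : IsSyl 2 P (stabilizer X a)) (e : pt j = a) : IsSyl 2 (P ⊓ B j) (B j) :=
  hP.inf_subN (h.subN e)

theorem home1 (hx : x • a = a) (h1 : ¬ Triv Ω x) (hb : ∀ j, pt j = a → Big β (Cm Ω x ⊓ B j)) :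
    Cm Ω x ≤ stabilizer X a := by
  refine (h.home _ a ker_le_Cm hb).resolve_left fun e => h1 fun b => ?_
  obtain ⟨g, rfl⟩ := h.trans a b
  have := congrArg (fun f : Equiv.Perm Ω => f a) (mem_Cm.1 (e ▸ mem_top g : g ∈ Cm Ω x))
  simp only [toPermHom_apply, toPerm_apply, mul_smul, hx] at this
  exact this.symm

/-- An element that commutes modulo the kernel with a vertex involution fixes its point. -/
theorem Cm_le (hx : x ∈ B j) (h2 : Inv x) : Cm Ω x ≤ stabilizer X (pt j) := fun g hg => by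
  refine h.fix j x hx h2 _ ?_
  have := congrArg (fun f : Equiv.Perm Ω => f (pt j)) (mem_Cm.1 hg)
  simp only [toPermHom_apply, toPerm_apply, mul_smul, show x • pt j = pt j from h.B_le_stab rfl hx] at this
  exact this.symm

theorem Wp_nor (hP : P ≤ stabilizer X a) : P ≤ nor (Wp pt B P a) := fun g hg => by
  refine mem_normalizer_of_cj_le ?_
  rw [cj_le_iff]
  refine iSup₂_le fun j e => ?_
  rw [← cj_le_iff, cj_inf, cj_eq_self_of_mem hg, ← h.B_smul]
  exact le_iSup₂_of_le (g • j) (by rw [h.pt_smul, e]; exact hP hg) le_rfl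

end PG

omit [Finite X] in
theorem Wp_le (P : Subgroup X) (a : Ω) : Wp pt B P a ≤ P := iSup₂_le fun _ _ => inf_le_left

omit [Finite X] in
theorem Wp_le_Yp (P : Subgroup X) (a : Ω) : Wp pt B P a ≤ Yp pt B a :=
  iSup₂_le fun j e => inf_le_right.trans (le_iSup₂_of_le j e le_rfl)

end PG

end H14.FE
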