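import Cfsg.Agent.H14.CBSpec
import Cfsg.Agent.H14.FEKit

/-! Tower CB: the assembly of the jobs. -/

set_option autoImplicit false

namespace H14.CB

open Cfsg Subgroup MulAction H14 H98 H1.Gold H31.S2 H14.GC H14.FE H14.NF
open scoped commutatorElement

universe u

section Kit

variable {G : Type u} [Group G]

/-- The elements that centralise `E` and `A` modulo `E`. -/
def Cs (A E : Subgroup G) : Subgroup G where
  carrier := {y | y ∈ cen E ∧ ∀ t ∈ A, ⁅t, y⁆ ∈ E}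
  one_mem' := ⟨one_mem _, fun t _ => by simp⟩
  mul_mem' := by
    rintro a b ⟨ha, ha'⟩ ⟨hb, hb'⟩
    refine ⟨mul_mem ha hb, fun t ht => ?_⟩
    have e : ⁅t, a * b⁆ = ⁅t, a⁆ * (a * ⁅t, b⁆ * a⁻¹) := by simp only [commutatorElement_def]; group
    have c := (mem_centralizer_iff.1 ha) _ (hb' t ht)
    rw [e, ← c, mul_inv_cancel_right]
    exact mul_mem (ha' t ht) (hb' t ht)
  inv_mem' := by
    rintro a ⟨ha, ha'⟩
    refine ⟨inv_mem ha, fun t ht => ?_⟩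
    have e : ⁅t, a⁻¹⁆ = a⁻¹ * (⁅t, a⁆⁻¹ * a) := by simp only [commutatorElement_def]; group
    have c := (mem_centralizer_iff.1 ha) _ (inv_mem (ha' t ht))
    rw [e, c, inv_mul_cancel_left]
    exact inv_mem (ha' t ht)

theorem cm3_swap {A B C : Subgroup G} (h : Cm3 A B C) : Cm3 B A C := fun b hb a ha => by
  rw [← commutatorElement_inv]; exact inv_mem (h a ha b hb)

theorem le_Cs {A B E : Subgroup G} (h1 : B ≤ cen E) (h2 : Cm3 A B E) : B ≤ Cs A E :=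
  fun b hb => ⟨h1 hb, fun a ha => h2 a ha b hb⟩

theorem cm3_of_le {A B E : Subgroup G} (h : B ≤ Cs A E) : Cm3 A B E := fun a ha _ hb => (h hb).2 a ha

theorem cm3_of_cen {A B : Subgroup G} (E : Subgroup G) (h : B ≤ cen A) : Cm3 A B E := fun a ha b hb => by
  rw [commutatorElement_eq_one_iff_mul_comm.2 ((mem_centralizer_iff.1 (h hb)) a ha)]; exact one_mem _

theorem cen_swap {A B : Subgroup G} (h : B ≤ cen A) : A ≤ cen B := le_centralizer_iff.1 h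

theorem el_two {A : Subgroup G} (h : El A) : IsPGroup 2 A := fun x =>
  ⟨1, Subtype.ext (by simpa [pow_two] using h x.1 x.2)⟩

theorem el_cen {A : Subgroup G} (h : El A) : A ≤ cen A := fun a ha => mem_centralizer_iff.2 fun b hb => by
  have h1 := h a ha
  have h2 := h b hb
  have h3 := h _ (mul_mem hb ha)
  calc b * a = (b * a)⁻¹ := (inv_eq_of_mul_eq_one_right h3).symm
    _ = a * b := by rw [mul_inv_rev, inv_eq_of_mul_eq_one_right h1, inv_eq_of_mul_eq_one_right h2]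

theorem pt_el {Q E Q₁ T : Subgroup G} (hT : TG Q E) (h : Pt Q E Q₁ T) : El T := by
  obtain ⟨g, -, rfl⟩ := h
  rintro _ ⟨a, ha, rfl⟩
  rw [← map_mul, hT.el a ha, map_one]

theorem pt_le {Q E Q₁ T : Subgroup G} (hT : TG Q E) (h : Pt Q E Q₁ T) : T ≤ Q₁ := by
  obtain ⟨g, rfl, rfl⟩ := h
  exact map_mono hT.le

theorem pt_ne [Finite G] {Q E Q₁ T : Subgroup G} (hT : TG Q E) (h : Pt Q E Q₁ T) : T ≠ ⊥ := by
  obtain ⟨g, -, rfl⟩ := h
  obtain ⟨d, hd, h1, -⟩ := four_exists_inv hT.four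
  intro e
  have : (MulAut.conj g).toMonoidHom d ∈ cj g E := mem_map_of_mem _ hd
  rw [e, mem_bot] at this
  exact h1 ((MulAut.conj g).injective (this.trans (map_one _).symm))

theorem col_ni {Q E Q₁ T : Subgroup G} (hT : TG Q E) (h : Col Q E Q E Q₁ T) : NI (Q ⊓ Q₁) := by
  obtain ⟨g, e1, -⟩ := h.p2
  have := hT.ti 1 g (by rw [cj_one, ← e1]; exact h.ne)
  rwa [cj_one, ← e1] at this

theorem col_one {Q E Q₁ T : Subgroup G} (hT : TG Q E) (h : Col Q E Q E Q₁ T) {t : G} (ht : t ∈ T)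
    (hq : t ∈ Q) : t = 1 := by
  by_contra h1
  exact col_ni hT h t ⟨hq, pt_le hT h.p2 ht⟩ ⟨h1, pt_el hT h.p2 t ht⟩

end Kit

section Main

variable {G : Type u} [Group G] [Finite G] {Q E : Subgroup G}

theorem two_sup (hT : TG Q E) {Q₁ T Q₂ T' : Subgroup G} (sp : Sp Q E Q₁ T Q₂ T') :
    IsPGroup 2 ↥(T ⊔ T') := by
  have h1 : IsPGroup 2 ↥(E ⊔ T) := (el_two hT.el).to_sup_of_normal_left' (el_two (pt_el hT sp.c1.p2))
    (sp.c1.comm.trans (centralizer_le_normalizer _))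
  have h2 : T' ≤ nor (E ⊔ T) := fun a ha => by
    have hc := mem_centralizer_iff.1 (sp.c2.comm ha)
    refine mem_normalizer_of_cj_le ?_
    rw [cj_sup]
    refine sup_le ?_ ?_
    · rintro _ ⟨r, hr, rfl⟩
      have : (MulAut.conj a).toMonoidHom r = r := by
        show a * r * a⁻¹ = r
        rw [← hc r hr, mul_inv_cancel_right]
      rw [this]; exact mem_sup_left hr
    · rintro _ ⟨t, ht, rfl⟩
      have : (MulAut.conj a).toMonoidHom t = ⁅t, a⁆⁻¹ * t := by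
        show a * t * a⁻¹ = _
        simp only [commutatorElement_def]; group
      rw [this]
      exact mul_mem (mem_sup_left (inv_mem (sp.cm t ht a ha))) (mem_sup_right ht)
  exact (h1.to_sup_of_normal_left' (el_two (pt_el hT sp.c2.p2)) h2).to_le
    (sup_le_sup_right le_sup_right _)

theorem plane (hLn : JLn.{u}) (hPerp : JPerp.{u}) (hTr : JTr.{u}) (hPl1 : JPl1.{u}) (hPl2 : JPl2.{u})
    (hT : TG Q E) (hF : FU Q E) {Q₁ T P Q₂ T₂ : Subgroup G} (l1 : Ln Q E Q₁ T P) (l2 : Ln Q E Q₂ T₂ P)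
    (hc : T₂ ≤ cen T) (hn : ¬ T₂ ≤ E ⊔ T) (hs : ∀ t ∈ T, ∃ a ∈ T₂, t * a ∈ cen P) :
    ∃ Z, Pl E T P Z ∧ Z ≤ E ⊔ T ⊔ T₂ ∧ T₂ ≤ E ⊔ T ⊔ Z := by
  obtain ⟨Q₃, T₃, P', pp, h1, h2⟩ := hPl1 hLn hPerp hTr G Q E hT hF Q₁ T P Q₂ T₂ l1 l2 hc hn hs
  obtain ⟨Z, h3, h4, pl⟩ := hPl2 hPerp G Q E hT hF Q₁ T P Q₃ T₃ P' l1 pp
  refine ⟨Z, pl, h3.trans (sup_le (le_sup_of_le_left le_sup_right)
    (h1.trans (sup_le_sup_right le_sup_left _))), h2.trans (sup_le (le_sup_of_le_left le_sup_left)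
    (h4.trans (sup_le_sup_right le_sup_right _)))⟩

theorem kill (hCm : JCm.{u}) (hAdj : JAdj.{u}) (hF1 : JF1.{u}) (hF2 : JF2.{u}) (hKa : JKa.{u})
    (hKb : JKb.{u}) (hT : TG Q E) (hF : FU Q E) {Q₁ T P Z Q₂ T' : Subgroup G} (l1 : Ln Q E Q₁ T P)
    (pl : Pl E T P Z) (c : Col Q E Q E Q₂ T') (pa : Pa E T P T') : False :=
  have p2 := hAdj hCm G Q E hT Q₁ T P Z l1 pl
  hKb (hF2 hF1) G Q E hT Q₁ T P Z Q₂ T' l1 pl p2 c pa (hKa G Q E hT hF Q₁ T P Z Q₂ T' l1 pl p2 c pa)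

theorem sec (hAct : JAct.{u}) (hLn : JLn.{u}) (hS1 : JS1.{u}) (hS2 : JS2.{u}) (hCard : JCard.{u})
    (hS3 : JS3.{u}) (hT : TG Q E) (hF : FU Q E) {Q₁ T P Q₂ T' : Subgroup G} (sp : Sp Q E Q₁ T Q₂ T')
    (l1 : Ln Q E Q₁ T P) (l2 : Ln Q E Q₂ T' P) : ∃ S, Sec E T P S ∧ As T P S T' := by
  have s := hS2 hAct hLn G Q E hT Q₁ T Q₂ T' P sp l1 l2 (hS1 G Q E hT hF Q₁ T Q₂ T' P sp l1)
  exact ⟨_, s, hS3 hAct hCard G Q E hT Q₁ T Q₂ T' P _ sp l1 l2 s (cen_swap inf_le_right)⟩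

theorem par (hSame : JSame.{u}) (hAct : JAct.{u}) (hLn : JLn.{u}) (hPerp : JPerp.{u}) (hTr : JTr.{u})
    (hH1 : JH1.{u}) (hCard : JCard.{u}) (hPl1 : JPl1.{u}) (hPl2 : JPl2.{u}) (h1 : JPar1.{u})
    (h2 : JPar2.{u}) (h3 : JPar3.{u}) (h4 : JPar4.{u}) (h5 : JPar5.{u}) (hT : TG Q E) (hF : FU Q E)
    {Q₁ T P S Q₂ T' : Subgroup G} (l1 : Ln Q E Q₁ T P) (l2 : Ln Q E Q₂ T' P) (s : Sec E T P S)
    (a : As T P S T') : ∃ Qa Ta, Ln Q E Qa Ta P ∧ E ⊔ Ta = S := by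
  obtain ⟨C, P', elC, cC, hCS, hT', pg, x, hx, hxT, hxC⟩ := h1 hTr G Q E hT hF Q₁ T P S Q₂ T' l1 s l2.col a
  have tr := hH1 hAct hTr G Q E hT Q₁ T P P' C l1 pg x hx hxT (le_sup_left.trans (cen_swap cC)) hxC
  have pr : Pr Q E Q₁ T P S C := ⟨l1, s, elC, cC, tr⟩
  have fin : ∀ Qa Ta, Ln Q E Qa Ta P → Ta ≤ S ⊔ C → (∃ x ∈ (E ⊔ Ta) ⊓ S, x ∉ E) →
      ∃ Qa Ta, Ln Q E Qa Ta P ∧ E ⊔ Ta = S := fun Qa Ta la hle hx =>
    ⟨Qa, Ta, la, h3 hCard G Q E hT Q₁ T P S C Qa Ta pr la.col hx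
      (h2 hSame hCard G Q E hT Q₁ T P S C Qa Ta pr la hle hx)⟩
  obtain ⟨h, -, l3, hle, hc, hs, v, ⟨hv1, hv2⟩, hvE⟩ := h4 hCard G Q E hT Q₁ T P S C Q₂ T' pr l2 a hT'
  by_cases hn : cj h T' ≤ E ⊔ T'
  · exact fin Q₂ T' l2 hT' ⟨v, ⟨sup_le le_sup_right hn hv1, hv2⟩, hvE⟩
  obtain ⟨Z, pl, hZ1, hZ2⟩ := plane hLn hPerp hTr hPl1 hPl2 hT hF l2 l3 hc hn hs
  have hvP : v ∉ cen P := fun hv => hvE ((hCard G Q E hT Q₁ T P S l1 s).2.1 ⟨hv2, hv⟩)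
  obtain ⟨g, col, hg1, hg2⟩ := h5 G Q E hT Q₂ T' P Z l2 pl v
    (sup_le (le_sup_of_le_left le_sup_right) hZ2 hv1) hvP
  have hEP : E ≤ cen P := cen_swap (l2.pg.le.trans inf_le_right)
  have hZE : Z ≤ cen E := pl.cP.trans (centralizer_le l2.pg.lt.le)
  have hcm : Cm3 (cj g T') P E := cm3_swap (cm3_of_le (hg1.trans (sup_le (sup_le
    (le_Cs (el_cen hT.el) (cm3_of_cen E hEP)) (le_Cs l2.col.comm (cm3_swap l2.pg.cm)))
    (le_Cs hZE (cm3_of_cen E pl.cP)))))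
  have hES : E ≤ S ⊔ C := le_sup_of_le_left s.lE
  exact fin _ _ ((hLn G Q E hT Q₂ T' P l2).2 _ _ col hcm)
    (hg1.trans (sup_le (sup_le hES hT') (hZ1.trans (sup_le (sup_le hES hT') hle))))
    ⟨v, ⟨mem_sup_right hg2, hv2⟩, hvE⟩

theorem col_cj {Q₁ T P : Subgroup G} (l : Ln Q E Q₁ T P) {k : G} (hk : k ∈ cen Q) (hE : E ≤ Q) :
    Col Q E Q E (cj k Q₁) (cj k T) ∧ Cm3 (cj k T) P E ∧ ∀ t ∈ T, ∀ y ∈ P, ⁅k * t * k⁻¹, y⁆ = ⁅t, y⁆ := by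
  have hc := mem_centralizer_iff.1 hk
  have key : ∀ t ∈ T, ∀ y ∈ P, ⁅k * t * k⁻¹, y⁆ = ⁅t, y⁆ := fun t ht y hy => by
    have e1 : y = k * y * k⁻¹ := by rw [← hc y (l.pg.le hy).1, mul_inv_cancel_right]
    have e2 : ⁅k * t * k⁻¹, k * y * k⁻¹⁆ = k * ⁅t, y⁆ * k⁻¹ := by simp only [commutatorElement_def]; group
    rw [e1, e2, ← e1, ← hc _ (hE (l.pg.cm t ht y hy)), mul_inv_cancel_right]
  have cm : Cm3 (cj k T) P E := by
    rintro _ ⟨t, ht, rfl⟩ y hy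
    show ⁅k * t * k⁻¹, y⁆ ∈ E
    rw [key t ht y hy]; exact l.pg.cm t ht y hy
  have hkQ : cj k Q = Q := cj_eq_self (centralizer_le_normalizer _ hk)
  refine ⟨⟨l.col.p1, ?_, ?_, ?_, ?_⟩, cm, key⟩
  · obtain ⟨g, rfl, rfl⟩ := l.col.p2
    exact ⟨k * g, cj_cj k g Q, cj_cj k g E⟩
  · intro e
    apply l.col.ne
    exact cj_inj.1 (hkQ.trans e)
  · rintro _ ⟨t, ht, rfl⟩
    have hkE : k ∈ cen E := centralizer_le hE hk
    exact mul_mem (mul_mem hkE (l.col.comm ht)) (inv_mem hkE)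
  · obtain ⟨y, hy, hyE⟩ := SetLike.exists_of_lt l.pg.lt
    obtain ⟨n, hn⟩ := l.pg.two ⟨y, hy⟩
    refine ⟨y, l.pg.le hy, ⟨n, congrArg Subtype.val hn⟩, fun t ht => cm t ht y hy, fun hyc => ?_⟩
    obtain ⟨y', -, -, -, hy'⟩ := l.col.mv
    refine hy' (mem_centralizer_iff.2 fun t ht => ?_)
    have h1 : t = 1 := by
      by_contra h1
      refine l.pg.nd y hy hyE t ht h1 ?_
      rw [← key t ht y hy]
      exact commutatorElement_eq_one_iff_mul_comm.2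
        (mem_centralizer_iff.1 hyc _ (mem_map_of_mem (MulAut.conj k).toMonoidHom ht))
    rw [h1, one_mul, mul_one]

end Main

theorem ch_of (hSame : JSame.{u}) (hAct : JAct.{u}) (hLn : JLn.{u}) (hPerp : JPerp.{u}) (hTr : JTr.{u})
    (hH1 : JH1.{u}) (hS1 : JS1.{u}) (hS2 : JS2.{u}) (hCard : JCard.{u}) (hS3 : JS3.{u}) (hPl1 : JPl1.{u})
    (hPl2 : JPl2.{u}) (hCm : JCm.{u}) (hAdj : JAdj.{u}) (hF1 : JF1.{u}) (hF2 : JF2.{u}) (hKa : JKa.{u})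
    (hKb : JKb.{u}) (h1 : JPar1.{u}) (h2 : JPar2.{u}) (h3 : JPar3.{u}) (h4 : JPar4.{u}) (h5 : JPar5.{u})
    (hZK : JZK.{u}) (hX1 : JX1.{u}) (hX2 : JX2.{u}) (hSq : JSq.{u}) : ChCB.{u} := by
  rintro G _ _ K hK E hT hO ⟨hF, Q₁, T, Q₂, T', sp⟩
  have elT := pt_el hT sp.c1.p2
  have hY : T ⊔ T' ≤ Cs T E := sup_le (le_Cs sp.c1.comm (cm3_of_cen E (el_cen elT))) (le_Cs sp.c2.comm sp.cm)
  obtain ⟨P, pg, -, hcm, fu⟩ := hF _ _ _ _ sp.c1 (T ⊔ T') (sup_le sp.c1.comm sp.c2.comm) (two_sup hT sp)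
    (cm3_of_le hY)
  have l1 : Ln (cen K) E Q₁ T P := ⟨sp.c1, pg, fu⟩
  have l2 := (hLn G _ E hT Q₁ T P l1).2 Q₂ T' sp.c2 fun a ha => hcm a (mem_sup_right ha)
  obtain ⟨S, s, a⟩ := sec hAct hLn hS1 hS2 hCard hS3 hT hF sp l1 l2
  obtain ⟨Qa, Ta, la, hS⟩ := par hSame hAct hLn hPerp hTr hH1 hCard hPl1 hPl2 h1 h2 h3 h4 h5 hT hF l1 l2 s a
  obtain ⟨hTK, xd⟩ := hX1 G K hK E hT hO Q₁ T P l1
  obtain ⟨k, hk, hk1, hk2⟩ := hX2 hZK G K hK.1 E T _ hT.el elT (pt_ne hT sp.c1.p2) hT.le sp.c1.comm hTK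
    (eq_bot_iff.2 fun t ht => mem_bot.2 (col_one hT sp.c1 ht.1 ht.2)) xd
  have hkQ : k ∈ cen (cen K) := cen_swap (le_refl (cen K)) hk
  obtain ⟨c3, cm3, key⟩ := col_cj l1 hkQ hT.le
  have l3 := (hLn G _ E hT Q₁ T P l1).2 _ _ c3 cm3
  have hkP : k ∈ cen P := centralizer_le (pg.le.trans inf_le_left) hkQ
  by_cases hc : cj k T ≤ cen T
  · obtain ⟨Z, pl, -⟩ := plane hLn hPerp hTr hPl1 hPl2 hT hF l1 l3 hc hk2 fun t ht =>
      ⟨k * t * k⁻¹, mem_map_of_mem (MulAut.conj k).toMonoidHom ht, mem_centralizer_iff.2 fun y hy => by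
        rw [← commutatorElement_eq_one_iff_mul_comm, ← inv_eq_one, commutatorElement_inv]
        have e : ⁅t * (k * t * k⁻¹), y⁆ = t * ⁅k * t * k⁻¹, y⁆ * t⁻¹ * ⁅t, y⁆ := by
          simp only [commutatorElement_def]; group
        rw [e, key t ht y hy, ← mem_centralizer_iff.1 (sp.c1.comm ht) _ (pg.cm t ht y hy),
          mul_inv_cancel_right]
        exact hT.el _ (pg.cm t ht y hy)⟩
    refine kill hCm hAdj hF1 hF2 hKa hKb hT hF l1 pl la.col fun d hd h1 => ?_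
    have hdS : d ∈ S := hS ▸ mem_sup_right hd
    have hTP : T ≤ nor P := fun t ht => mem_normalizer_of_cj_le (by
      rintro _ ⟨y, hy, rfl⟩
      have : (MulAut.conj t).toMonoidHom y = ⁅t, y⁆ * y := by
        show t * y * t⁻¹ = _
        simp only [commutatorElement_def]; group
      rw [this]; exact mul_mem (pg.lt.le (pg.cm t ht y hy)) hy)
    have hd' : d ∈ ((T ⊔ P : Subgroup G) : Set G) := by rw [sup_comm]; exact s.le hdS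
    rw [coe_mul_of_left_le_normalizer_right T P hTP] at hd'
    obtain ⟨t, ht, y, hy, rfl⟩ := hd'
    refine ⟨t, ht, y, hy, fun hyE => h1 (col_one hT la.col hd (hT.le (s.inf ⟨hdS, ?_⟩))), rfl⟩
    exact mul_mem (mem_sup_right ht) (mem_sup_left hyE)
  · obtain ⟨S', s', a'⟩ := sec hAct hLn hS1 hS2 hCard hS3 hT hF ⟨sp.c1, c3, hk1, hc⟩ l1 l3
    obtain rfl := (hCard G _ E hT Q₁ T P S l1 s).2.2.1 S' s'
    have hTa : Ta ≤ S' := hS ▸ le_sup_right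
    obtain ⟨Z, pl, -⟩ := plane hLn hPerp hTr hPl1 hPl2 hT hF la l3 (a'.cS.trans (centralizer_le hTa))
      (hS ▸ hSq hAct G _ E hT Q₁ T P S' l1 s k hkP) fun c hc => by
        obtain ⟨b, hb, hbc⟩ := a'.bw c (hTa hc)
        refine ⟨b, hb, ?_⟩
        rw [mem_centralizer_iff.1 (a'.cS hb) c (hTa hc)]
        exact centralizer_le (show (P : Set G) ⊆ (P ⊔ T : Subgroup G) from (le_sup_left : P ≤ P ⊔ T)) hbc
    refine kill hCm hAdj hF1 hF2 hKa hKb hT hF la pl sp.c1 fun t ht h1 => ?_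
    obtain ⟨y, hy, hty, hyE⟩ := s.cov1 t ht
    have hd' : t * y ∈ ((Ta ⊔ E : Subgroup G) : Set G) := by rw [sup_comm, hS]; exact hty
    rw [coe_mul_of_left_le_normalizer_right Ta E (la.col.comm.trans (centralizer_le_normalizer _))] at hd'
    obtain ⟨b, hb, r, hr, e⟩ := hd'
    refine ⟨b, hb, r * y⁻¹, mul_mem (pg.lt.le hr) (inv_mem hy), fun h => hyE h1 ?_, ?_⟩
    · simpa using mul_mem (inv_mem h) hr
    · rw [← mul_assoc, show b * r = t * y from e, mul_inv_cancel_right]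

end H14.CB
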