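import Cfsg.Agent.H14.CBAsm
import Cfsg.Agent.H67.CbX2
import Cfsg.Agent.H62.CBZK
import Cfsg.Agent.H41.CbPl2
import Cfsg.Agent.H29.CBPl1
import Cfsg.Agent.H34.CBKa
import Cfsg.Agent.H64.CbKb
import Cfsg.Agent.H76.CBF1
import Cfsg.Agent.H13.CBF2
import Cfsg.Agent.H78.CBCm
import Cfsg.Agent.H26.CBAdj
import Cfsg.Agent.H93.CbH1
import Cfsg.Agent.H81.CBTr
import Cfsg.Agent.H31.CBS2
import Cfsg.Agent.H12.CBCard
import Cfsg.Agent.H9.CBPar2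
import Cfsg.Agent.H35.CbPar3
import Cfsg.Agent.H95.CbPar4
import Cfsg.Agent.H60.CbP5
import Cfsg.Agent.H30.CBPar1
import Cfsg.Agent.H15.CBS3
import Cfsg.Agent.H68.CbS1
import Cfsg.Agent.H18.CBLn
import Cfsg.Agent.H45.CBSame
import Cfsg.Agent.H38.CbAct
import Cfsg.Agent.H82.CBPerp
import Cfsg.Agent.H40.CBX1
import Cfsg.Agent.H79.CbSq

/-! Tower CB: case B does not occur. -/

set_option autoImplicit false

namespace H14.CB

universe u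

theorem f3 : F3.{u} := H13.CBF2.jobF2 H76.CBF1.jobF1

theorem ch : H14.NF.ChCB.{u} :=
  ch_of H45.CBSame.jobX H38.CbAct.jobAct H18.CB.jobLn H82.CBPerp.jobX H81.CBTr.jobX H93.CbH1.jobH1
    H68.CbS1.job H31.CBS2.jobS2 H12.CBC.jobCard H15.CBS3.jobX H29.CBP.jobPl1 H41.CbPl2.jobX
    H78.CBCm.jobCm H26.CB.jobAdj H76.CBF1.jobF1 H13.CBF2.jobF2 H34.CBKa.jobX H64.CbKb.jobX H30.CBPar1.jobX
    H9.CBPar2.jobPar2 H35.CbPar3.jobX H95.CbPar4.jobX H60.CbP5.jobX H62.CBZK.jobX H40.CBX1.jobX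
    H67.CbX2.jobX H79.CbSq.jobSq

end H14.CB
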