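import Cfsg.Agent.H14.Std
import Cfsg.Agent.H12.Factor
import Cfsg.Agent.H10.CharP
import Cfsg.Agent.S2759

/-! `S₄`-free groups of characteristic 2 with a Sylow 2-subgroup of class at most 2. -/

set_option autoImplicit false
open Cfsg Subgroup H98 H12
open scoped commutatorElement

namespace H14

universe u

section
variable {G : Type u} [Group G] [Finite G]

theorem involves_sym4_of_pair {z w a b : G} (hz : orderOf z = 2) (hw : orderOf w = 2)
    (hc : z * w = w * z) (hne : z ≠ w) (ha : a * a = 1) (hb : b * b = 1)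
    (h1 : a * z * a⁻¹ = z) (h2 : a * w * a⁻¹ = w * z) (h3 : b * w * b⁻¹ = w)
    (h4 : b * z * b⁻¹ = z * w) : Involves (Equiv.Perm (Fin 4)) G := by
  obtain ⟨hT, -⟩ := ea_four hz hw hc hne
  set T := closure ({z, w} : Set G) with hTdef
  have hzT : z ∈ T := subset_closure (by simp)
  have hwT : w ∈ T := subset_closure (by simp)
  have hzz := mul_self_of_two hz
  have hww := mul_self_of_two hw
  have hnorm : ∀ c : G, c * z * c⁻¹ ∈ T → c * w * c⁻¹ ∈ T → c ∈ normalizer (T : Set G) := by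
    intro c e1 e2
    refine mem_normalizer_of_cj_le ?_
    rw [cj, map_le_iff_le_comap]
    exact closure_pair_le e1 e2
  have haN : a ∈ normalizer (T : Set G) :=
    hnorm a (by rw [h1]; exact hzT) (by rw [h2]; exact mul_mem hwT hzT)
  have hbN : b ∈ normalizer (T : Set G) :=
    hnorm b (by rw [h4]; exact mul_mem hzT hwT) (by rw [h3]; exact hwT)
  have x1 : a * b * z * (a * b)⁻¹ = w := by
    calc a * b * z * (a * b)⁻¹ = a * (b * z * b⁻¹) * a⁻¹ := by group
      _ = (a * z * a⁻¹) * (a * w * a⁻¹) := by rw [h4]; group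
      _ = w * (z * z) := by rw [h1, h2, ← mul_assoc, hc, mul_assoc]
      _ = w := by rw [hzz, mul_one]
  have x2 : a * b * w * (a * b)⁻¹ = w * z := by
    calc a * b * w * (a * b)⁻¹ = a * (b * w * b⁻¹) * a⁻¹ := by group
      _ = w * z := by rw [h3, h2]
  have x3 : a * b * (w * z) * (a * b)⁻¹ = z := by
    calc a * b * (w * z) * (a * b)⁻¹
        = (a * b * w * (a * b)⁻¹) * (a * b * z * (a * b)⁻¹) := by group
      _ = z * (w * w) := by rw [x1, x2, ← hc, mul_assoc]
      _ = z := by rw [hww, mul_one]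
  have cube : ∀ v : G, (a * b) ^ 3 * v * ((a * b) ^ 3)⁻¹ =
      a * b * (a * b * (a * b * v * (a * b)⁻¹) * (a * b)⁻¹) * (a * b)⁻¹ := fun v => by
    rw [pow_succ, pow_two]; group
  have hcube : (a * b) ^ 3 ∈ centralizer (T : Set G) := by
    rw [hTdef, ← zpowers_le, le_centralizer_iff]
    refine closure_pair_le ?_ ?_ <;> rw [H14.centralizer_zpowers, mem_centralizer_singleton_iff]
    · have := cube z
      rw [x1, x2, x3, mul_inv_eq_iff_eq_mul] at this
      exact this.symm
    · have := cube w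
      rw [x2, x3, x1, mul_inv_eq_iff_eq_mul] at this
      exact this.symm
  refine (Cfsg.Agent.S2759.result).mpr ⟨T, ea_isPGroup hT, ?_⟩
  rw [H47.involves_perm3_iff]
  refine H47.involves_dihedral_of_inverts' Nat.prime_three (by decide) (k := 1)
    (x := QuotientGroup.mk ⟨a, haN⟩) (y := QuotientGroup.mk ⟨a * b, mul_mem haN hbN⟩) ?_ ?_ ?_
  · rw [← QuotientGroup.mk_pow, QuotientGroup.eq_one_iff]
    exact hcube
  · intro e
    rw [QuotientGroup.eq_one_iff] at e
    have := mem_centralizer_iff.mp e z hzT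
    change z * (a * b) = a * b * z at this
    rw [← this, mul_inv_cancel_right] at x1
    exact hne x1
  · rw [← QuotientGroup.mk_inv, ← QuotientGroup.mk_inv, ← QuotientGroup.mk_mul,
      ← QuotientGroup.mk_mul]
    refine congrArg _ (Subtype.ext ?_)
    change a * (a * b) * a⁻¹ = (a * b)⁻¹
    rw [← mul_assoc, ha, one_mul, mul_inv_rev, inv_eq_of_mul_eq_one_right hb]

theorem relIndex_cj (g : G) (H K : Subgroup G) : (cj g H).relIndex (cj g K) = H.relIndex K :=
  relIndex_map_map_of_injective _ _ (MulAut.conj g).injective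

theorem offender_relIndex {p : ℕ} {S V A : Subgroup G} (hV : IsElementaryAbelian p V)
    (hVS : V ≤ S) (hA : A ∈ maxEA p S) :
    (centralizer (A : Set G)).relIndex V ≤ (centralizer (V : Set G)).relIndex A := by
  set B := centralizer (V : Set G) ⊓ A
  have hB : IsElementaryAbelian p B := ea_mono hA.2.1 inf_le_right
  have h1 : Nat.card (B ⊔ V : Subgroup G) ≤ Nat.card A :=
    hA.2.2 _ (sup_le (inf_le_right.trans hA.1) hVS) (H12.ea_sup hB hV inf_le_left)
  have h2 := H12.card_sup_mul_card_inf (A := B) (B := V)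
    (inf_le_left.trans (centralizer_le_normalizer _))
  have h3 : Nat.card (B ⊓ V : Subgroup G) ≤ Nat.card (centralizer (A : Set G) ⊓ V : Subgroup G) :=
    card_le_of_le (inf_le_inf_right _ (inf_le_right.trans (ea_le_centralizer hA.2.1)))
  have h4 := H12.card_inf_mul_relIndex (centralizer (A : Set G)) V
  have h5 := H12.card_inf_mul_relIndex (centralizer (V : Set G)) A
  have h6 : Nat.card B * Nat.card V ≤
      Nat.card A * Nat.card (centralizer (A : Set G) ⊓ V : Subgroup G) := by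
    rw [← h2]; exact Nat.mul_le_mul h1 h3
  rw [← h4, ← h5] at h6
  have hp : 0 < Nat.card B * Nat.card (centralizer (A : Set G) ⊓ V : Subgroup G) :=
    Nat.mul_pos Nat.card_pos Nat.card_pos
  refine Nat.le_of_mul_le_mul_left ?_ hp
  calc _ = Nat.card B * (Nat.card (centralizer (A : Set G) ⊓ V : Subgroup G) *
      (centralizer (A : Set G)).relIndex V) := by ring
    _ ≤ _ := h6
    _ = _ := by ring

/-- An element `w` of a normal `2`-subgroup, centralising a Sylow subgroup and central modulo the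
centre, is central. -/
theorem mem_center_of_commutator {V T : Subgroup G} [V.Normal] (hV : IsPGroup 2 V)
    (hT : IsSyl 2 T ⊤) {w : G} (hw : w ∈ V) (hwT : w ∈ centralizer (T : Set G))
    (h : ∀ x, ⁅w, x⁆ ∈ center G) : w ∈ center G := by
  let W : Subgroup G := V ⊓ stab ⊤ (center G)
  have hn : ∀ A : Subgroup G, A ≤ normalizer ((center G : Subgroup G) : Set G) := fun A => by
    rw [normalizer_eq_top]; exact le_top
  have hwW : w ∈ W := ⟨hw, mem_stab.mpr ⟨hn ⊤ (mem_top _), fun c _ => by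
    rw [← commutatorElement_inv]; exact inv_mem (h c)⟩⟩
  have h1 : ⁅W, ⊤⁆ ≤ center G := by
    rw [commutator_comm]; exact (le_stab_iff.mp inf_le_right).2
  have h2 : res 2 ⊤ ≤ centralizer (W : Set G) := by
    refine res_le_centralizer_of_quadratic (hV.to_le inf_le_left)
      (H98.le_normalizer_inf (by rw [normalizer_eq_top]) (le_normalizer_stab le_normalizer (hn _))) ?_
    rw [commutator_eq_bot_iff_le_centralizer, centralizer_top']
    exact h1
  rw [← centralizer_top', ← hT.sup_res, H98.centralizer_sup]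
  exact ⟨hwT, le_centralizer_iff.mp h2 hwW⟩

theorem cls2_count {V S A : Subgroup G} [V.Normal] (hV : IsElementaryAbelian 2 V)
    (hS : IsSyl 2 S ⊤) (hVS : V ≤ S) (hcl : ⁅⁅S, S⁆, S⁆ = ⊥) (hA : A ∈ maxEA 2 S)
    (hAV : ¬ A ≤ centralizer (V : Set G)) {g : G}
    (hgen : ∀ a ∈ S, a ∉ centralizer (V : Set G) → zpowers a ⊔ cj g S = ⊤) {w z : G}
    (hw : w ∈ V) (hwT : w ∈ centralizer (cj g S : Set G)) (hwZ : w ∉ center G) (hz : z ∈ V)
    (hzS : z ∈ centralizer (S : Set G)) : ∃ a ∈ A, ⁅w, a⁆ * z⁻¹ ∈ center G := by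
  have hcS : ∀ a ∈ S, ⁅w, a⁆ ∈ centralizer (S : Set G) := fun a ha =>
    commutator_eq_bot_iff_le_centralizer.mp hcl (commutator_mem_commutator (hVS hw) ha)
  have hcV : ∀ a, ⁅w, a⁆ ∈ V := fun a =>
    commutator_le_left V ⊤ (commutator_mem_commutator hw (mem_top a))
  let π := QuotientGroup.mk' (center G)
  let ψ : A →* G ⧸ center G := MonoidHom.mk' (fun a => π ⁅w, (a : G)⁆) (fun a b => by
    rw [← map_mul]
    congr 1
    have := mem_centralizer_iff.mp (hcS b (hA.1 b.2)) a (hA.1 a.2)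
    calc ⁅w, ((a * b : A) : G)⁆ = ⁅w, (a : G)⁆ * (a * ⁅w, (b : G)⁆) * (a : G)⁻¹ := by
          simp only [coe_mul, commutatorElement_def]; group
      _ = _ := by rw [this]; group)
  have hker : ψ.ker = (centralizer (V : Set G)).subgroupOf A := by
    ext a
    rw [MonoidHom.mem_ker, mem_subgroupOf]
    change π ⁅w, (a : G)⁆ = 1 ↔ _
    rw [QuotientGroup.mk'_apply, QuotientGroup.eq_one_iff]
    constructor
    · intro h
      by_contra ha
      apply hwZ
      refine mem_center_of_commutator (ea_isPGroup hV) (by simpa [cj_top] using hS.cj g) hw hwT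
        fun x => ?_
      have hX : ∀ y, y ∈ (centralizer ({π w} : Set _)).comap π ↔ ⁅w, y⁆ ∈ center G := fun y => by
        rw [mem_comap, mem_centralizer_singleton_iff, eq_comm,
          ← commutatorElement_eq_one_iff_mul_comm, ← map_commutatorElement,
          QuotientGroup.mk'_apply, QuotientGroup.eq_one_iff]
      have h1 : zpowers (a : G) ⊔ cj g S ≤ (centralizer ({π w} : Set _)).comap π := by
        refine sup_le (zpowers_le.mpr ((hX _).mpr h)) fun y hy => (hX _).mpr ?_
        rw [commutatorElement_eq_one_iff_mul_comm.mpr (mem_centralizer_iff.mp hwT y hy).symm]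
        exact one_mem _
      rw [hgen a (hA.1 a.2) ha] at h1
      exact (hX x).mp (h1 (mem_top x))
    · intro h
      rw [commutatorElement_eq_one_iff_mul_comm.mpr (mem_centralizer_iff.mp h w hw)]
      exact one_mem _
  have hle : ψ.range ≤ (V ⊓ centralizer (S : Set G)).map π := by
    rintro _ ⟨a, rfl⟩
    exact ⟨_, ⟨hcV a, hcS a (hA.1 a.2)⟩, rfl⟩
  obtain ⟨a₀, ha₀, ha₀V⟩ := SetLike.not_le_iff_exists.mp hAV
  have hcard : Nat.card ((V ⊓ centralizer (S : Set G)).map π) ≤ Nat.card ψ.range := by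
    rw [← index_ker, hker, ← relIndex_ker, QuotientGroup.ker_mk', ← relIndex_cj g,
      cj_eq_self_of_normal, cj_inf, cj_eq_self_of_normal, cj_centralizer]
    refine le_trans ?_ (offender_relIndex hV hVS hA)
    have e : center G ⊓ (V ⊓ centralizer (cj g S : Set G)) =
        centralizer (zpowers a₀ : Set G) ⊓ (V ⊓ centralizer (cj g S : Set G)) := by
      refine le_antisymm (inf_le_inf_right _ (center_le_centralizer _)) fun x hx => ⟨?_, hx.2⟩
      rw [← centralizer_top', ← hgen a₀ (hA.1 ha₀) ha₀V, H98.centralizer_sup]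
      exact ⟨hx.1, hx.2.2⟩
    rw [← inf_relIndex_right, e, inf_relIndex_right]
    exact (relIndex_le_of_le_right inf_le_left index_ne_zero_of_finite).trans
      (relIndex_le_of_le_left (H98.centralizer_anti (zpowers_le.mpr ha₀)) index_ne_zero_of_finite)
  have heq := eq_of_le_of_card_ge hle hcard
  obtain ⟨a, ha⟩ : π z ∈ ψ.range := heq ▸ mem_map_of_mem π ⟨hz, hzS⟩
  refine ⟨a, a.2, ?_⟩
  rw [← QuotientGroup.eq_one_iff, ← QuotientGroup.mk'_apply, map_mul, map_inv]
  exact mul_inv_eq_one.mpr ha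

theorem thompson_normal_of_le_centralizer {S : Subgroup G} (hc : CharP 2 (⊤ : Subgroup G))
    (hS : IsSyl 2 S ⊤) (hcl : ⁅⁅S, S⁆, S⁆ = ⊥)
    (h : thompsonSubgroupOf 2 S ≤ centralizer (omV 2 G : Set G)) :
    (thompsonSubgroupOf 2 S).Normal := by
  have hQS : pCoreOf 2 ⊤ ≤ S := hS.pCoreOf_le
  have hnV : ∀ A : Subgroup G, A ≤ normalizer ((omV 2 G : Subgroup G) : Set G) := fun A => by
    rw [normalizer_eq_top]; exact le_top
  haveI : (stab (pCoreOf 2 ⊤) (omV 2 G)).Normal := normal_of_top_le_normalizer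
    (le_normalizer_stab (self_le_normalizer_pCoreOf ⊤) (hnV _))
  have h1 : thompsonSubgroupOf 2 S ≤ stab (pCoreOf 2 ⊤) (omV 2 G) := by
    refine thompsonSubgroupOf_le_iff.mpr fun A hA a ha => mem_stab.mpr ⟨hnV ⊤ (mem_top _), ?_⟩
    intro q hq
    have h2 : ⁅q, a⁆ ∈ ⁅S, S⁆ := commutator_mem_commutator (hQS hq) (hA.1 ha)
    have h3 : ⁅q, a⁆ ∈ centralizer (S : Set G) := commutator_eq_bot_iff_le_centralizer.mp hcl h2
    refine omZ_le_omV hS.toSylowTop (mem_omegaOne ⟨commutator_le_of_le le_rfl le_rfl h2, h3⟩ ?_)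
    have h4 : a * a = 1 := by rw [← pow_two]; exact hA.2.1.2 a ha
    have h5 := mem_centralizer_iff.mp h3 a (hA.1 ha)
    calc ⁅q, a⁆ ^ 2 = ⁅q, a⁆ * (⁅q, a⁆ * a) * a⁻¹ := by rw [pow_two]; group
      _ = q * (a * a) * q⁻¹ * (a * a)⁻¹ := by
        rw [← h5]; simp only [commutatorElement_def]; group
      _ = 1 := by rw [h4]; group
  set N := normalClosure (thompsonSubgroupOf 2 S : Set G)
  have h2 : N ≤ stab (pCoreOf 2 ⊤) (omV 2 G) := normalClosure_le_normal h1
  have h3 : N ≤ centralizer (omV 2 G : Set G) := normalClosure_le_normal h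
  have h4 : IsPGroup 2 N := hc.isPGroup_of_quadratic le_top
    (commutator_eq_bot_mono (commutator_eq_bot_symm (commutator_eq_bot_iff_le_centralizer.mpr h3))
      (le_stab_iff.mp h2).2 le_rfl)
  have h5 : thompsonSubgroupOf 2 S ≤ pCoreOf 2 ⊤ :=
    le_normalClosure.trans (le_pCoreOf h4 le_top (by rw [normalizer_eq_top]))
  rw [← thompsonSubgroupOf_eq_of_le h5 hQS]
  haveI : (pCoreOf 2 (⊤ : Subgroup G)).Normal :=
    normal_of_top_le_normalizer (self_le_normalizer_pCoreOf ⊤)
  exact thompsonSubgroupOf_normal _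

theorem cls2_sup_ne_top {S T : Subgroup G} (hVS : omV 2 G ≤ S) (hVT : omV 2 G ≤ T)
    (hS : ⁅⁅S, S⁆, S⁆ = ⊥) (hT : ⁅⁅T, T⁆, T⁆ = ⊥) {a : G}
    (ha : a * a ∈ centralizer (omV 2 G : Set G)) (haS : a ∈ S) (haT : a ∈ T) (haV : a ∉ centralizer (omV 2 G : Set G)) : S ⊔ T ≠ ⊤ := by
  intro htop
  set C := centralizer (omV 2 G : Set G)
  have hn : ∀ A : Subgroup G, A ≤ normalizer (C : Set G) := fun A => by
    rw [normalizer_eq_top]; exact le_top
  have h1 : ⁅zpowers a, ⊤⁆ ≤ C := by
    rw [← htop]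
    refine commutator_sup_right_le (hn _) (hn _) ?_ ?_
    · exact (commutator_mono (zpowers_le.mpr haS) le_rfl).trans
        ((commutator_eq_bot_iff_le_centralizer.mp hS).trans (H98.centralizer_anti hVS))
    · exact (commutator_mono (zpowers_le.mpr haT) le_rfl).trans
        ((commutator_eq_bot_iff_le_centralizer.mp hT).trans (H98.centralizer_anti hVT))
  haveI : (zpowers a ⊔ C).Normal := by
    refine normal_of_top_le_normalizer (H98.le_normalizer_of_commutator_le (A := zpowers a ⊔ C)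
      (B := zpowers a ⊔ C) ?_ le_rfl)
    refine le_trans (commutator_sup_left_le (hn _) (hn _) h1 (commutator_le_left _ _)) le_sup_right
  apply haV
  refine le_centralizer_of_generated (p := 2) (D := zpowers a ⊔ C) omV_le_generated ?_
    (mem_sup_left (mem_zpowers a))
  intro x hx
  obtain ⟨y, hy, c, hc, rfl⟩ := (mem_sup_left_norm (hn _)).mp hx
  refine ⟨1, ?_⟩
  have hy2 : y * y ∈ C := by
    obtain ⟨k, rfl⟩ := hy
    change a ^ k * a ^ k ∈ C
    rw [← (Commute.refl a).mul_zpow]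
    exact zpow_mem ha k
  have : (y * c) ^ 2 ^ 1 = (y * y) * ((y⁻¹ * c * y) * c) := by rw [pow_one, pow_two]; group
  rw [this]
  exact mul_mem hy2 (mul_mem (conj_mem_of_mem_normalizer' (hn ⊤ (mem_top y)) hc) hc)

theorem cls2_step {S : Subgroup G} (hc : CharP 2 (⊤ : Subgroup G))
    (hS4 : ¬ Involves (Equiv.Perm (Fin 4)) G) (hS : IsSyl 2 S ⊤) (hcl : ⁅⁅S, S⁆, S⁆ = ⊥)
    (hM : ∀ H : Subgroup G, S ≤ H → H ≠ ⊤ → H ≤ normalizer (thompsonSubgroupOf 2 S : Set G)) :
    (thompsonSubgroupOf 2 S).Normal := by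
  by_cases hJ : thompsonSubgroupOf 2 S ≤ centralizer (omV 2 G : Set G)
  · exact thompson_normal_of_le_centralizer hc hS hcl hJ
  by_contra hnn
  set V := omV 2 G with hVdef
  set M := normalizer (thompsonSubgroupOf 2 S : Set G) with hMdef
  have hV : IsElementaryAbelian 2 V := ea_omV (charP_top_iff.mp hc)
  have hsyl : ∀ g, IsSyl 2 (cj g S) ⊤ := fun g => by simpa [cj_top] using hS.cj g
  have hVT : ∀ T, IsSyl 2 T ⊤ → V ≤ T := fun T hT =>
    hT.le_of_le_normalizer (ea_isPGroup hV) le_top (by rw [normalizer_eq_top]; exact le_top)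
  have hclT : ∀ g, ⁅⁅cj g S, cj g S⁆, cj g S⁆ = ⊥ := fun g => by
    rw [← cj_commutator, ← cj_commutator, hcl, cj_bot]
  have hSM : normalizer (S : Set G) ≤ M := normalizer_le_normalizer_thompsonSubgroupOf S
  have hC : ∀ g a : G, g * a * g⁻¹ ∈ centralizer (V : Set G) ↔ a ∈ centralizer (V : Set G) :=
    fun g a => by rw [← conj_mem_cj_iff (g := g) (x := a), cj_eq_self_of_normal]
  -- generation
  have hgen : ∀ g, g ∉ M → ∀ a ∈ S, a ∉ centralizer (V : Set G) → zpowers a ⊔ cj g S = ⊤ := by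
    intro g hg a ha haV
    by_contra hne
    have h1 : cj g⁻¹ (zpowers a ⊔ cj g S) ≤ M := by
      refine hM _ (le_cj_iff.mpr (by rw [inv_inv]; exact le_sup_right)) fun e => hne ?_
      rw [← cj_inj (g := g⁻¹), e, cj_top]
    rw [cj_le_iff, inv_inv] at h1
    have haa : a * a ∈ centralizer (V : Set G) := by
      refine mem_centralizer_iff.mpr fun v hv => ?_
      have h5 := mem_centralizer_iff.mp (commutator_eq_bot_iff_le_centralizer.mp hcl
        (commutator_mem_commutator (hVT S hS hv) ha)) a ha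
      have h6 : ⁅v, a⁆ * ⁅v, a⁆ = 1 := by
        rw [← pow_two]
        exact hV.2 _ (commutator_le_left V ⊤ (commutator_mem_commutator hv (mem_top a)))
      rw [← commutatorElement_eq_one_iff_mul_comm, ← h6]
      calc ⁅v, a * a⁆ = ⁅v, a⁆ * (a * ⁅v, a⁆) * a⁻¹ := by
            simp only [commutatorElement_def]; group
        _ = _ := by rw [h5]; group
    have h2 : IsSyl 2 (cj g S) (cj g M) :=
      (hsyl g).of_le (cj_mono g (le_normalizer.trans hSM)) le_top
    obtain ⟨m, hm, hle⟩ := h2.exists_le_cj (hS.isPGroup.to_le (zpowers_le.mpr ha))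
      (le_sup_left.trans h1)
    rw [cj_cj] at hle
    have h3 : cj (m * g) S ≤ M := le_sup_right.trans (hM _ le_sup_left
      (cls2_sup_ne_top (hVT S hS) (hVT _ (hsyl _)) hcl (hclT _) haa ha (hle (mem_zpowers a)) haV))
    obtain ⟨m', hm', e⟩ := (hS.of_le (le_normalizer.trans hSM) le_top).exists_cj_eq
      ((hsyl (m * g)).of_le h3 le_top)
    have h4 : m'⁻¹ * (m * g) ∈ M := hSM (cj_eq_self_iff.mp (by rw [← cj_cj, ← e, cj_inv_cj]))
    rw [M.mul_mem_cancel_left (inv_mem hm')] at h4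
    apply hg
    have h5 := mul_mem h4 (inv_mem (mem_cj.mp hm))
    have e2 : m * g * (g⁻¹ * m * g)⁻¹ = m * g * (g⁻¹ * m⁻¹ * g) := by group
    have e3 : m * g * (g⁻¹ * m⁻¹ * g) = g := by group
    rwa [e2, e3] at h5
  obtain ⟨g, hg⟩ : ∃ g, g ∉ M := by
    by_contra h
    push Not at h
    exact hnn (normal_of_top_le_normalizer fun x _ => h x)
  obtain ⟨A, hA, hAV⟩ : ∃ A ∈ maxEA 2 S, ¬ A ≤ centralizer (V : Set G) := by
    by_contra h
    push Not at h
    exact hJ (thompsonSubgroupOf_le_iff.mpr h)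
  obtain ⟨z, hz, hzS, hzZ⟩ : ∃ z ∈ V, z ∈ centralizer (S : Set G) ∧ z ∉ center G := by
    by_contra h
    push Not at h
    apply hAV
    refine le_centralizer_iff.mp (le_trans ?_ (center_le_centralizer _))
    refine omV_le_generated.trans (iSup_le fun T x hx => ?_)
    obtain ⟨k, -, hk⟩ := hS.exists_cj_eq (isSyl_sylow T)
    have h1 : k⁻¹ * x * k ∈ center G := by
      refine h _ (mem_cj.mp (by rw [cj_eq_self_of_normal]; exact hx.1)) (mem_cj.mp ?_)
      rw [cj_centralizer, hk]; exact hx.2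
    rw [← mem_cj, cj_eq_self_of_normal] at h1
    exact h1
  set w := g * z * g⁻¹ with hwdef
  have hw : w ∈ V := by rw [← cj_eq_self_of_normal g V]; exact conj_mem_cj hz
  have hwT : w ∈ centralizer (cj g S : Set G) := by rw [← cj_centralizer]; exact conj_mem_cj hzS
  have hwZ : w ∉ center G := by rw [← cj_eq_self_of_normal g (center G), conj_mem_cj_iff]; exact hzZ
  obtain ⟨a, ha, haz⟩ := cls2_count hV hS (hVT S hS) hcl hA hAV (hgen g hg) hw hwT hwZ hz hzS
  have hA' : cj g A ∈ maxEA 2 (cj g S) := map_mem_maxEA _ (MulAut.conj g).injective hA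
  have hAV' : ¬ cj g A ≤ centralizer (V : Set G) := by
    rw [← cj_eq_self_of_normal g (centralizer (V : Set G)), cj_le_cj_iff]; exact hAV
  have hgen' : ∀ b ∈ cj g S, b ∉ centralizer (V : Set G) → zpowers b ⊔ cj g⁻¹ (cj g S) = ⊤ := by
    intro b hb hbV
    have := hgen g⁻¹ (fun h => hg (inv_mem_iff.mp h)) (g⁻¹ * b * g) (mem_cj.mp hb)
      (fun h => hbV (by simpa using (hC g⁻¹ b).mp (by simpa using h)))
    rw [← cj_inj (g := g⁻¹), cj_top, ← this, cj_sup, cj_inv_cj, cj, MonoidHom.map_zpowers]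
    simp
  obtain ⟨b, hb, hbw⟩ := cls2_count hV (hsyl g) (hVT _ (hsyl g)) (hclT g) hA' hAV' hgen' hz
    (by rw [cj_inv_cj]; exact hzS) hzZ hw hwT
  apply hS4
  let π := QuotientGroup.mk' (center G)
  have hπ : ∀ x, π x = 1 ↔ x ∈ center G := fun x => QuotientGroup.eq_one_iff x
  have hsq : ∀ x : G, x ^ 2 = 1 → π x * π x = 1 := fun x hx => by
    rw [← map_mul, ← pow_two, hx, map_one]
  have hord : ∀ x ∈ V, x ∉ center G → orderOf (π x) = 2 := fun x hx hxZ =>
    orderOf_two_of_mul_self (hsq x (hV.2 x hx)) fun e => hxZ ((hπ x).mp e)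
  have hzw : z * w = w * z := ea_comm hV hz hw
  have haz' : a * z = z * a := mem_centralizer_iff.mp hzS a (hA.1 ha)
  have hbw' : b * w = w * b := mem_centralizer_iff.mp hwT b (hA'.1 hb)
  have key : ∀ u v c : G, u ^ 2 = 1 → v ^ 2 = 1 → u * v = v * u → ⁅u, c⁆ * v⁻¹ ∈ center G →
      π c * π u * (π c)⁻¹ = π u * π v := by
    intro u v c hu hv huv h
    rw [← hπ, map_mul, map_inv, mul_inv_eq_one, map_commutatorElement, commutatorElement_def] at h
    have h1 := inv_eq_of_mul_eq_one_right (hsq u hu)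
    rw [← h, h1, ← mul_assoc, ← mul_assoc, ← mul_assoc, hsq u hu, one_mul]
  refine H94.involves_trans (involves_sym4_of_pair (hord z hz hzZ) (hord w hw hwZ)
    (by rw [← map_mul, hzw, map_mul]) ?_ (hsq a (hA.2.1.2 a ha)) (hsq b (hA'.2.1.2 b hb))
    (by rw [← map_mul, haz', map_mul, mul_inv_cancel_right])
    (key w z a (hV.2 w hw) (hV.2 z hz) hzw.symm haz)
    (by rw [← map_mul, hbw', map_mul, mul_inv_cancel_right])
    (key z w b (hV.2 z hz) (hV.2 w hw) hzw hbw)) (H94.involves_quotient _)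
  intro e
  have h1 := key w z a (hV.2 w hw) (hV.2 z hz) hzw.symm haz
  rw [← e, hsq z (hV.2 z hz), ← map_mul, haz', map_mul, mul_inv_cancel_right] at h1
  exact hzZ ((hπ z).mp h1)

theorem cls2_normal_aux (n : ℕ) : ∀ {G : Type u} [Group G] [Finite G], Nat.card G = n →
    ∀ {S : Subgroup G}, CharP 2 (⊤ : Subgroup G) → ¬ Involves (Equiv.Perm (Fin 4)) G →
      IsSyl 2 S ⊤ → ⁅⁅S, S⁆, S⁆ = ⊥ → (thompsonSubgroupOf 2 S).Normal := by
  induction n using Nat.strong_induction_on with
  | _ n ih =>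
    intro G _ _ hn S hc hS4 hS hcl
    refine cls2_step hc hS4 hS hcl fun H hSH hH => ?_
    have hlt : Nat.card H < n := by
      rw [← hn, ← card_top (G := G)]
      exact H46.card_lt_of_lt (lt_top_iff_ne_top.mpr hH)
    have h1 := ih _ hlt (G := H) rfl (S := S.subgroupOf H)
      (charP_top_iff.mpr (charP_iff.mp (hc.of_isSyl_le hS hSH le_top)))
      (fun h => hS4 (H94.involves_trans h (H94.involves_subgroup H)))
      (hS.of_le hSH le_top).subgroupOf_top (by
        rw [commutator_subgroupOf hSH hSH,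
          commutator_subgroupOf (commutator_le_of_le hSH hSH) hSH, hcl, bot_subgroupOf])
    have h2 := le_normalizer_map_subtype (thompsonSubgroupOf 2 (S.subgroupOf H))
    rwa [map_thompsonSubgroupOf _ _ H.subtype_injective, subgroupOf_map_subtype,
      inf_of_le_left hSH] at h2

theorem cls2_factor (hcon : IsPConstrained 2 G) (hS4 : ¬ Involves (Equiv.Perm (Fin 4)) G)
    (S : Sylow 2 G) (hcl : ⁅⁅(S : Subgroup G), (S : Subgroup G)⁆, (S : Subgroup G)⁆ = ⊥) :
    normalizer (thompsonSubgroupOf 2 (S : Subgroup G) : Set G) ⊔ pPrimeCore 2 G = ⊤ := by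
  have hk := H10.coprime_card_ker_mk'_pPrimeCore 2 G
  have h1 := cls2_normal_aux _ (G := G ⧸ pPrimeCore 2 G) rfl (S := (S : Subgroup G).map (pq 2 G))
    (charP_top_iff.mpr (H10.isPConstrained_iff_isCharP_quotient.mp hcon))
    (fun h => hS4 (H94.involves_trans h (H94.involves_quotient _)))
    (by simpa [map_top_of_surjective _ pq_surjective] using (isSyl_sylow S).map (pq 2 G))
    (by rw [← map_commutator, ← map_commutator, hcl, Subgroup.map_bot])
  rw [← map_thompsonSubgroupOf_of_injOn] at h1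
  · rw [← comap_map_pq, H10.map_normalizer_of_coprime_ker _ pq_surjective hk
      (S.isPGroup'.to_le (thompsonSubgroupOf_le _)), normalizer_eq_top, comap_top]
  · rw [← MonoidHom.ker_eq_bot_iff, ← MonoidHom.comap_ker, eq_bot_iff]
    intro x hx
    exact Subtype.ext (disjoint_def.mp (H2.disjoint_of_isPGroup_of_coprime S.isPGroup' hk) x.2 hx)

end

end H14
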