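import Cfsg.Agent.H14.FlavA
import Cfsg.Agent.H5.Wielandt

/-!
Fixed points of a coprime action of odd prime order: the minimal counterexample.
-/

set_option autoImplicit false

namespace H14.Fv

open scoped commutatorElement

variable {Γ : Type*} [Group Γ]

local notation "C[" X "]" => Subgroup.centralizer (SetLike.coe X)
local notation "N[" X "]" => Subgroup.normalizer (SetLike.coe X)

/-- a minimal counterexample -/
structure Cx (p : ℕ) (x : Γ) (P G : Subgroup Γ) : Prop where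
  hp : p.Prime
  hp2 : p ≠ 2
  hx : orderOf x = p
  hP : P = Subgroup.zpowers x
  nor : G.Normal
  top : G ⊔ P = ⊤
  cop : (Nat.card P).Coprime (Nat.card G)
  sol : Group.IsSolvable G
  comm : ⁅G, P⁆ = G
  sub : ∀ H, H < G → P ≤ N[H] → St P H
  star : ∀ M : Subgroup Γ, M.Normal → M ≤ G → M ≠ ⊥ → ∀ c ∈ G ⊓ C[P], ∃ d ∈ D P G,
    ∃ n ∈ M ⊓ C[P], c = d * n
  bad : ¬ St P G

namespace Cx

variable [Finite Γ] {p : ℕ} {x : Γ} {P G : Subgroup Γ} (h : Cx p x P G)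
include h

theorem solP : Group.IsSolvable P := by
  rw [h.hP]; exact H1.isSolvable_of_isMulCommutative _

theorem norP : P ≤ N[G] := by haveI := h.nor; rw [Subgroup.normalizer_eq_top]; exact le_top

theorem xP : x ∈ P := h.hP ▸ Subgroup.mem_zpowers x

theorem nstar {M : Subgroup Γ} (hM : M.Normal) (hG : M ≤ G) (hD : M ⊓ C[P] ≤ D P G) : M = ⊥ := by
  by_contra h0
  refine h.bad fun c hc => ?_
  obtain ⟨d, hd, n, hn, rfl⟩ := h.star M hM hG h0 c (h.comm ▸ hc)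
  exact mul_mem hd (hD hn)

theorem good {H : Subgroup Γ} (hH : H < G) (hP : P ≤ N[H]) : ⁅H, P⁆ ⊓ C[P] ≤ D P G :=
  (h.sub H hH hP).trans (D_mono hH.le)

theorem ngood {H : Subgroup Γ} (hD : H ⊓ C[P] ≤ D P G) : ¬ G ≤ H := fun hle =>
  h.bad ((inf_le_inf_right _ (h.comm.le.trans hle)).trans hD)

theorem normal_of {M : Subgroup Γ} (h1 : G ≤ N[M]) (h2 : P ≤ N[M]) : M.Normal :=
  Subgroup.normalizer_eq_top_iff.1 (eq_top_iff.2 (h.top ▸ sup_le h1 h2))

theorem X_le_G {g : Γ} (hg : g ∈ G) : X P g ≤ G := (X_le_comm hg).trans h.comm.le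

theorem X_self {g : Γ} (hg : g ∈ G) : X P g ≤ ⁅X P g, P⁆ := X_le_self h.norP h.cop h.solP hg

theorem cent_le_comm : G ⊓ C[P] ≤ ⁅G, G⁆ := fun c hc => by
  haveI := h.nor
  let π := QuotientGroup.mk' ⁅G, G⁆
  haveI : IsMulCommutative (G.map π) := ⟨⟨by
    rintro ⟨_, a, ha, rfl⟩ ⟨_, b, hb, rfl⟩
    refine Subtype.ext (commutatorElement_eq_one_iff_mul_comm.1 ?_)
    exact (QuotientGroup.eq_one_iff _).2 (Subgroup.commutator_mem_commutator ha hb)⟩⟩
  haveI : (G.map π).Normal := h.nor.map _ (QuotientGroup.mk'_surjective _)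
  have := H1.centralizer_inf_commutator_eq_bot (A := P.map π) (V := G.map π)
    (by rw [Subgroup.normalizer_eq_top]; exact le_top)
    ((h.cop.coprime_dvd_left (Subgroup.card_map_dvd _ _)).coprime_dvd_right
      (Subgroup.card_map_dvd _ _))
  rw [← Subgroup.map_commutator, h.comm] at this
  refine (QuotientGroup.eq_one_iff _).1 (Subgroup.mem_bot.1 (this ▸ (⟨⟨⟨c, hc.1, rfl⟩, ?_⟩,
    ⟨c, hc.1, rfl⟩⟩ : π c ∈ G.map π ⊓ C[P.map π] ⊓ G.map π)))
  rintro _ ⟨y, hy, rfl⟩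
  rw [← map_mul, hc.2 y hy, map_mul]

theorem inf_sup_P {B V : Subgroup Γ} (hB : B ≤ G) (hV : V ≤ G) (hP : P ≤ N[B]) (h0 : V ⊓ B = ⊥) :
    V ⊓ (B ⊔ P) = ⊥ := eq_bot_iff.2 fun w hw => by
  have : w ∈ ((B ⊔ P : Subgroup Γ) : Set Γ) := hw.2
  rw [Subgroup.coe_mul_of_right_le_normalizer_left _ _ hP] at this
  obtain ⟨b, hb, y, hy, rfl⟩ := this
  have h1 : y ∈ P ⊓ G := ⟨hy, (mul_mem_cancel_left (hB hb)).1 (hV hw.1)⟩
  rw [(Subgroup.disjoint_of_coprime_natCard h.cop).eq_bot, Subgroup.mem_bot] at h1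
  subst h1
  simp only [mul_one] at hw ⊢
  exact h0 ▸ Subgroup.mem_inf.2 ⟨hw.1, hb⟩

theorem noncentral {V : Subgroup Γ} {q : ℕ} [hq : Fact q.Prime] (hVn : V.Normal) (hVG : V ≤ G)
    (hV0 : V ≠ ⊥) (hVe : Cfsg.IsElementaryAbelian q V) (hVq : IsPGroup q V)
    (hmin : ∀ K : Subgroup Γ, K.Normal → K ≤ V → K = ⊥ ∨ K = V) : V ≤ C[G] := by
  by_contra hne
  haveI := h.nor
  haveI := hVe.1
  have hVc : ∀ a ∈ V, ∀ b ∈ V, a * b = b * a := fun a ha b hb =>
    congrArg Subtype.val (hVe.1.is_comm.comm (⟨a, ha⟩ : V) ⟨b, hb⟩)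
  have hnV : ∀ A : Subgroup Γ, A ≤ N[V] := fun A => by
    rw [Subgroup.normalizer_eq_top]; exact le_top
  have hVn' : ∀ M : Subgroup Γ, M ≤ V → V ≤ N[M] := fun M hM =>
    H1.le_normalizer_of_conj_mem fun a ha m hm => by
      rwa [hVc a ha m (hM hm), mul_inv_cancel_right]
  refine hV0 (h.nstar hVn hVG ?_)
  set W := ⁅V, P⁆ ⊔ (D P G ⊓ V)
  let T : Subgroup Γ :=
    { carrier := {g | ∀ v ∈ V, g * v * g⁻¹ * v⁻¹ ∈ W}
      mul_mem' := fun {a b} ha hb v hv => by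
        have := mul_mem (ha _ (hVn.conj_mem _ hv b)) (hb v hv)
        convert this using 1; group
      one_mem' := fun v _ => by simp
      inv_mem' := fun {a} ha v hv => by
        have := inv_mem (ha _ (hVn.conj_mem _ hv a⁻¹))
        convert this using 1; group }
  have hVT : V ≤ T := fun a ha v hv => by rw [hVc a ha v hv]; simp
  have hT : ∀ F, F ≤ G → P ≤ N[F] → F ≤ ⁅F, P⁆ → V ⊔ F ≠ G → F ≤ T := fun F h1 h2 h3 h4 f hf v hv => by
    have hlt : V ⊔ F < G := lt_of_le_of_ne (sup_le hVG h1) h4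
    have hPn := H1.le_normalizer_sup (hnV P) h2
    have hU : ⁅F, V⁆ ≤ ⁅V ⊔ F, P⁆ := Subgroup.commutator_le.2 fun a ha b hb => by
      have h5 := Subgroup.commutator_mono (le_sup_right : F ≤ V ⊔ F) (le_refl P) (h3 ha)
      have := mul_mem h5 (H1.conj_mem_of_le_normalizer (H1.le_normalizer_commutator_left _ _)
        (Subgroup.mem_sup_left hb) (inv_mem h5))
      simpa only [commutatorElement_def, mul_assoc] using this
    have hUV : ⁅F, V⁆ ≤ V := Subgroup.commutator_le_right _ _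
    obtain ⟨c, hc, n, hn, e⟩ := H1.exists_centralizer_mul_commutator
      (H1.le_normalizer_commutator h2 (hnV P)) (cop_le h.cop (hUV.trans hVG)) (Or.inl h.solP)
      (Subgroup.commutator_mem_commutator hf hv)
    rw [← commutatorElement_def, e]
    exact mul_mem (Subgroup.mem_sup_right ⟨h.good hlt hPn ⟨hU hc.1, hc.2⟩, hUV hc.1⟩)
      (Subgroup.mem_sup_left (Subgroup.commutator_mono hUV le_rfl hn))
  by_cases hGT : G ≤ T
  · have h1 : ⁅G, V⁆ = V := (hmin _ inferInstance (Subgroup.commutator_le_right _ _)).resolve_left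
      fun e => hne (by
        rw [Subgroup.commutator_comm, Subgroup.commutator_eq_bot_iff_le_centralizer] at e; exact e)
    have h2 : V ≤ W := h1.ge.trans (Subgroup.commutator_le.2 fun g hg v hv => hGT hg v hv)
    intro c hc
    have : c ∈ (W : Set Γ) := h2 hc.1
    rw [Subgroup.coe_mul_of_right_le_normalizer_left _ _ (inf_le_right.trans
      (hVn' _ (Subgroup.commutator_le_left _ _)))] at this
    obtain ⟨n, hn, d, hd, e⟩ := this
    have h3 : n ∈ V ⊓ C[P] ⊓ ⁅V, P⁆ := ⟨⟨Subgroup.commutator_le_left _ _ hn, by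
      have := mul_mem (Subgroup.mem_inf.1 hc).2 (inv_mem (D_le_cent hd.1))
      rwa [← e, mul_inv_cancel_right] at this⟩, hn⟩
    rw [H1.centralizer_inf_commutator_eq_bot (hnV P) (cop_le h.cop hVG), Subgroup.mem_bot] at h3
    rw [← e, h3]; simpa using hd.1
  obtain ⟨r, Y, hr, hYG, hYr, hPY, hK⟩ : ∃ (r : ℕ) (Y : Subgroup Γ), r.Prime ∧ Y ≤ G ∧ IsPGroup r Y ∧
      P ≤ N[Y] ∧ ¬ ⁅Y, P⁆ ≤ T := by
    by_contra! hh
    exact hGT (h.comm.ge.trans (gen_sylow h.norP h.cop h.solP T hh))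
  haveI := Fact.mk hr
  have hKY := H1.commutator_le_of_le_normalizer hPY
  have hKK := H1.commutator_commutator_eq hPY (cop_le h.cop hYG) (Or.inl h.solP)
  obtain ⟨g, hgK, hgT⟩ : ∃ g ∈ ⁅Y, P⁆, ¬ X P g ≤ T := by
    by_contra! hh
    exact hK (hKK.ge.trans (comm_le_of hh))
  have hgG := hYG (hKY hgK)
  set K := X P g
  have hKr : IsPGroup r K := hYr.to_le (((X_le_comm hgK).trans hKK.le).trans hKY)
  have hKG : K ≤ G := h.X_le_G hgG
  have hVK : V ⊔ K = G := by_contra fun e => hgT (hT K hKG (nor_X g) (h.X_self hgG) e)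
  have hKD : K ⊓ C[P] ≤ D P G := le_D hgG
  have hrq : r ≠ q := fun e => by
    subst e
    have hG : IsPGroup r G := hVK ▸ hVq.to_sup_of_normal_left hKr
    haveI := hG.isNilpotent
    exact hne (Subgroup.le_centralizer_iff.1 (H2.le_centralizer_of_minimal_normal hmin G))
  have nrm : ∀ M : Subgroup Γ, V ≤ N[M] → K ≤ N[M] → P ≤ N[M] → M.Normal := fun M a b c =>
    h.normal_of (hVK ▸ sup_le a b) c
  have fix0 : ∀ Z : Subgroup Γ, Z ≤ K → Z ≠ ⊥ → K ≤ N[Z] → P ≤ N[Z] → V ⊓ C[Z] = ⊥ :=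
    fun Z h1 h2 h3 h4 => (hmin _ (nrm _ (hVn' _ inf_le_left)
      (H1.le_normalizer_inf (hnV _) (H1.le_normalizer_centralizer h3))
      (H1.le_normalizer_inf (hnV _) (H1.le_normalizer_centralizer h4))) inf_le_left).resolve_right
      fun e => h2 (h.nstar (nrm _ ((e.ge.trans inf_le_right).trans
        (Subgroup.centralizer_le_normalizer _)) h3 h4) (h1.trans hKG)
        ((inf_le_inf_right _ h1).trans hKD))
  set Z := K ⊓ C[K]
  have hK0 : K ≠ ⊥ := fun e => hgT (e ▸ bot_le)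
  have hZ0 : Z ≠ ⊥ := by
    haveI := hKr.isNilpotent
    simpa using H2.inf_inf_centralizer_ne_bot (N := K) (K := K) Subgroup.le_normalizer
      (by simpa using hK0)
  have hPZ : P ≤ N[Z] := H1.le_normalizer_inf (nor_X g) (H1.le_normalizer_centralizer (nor_X g))
  have hKZ : K ≤ N[Z] := H1.le_normalizer_inf Subgroup.le_normalizer
    (H1.le_normalizer_centralizer Subgroup.le_normalizer)
  by_cases hz : ∃ z ∈ Z, z ≠ 1 ∧ z ∈ C[P]
  · obtain ⟨z, hzZ, hz1, hzP⟩ := hz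
    have hzn : ∀ A : Subgroup Γ, z ∈ C[A] → A ≤ N[Subgroup.zpowers z] := fun A hA =>
      (Subgroup.le_centralizer_iff.1 (Subgroup.zpowers_le.2 hA)).trans
        (Subgroup.centralizer_le_normalizer _)
    have h1 := fix0 (Subgroup.zpowers z) (Subgroup.zpowers_le.2 hzZ.1) (by simpa using hz1)
      (hzn K hzZ.2) (hzn P hzP)
    let f : ↥(V ⊓ C[P]) → ↥(V ⊓ C[P]) := fun c => ⟨z * c * z⁻¹ * (c : Γ)⁻¹, Subgroup.mem_inf.2
      ⟨mul_mem (hVn.conj_mem _ c.2.1 z) (inv_mem (Subgroup.mem_inf.1 c.2).1),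
      mul_mem (mul_mem (mul_mem hzP c.2.2) (inv_mem hzP)) (inv_mem (Subgroup.mem_inf.1 c.2).2)⟩⟩
    have hf : Function.Injective f := fun a b e => by
      have e' : z * a * z⁻¹ * (a : Γ)⁻¹ = z * b * z⁻¹ * (b : Γ)⁻¹ := congrArg Subtype.val e
      have h2 : (b : Γ)⁻¹ * a ∈ V ⊓ C[Subgroup.zpowers z] := Subgroup.mem_inf.2
        ⟨mul_mem (inv_mem (Subgroup.mem_inf.1 b.2).1) a.2.1, by
          rintro _ ⟨n, rfl⟩
          refine (Commute.zpow_left ?_ n).eq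
          calc z * ((b : Γ)⁻¹ * a) = z * (b : Γ)⁻¹ * z⁻¹ * (z * a * z⁻¹ * (a : Γ)⁻¹) * a * z := by
                group
            _ = _ := by rw [e']; group⟩
      rw [h1, Subgroup.mem_bot, inv_mul_eq_one] at h2
      exact Subtype.ext h2.symm
    intro c hc
    obtain ⟨a, ha⟩ := (Finite.injective_iff_surjective.1 hf) ⟨c, hc⟩
    have hzD : z ∈ D P G := hKD ⟨hzZ.1, hzP⟩
    have := mul_mem hzD (conj_D a.2.2 (hVG a.2.1) (inv_mem hzD))
    rw [← show z * a * z⁻¹ * (a : Γ)⁻¹ = c from congrArg Subtype.val ha]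
    simpa only [mul_assoc] using this
  push Not at hz
  have hZr : IsPGroup r Z := hKr.to_le inf_le_left
  have hVZ := fix0 Z inf_le_left hZ0 hKZ hPZ
  have hPc : Nat.card P = p := by rw [h.hP, Nat.card_zpowers, h.hx]
  haveI := Fact.mk h.hp
  have hgen : ∀ y ∈ P, y ≠ 1 → ∀ w, w * y = y * w → w ∈ C[P] := fun y hy hy1 w hw t ht => by
    obtain ⟨n, hn⟩ := mem_zpowers_of_prime_card hPc (g := ⟨y, hy⟩) (g' := ⟨t, ht⟩)
      fun e => hy1 (congrArg Subtype.val e)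
    have : y ^ n = t := by simpa using congrArg Subtype.val hn
    rw [← this]
    exact ((show Commute w y from hw).zpow_right n).symm
  have hcard := H5.card_eq_pow_of_elemAb_of_comm (R := P) (A := Z) hq.out hVe (hnV _) (hnV _) hPZ
    (fun y hy hy1 => eq_bot_iff.2 fun w hw => by_contra fun hw1 => hz w hw.1 hw1
      (hgen y hy hy1 w (Subgroup.mem_centralizer_singleton_iff.1 hw.2)))
    (fun a ha => by
      obtain ⟨k, hk⟩ := hZr ⟨a, ha⟩
      refine ⟨r ^ k, fun hd => hrq ((Nat.prime_dvd_prime_iff_eq hq.out hr).1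
        (hq.out.dvd_of_dvd_pow hd)).symm, ?_⟩
      rw [show a ^ r ^ k = 1 from congrArg Subtype.val hk]; exact one_mem _)
    (by
      rw [Subgroup.commutator_eq_bot_iff_le_centralizer.2 (inf_le_right.trans
        (Subgroup.centralizer_le inf_le_left))]; exact bot_le) hVZ
  have hsurj : ∀ v ∈ V, ∃ a ∈ V ⊓ C[P], ∃ b ∈ V ⊓ C[P], v = g⁻¹ * b * g * a := fun v hv => by
    have hgv := mul_mem hgG (hVG hv)
    have hVB : V ⊔ X P (g * v) = G := le_antisymm (sup_le hVG (h.X_le_G hgv)) (hVK.ge.trans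
      (sup_le le_sup_left (X_le fun y hy => by
        have := mul_mem (mul_mem (Subgroup.mem_sup_left hv : v ∈ V ⊔ X P (g * v))
          (Subgroup.mem_sup_right (mem_X (g * v) hy)))
          (Subgroup.mem_sup_left (hVn.conj_mem _ (inv_mem hv) y))
        convert this using 1; group)))
    have h0 : V ⊓ X P (g * v) = ⊥ := (hmin _ (h.normal_of (hVB ▸ sup_le (hVn' _ inf_le_left)
      (H1.le_normalizer_inf (hnV _) Subgroup.le_normalizer))
      (H1.le_normalizer_inf (hnV _) (nor_X _))) inf_le_left).resolve_right fun e =>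
      h.ngood (le_D hgv) (hVB.ge.trans (sup_le (e.ge.trans inf_le_right) le_rfl))
    obtain ⟨u, hu, hk⟩ := cmp hrq (A := K ⊔ P) (E := X P (g * v) ⊔ P) hVq hZr (sup_le hKZ hPZ) hVZ
      (by rw [← sup_assoc, hVB, h.top]) (h.inf_sup_P (h.X_le_G hgv) hVG (nor_X _) h0)
    have hc : ∀ w ∈ V, ∀ t, w * t * w⁻¹ * t⁻¹ ∈ V := fun w hw t => by
      have := mul_mem hw (hVn.conj_mem _ (inv_mem hw) t)
      simpa only [mul_assoc] using this
    have hx1 : x ≠ 1 := fun e => h.hp.one_lt.ne (by rw [← h.hx, e, orderOf_one])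
    have a1 := hk x (Subgroup.mem_sup_right h.xP) _ (hc u hu x) x (Subgroup.mem_sup_right h.xP)
      (by group)
    have huv := mul_mem hu (inv_mem hv)
    have a2 := hk ((g * v)⁻¹ * (x * (g * v) * x⁻¹) * x) (mul_mem (Subgroup.mem_sup_left
      (mem_X _ h.xP)) (Subgroup.mem_sup_right h.xP)) _ (hc _ huv (g⁻¹ * x * g))
      (g⁻¹ * (x * g * x⁻¹) * x) (mul_mem (Subgroup.mem_sup_left (mem_X _ h.xP))
      (Subgroup.mem_sup_right h.xP)) (by group)
    rw [mul_inv_eq_one, mul_inv_eq_iff_eq_mul] at a1 a2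
    refine ⟨u, ⟨hu, hgen x h.xP hx1 u a1⟩, g * (u * v⁻¹)⁻¹ * g⁻¹, ⟨hVn.conj_mem _ (inv_mem huv) g,
      hgen x h.xP hx1 _ ?_⟩, by group⟩
    calc g * (u * v⁻¹)⁻¹ * g⁻¹ * x
        = g * (u * v⁻¹)⁻¹ * (g⁻¹ * x * g * (u * v⁻¹)) * (u * v⁻¹)⁻¹ * g⁻¹ := by group
      _ = _ := by rw [← a2]; group
  have hle : Nat.card V ≤ Nat.card ↥(V ⊓ C[P]) * Nat.card ↥(V ⊓ C[P]) := by
    rw [← Nat.card_prod]
    refine Nat.card_le_card_of_surjective (fun a : ↥(V ⊓ C[P]) × ↥(V ⊓ C[P]) =>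
      (⟨g⁻¹ * a.2 * g * a.1, mul_mem (by simpa using hVn.conj_mem _ a.2.2.1 g⁻¹) a.1.2.1⟩ : V))
      fun v => ?_
    obtain ⟨a, ha, b, hb, e⟩ := hsurj v v.2
    exact ⟨(⟨a, ha⟩, ⟨b, hb⟩), Subtype.ext e.symm⟩
  have h1 : V ⊓ C[P] = ⊥ := by
    by_contra e
    have h2 := (Subgroup.one_lt_card_iff_ne_bot _).2 e
    have h3 : 2 < p := lt_of_le_of_ne h.hp.two_le h.hp2.symm
    rw [hcard, hPc, ← sq] at hle
    exact absurd hle (not_le.2 (Nat.pow_lt_pow_right h2 h3))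
  rw [h1]; exact bot_le

end Cx

end H14.Fv
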