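import Cfsg.Agent.H14.FlavB

/-!
Fixed points of a coprime action of odd prime order: the central cases and the induction.
-/

set_option autoImplicit false

namespace H14.Fv

open scoped commutatorElement

universe u

local notation "C[" X "]" => Subgroup.centralizer (SetLike.coe X)
local notation "N[" X "]" => Subgroup.normalizer (SetLike.coe X)

namespace Cx

variable {Γ : Type*} [Group Γ] [Finite Γ] {p : ℕ} {x : Γ} {P G : Subgroup Γ} (h : Cx p x P G)
include h

theorem central {V : Subgroup Γ} {q : ℕ} [hq : Fact q.Prime] (hVn : V.Normal) (hVG : V ≤ G)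
    (hV0 : V ≠ ⊥) (hVq : IsPGroup q V) (hc : V ≤ C[G]) : IsPGroup q G := by
  obtain ⟨S, hVS, hPS⟩ := H1.exists_invariant_sylow_ge_subgroup P G h.norP h.cop (Or.inl h.solP) q
    V hVG hVq (by rw [Subgroup.normalizer_eq_top]; exact le_top)
  set T := (S : Subgroup G).map G.subtype
  have hTG : T ≤ G := Subgroup.map_subtype_le _
  by_contra hne
  have hlt : T < G := lt_of_le_of_ne hTG fun e => hne (e ▸ S.2.map _)
  refine hV0 (h.nstar hVn hVG fun v hv => ?_)
  have hvG := hVG hv.1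
  have h1 : (⟨v, hvG⟩ : G) ∈ commutator G := by
    have := h.cent_le_comm ⟨hvG, hv.2⟩
    rw [← G.map_subtype_commutator] at this
    obtain ⟨w, hw, e⟩ := this
    rwa [← show w = ⟨v, hvG⟩ from Subtype.ext e]
  obtain ⟨s, hs, e⟩ := hVS hv.1
  obtain rfl : s = ⟨v, hvG⟩ := Subtype.ext e
  have h2 := mem_comm_sylow S hs (Subgroup.mem_center_iff.2 fun g => Subtype.ext (hc hv.1 g g.2)) h1
  have hn := H1.le_normalizer_commutator_left T P
  have h3 : ⁅T, T⁆ ≤ ⁅T, P⁆ ⊔ (D P G ⊓ T) := by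
    have key : ∀ a ∈ T, ∃ d ∈ D P G, ∃ w ∈ C[G], ∃ t ∈ ⁅T, P⁆, d * w ∈ T ∧ a = d * w * t :=
      fun a ha => by
        obtain ⟨c, hc', t, ht, rfl⟩ := H1.exists_centralizer_mul_commutator hPS (cop_le h.cop hTG)
          (Or.inl h.solP) ha
        obtain ⟨d, hd, n, hn, rfl⟩ := h.star V hVn hVG hV0 c ⟨hTG hc'.1, hc'.2⟩
        exact ⟨d, hd, n, hc hn.1, t, ht, hc'.1, rfl⟩
    refine Subgroup.commutator_le.2 fun a ha b hb => ?_
    obtain ⟨d, hd, w, hw, t, ht, hdw, rfl⟩ := key a ha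
    obtain ⟨e, he, y, hy, u, hu, hey, rfl⟩ := key b hb
    have hDG := D_le (G := G) h.norP
    have e1 : ⁅d * w, e * y⁆ = ⁅d, e⁆ := by
      have c1 := hw _ (hTG hey)
      have c2 := hy _ (inv_mem (hDG hd))
      simp only [commutatorElement_def]
      calc d * w * (e * y) * (d * w)⁻¹ * (e * y)⁻¹
          = d * (w * (e * y)) * w⁻¹ * d⁻¹ * (e * y)⁻¹ := by group
        _ = d * e * (y * d⁻¹) * (e * y)⁻¹ := by rw [← c1]; group
        _ = _ := by rw [← c2]; group
    have e2 : ⁅d * w, e * y⁆ ∈ D P G ⊓ T := Subgroup.mem_inf.2 ⟨by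
      rw [e1, commutatorElement_def]
      exact mul_mem (mul_mem (mul_mem hd he) (inv_mem hd)) (inv_mem he), by
      rw [commutatorElement_def]
      exact mul_mem (mul_mem (mul_mem hdw hey) (inv_mem hdw)) (inv_mem hey)⟩
    generalize d * w = a at *
    generalize e * y = b at *
    have cj := fun g (hg : g ∈ T) s (hs : s ∈ ⁅T, P⁆) => H1.conj_mem_of_le_normalizer hn hg hs
    have e3 : ⁅a * t, b * u⁆ * ⁅a, b⁆⁻¹ ∈ ⁅T, P⁆ := by
      have := mul_mem (mul_mem (cj a hdw t ht) (cj _ (mul_mem hdw hey) _ (mul_mem hu (inv_mem ht))))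
        (cj _ (mul_mem (mul_mem hdw hey) (inv_mem hdw)) _ (inv_mem hu))
      convert this using 1
      simp only [commutatorElement_def]; group
    have := mul_mem (Subgroup.mem_sup_left e3 : _ ∈ ⁅T, P⁆ ⊔ (D P G ⊓ T)) (Subgroup.mem_sup_right e2)
    rwa [inv_mul_cancel_right] at this
  have h4 : v ∈ ⁅T, T⁆ := by
    have : ((commutator S).map (S : Subgroup G).subtype).map G.subtype = ⁅T, T⁆ := by
      rw [Subgroup.map_subtype_commutator, Subgroup.map_commutator]
    exact this ▸ ⟨_, ⟨_, h2, rfl⟩, rfl⟩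
  have h5 : v ∈ ((⁅T, P⁆ ⊔ (D P G ⊓ T) : Subgroup Γ) : Set Γ) := h3 h4
  rw [Subgroup.coe_mul_of_right_le_normalizer_left _ _ (inf_le_right.trans hn)] at h5
  obtain ⟨t, ht, d, hd, e⟩ := h5
  have : t ∈ D P G := h.good hlt hPS ⟨ht, by
    have := mul_mem (Subgroup.mem_inf.1 hv).2 (inv_mem (D_le_cent hd.1))
    rwa [← e, mul_inv_cancel_right] at this⟩
  rw [← e]; exact mul_mem this hd.1

theorem nilp [Group.IsNilpotent G] : False := by
  haveI := h.nor
  set Z := G ⊓ C[G]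
  haveI hZn : Z.Normal := inferInstance
  have gd : ∀ Y : Subgroup Γ, P ≤ N[Y] → Y ⊓ C[P] ≤ D P G → ∀ w ∈ Y, w ∈ Z → w = 1 :=
    fun Y h1 h2 w hw hz => by
      have := h.nstar (M := Y ⊓ Z) (h.normal_of (H1.le_normalizer_of_conj_mem fun g hg m hm => by
        rwa [hm.2.2 g hg, mul_inv_cancel_right]) (H1.le_normalizer_inf h1 (by
          rw [Subgroup.normalizer_eq_top]; exact le_top))) (inf_le_right.trans inf_le_left)
        ((inf_le_inf_right _ inf_le_left).trans h2)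
      exact Subgroup.mem_bot.1 (this ▸ (⟨hw, hz⟩ : w ∈ Y ⊓ Z))
  have hPZ : P ≤ N[Z] := by rw [Subgroup.normalizer_eq_top]; exact le_top
  have hZP : Z ≤ C[P] := by
    haveI : IsMulCommutative Z := ⟨⟨fun a b => Subtype.ext (b.2.2 a a.2.1)⟩⟩
    have h1 := H1.centralizer_inf_commutator_eq_bot hPZ (cop_le h.cop inf_le_left)
    have h2 := H1.commutator_le_of_le_normalizer hPZ
    rw [← Subgroup.commutator_eq_bot_iff_le_centralizer, eq_bot_iff]
    exact fun w hw => gd _ (H1.le_normalizer_commutator_right _ _) (fun c hc => by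
      have h3 : c ∈ Z ⊓ C[P] ⊓ ⁅Z, P⁆ := ⟨⟨h2 hc.1, hc.2⟩, hc.1⟩
      rw [h1, Subgroup.mem_bot] at h3
      rw [h3]; exact one_mem _) w hw (h2 hw)
  have hna : ¬ G ≤ Z := fun e => h.bad fun c hc => by
    have := h.cent_le_comm (h.comm ▸ hc)
    rw [Subgroup.commutator_eq_bot_iff_le_centralizer.2 (e.trans inf_le_right)] at this
    rw [Subgroup.mem_bot.1 this]; exact one_mem _
  -- class two
  have cl2 : ∀ a ∈ G, ∀ b ∈ G, ⁅a, b⁆ ∈ Z := by
    let π := QuotientGroup.mk' Z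
    haveI : (G.map π).Normal := h.nor.map _ (QuotientGroup.mk'_surjective _)
    set Z2 := G ⊓ (C[G.map π]).comap π
    haveI : Z2.Normal := inferInstance
    have hZ2 : ∀ u ∈ Z2, ∀ g ∈ G, ⁅g, u⁆ ∈ Z := fun u hu g hg =>
      (QuotientGroup.eq_one_iff _).1 (by
        change π _ = 1
        rw [map_commutatorElement, commutatorElement_eq_one_iff_mul_comm]
        exact hu.2 _ ⟨g, hg, rfl⟩)
    have hom : ∀ u ∈ Z2, ∀ a ∈ G, ∀ b ∈ G, ⁅a * b, u⁆ = ⁅a, u⁆ * ⁅b, u⁆ := fun u hu a ha b hb => by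
      have e := (hZ2 u hu b hb).2 _ ha
      have e2 := (hZ2 u hu a ha).2 _ (hZ2 u hu b hb).1
      calc ⁅a * b, u⁆ = a * ⁅b, u⁆ * a⁻¹ * ⁅a, u⁆ := by simp only [commutatorElement_def]; group
        _ = _ := by rw [e, mul_inv_cancel_right, e2]
    have hPZ2 : P ≤ N[Z2] := by rw [Subgroup.normalizer_eq_top]; exact le_top
    have hUU := H1.commutator_commutator_eq hPZ2 (cop_le h.cop inf_le_left) (Or.inl h.solP)
    set U := ⁅Z2, P⁆
    have hU2 : U ≤ Z2 := H1.commutator_le_of_le_normalizer hPZ2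
    have hinv : ∀ u ∈ Z2, ∀ a ∈ G, ⁅a⁻¹, u⁆ * ⁅a, u⁆ = 1 := fun u hu a ha => by
      rw [← hom u hu _ (inv_mem ha) _ ha]; simp
    have hU : ¬ U ≤ C[G] := fun e => by
      have h1 : U = ⊥ := by
        rw [← hUU, Subgroup.commutator_eq_bot_iff_le_centralizer]
        exact (le_inf (hU2.trans inf_le_left) e).trans hZP
      have h2 := Subgroup.commutator_eq_bot_iff_le_centralizer.1 h1
      haveI := H2.isNilpotent_map G π
      have h3 : G.map π ≠ ⊥ := fun e => hna (by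
        rwa [Subgroup.map_eq_bot_iff, QuotientGroup.ker_mk'] at e)
      obtain ⟨⟨_, ⟨⟨u, hu, rfl⟩, hu'⟩, hc⟩, hne⟩ := Subgroup.ne_bot_iff_exists_ne_one.1
        (H2.inf_inf_centralizer_ne_bot (N := G.map π) (K := G.map π) Subgroup.le_normalizer
          (by simpa using h3))
      have hu2 : u ∈ Z2 := ⟨hu, hc⟩
      have h4 : ⁅G, P⁆ ≤ Subgroup.centralizer {u} := comm_le_of fun g hg => X_le fun y hy => by
        rw [Subgroup.mem_centralizer_singleton_iff, ← commutatorElement_eq_one_iff_mul_comm,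
          hom u hu2 _ (inv_mem hg) _ (h.nor.conj_mem _ hg y), ← hinv u hu2 g hg]
        congr 1
        have e1 := h2 hu2 y hy
        have e2 := hZP (hZ2 u hu2 g hg) y hy
        calc ⁅y * g * y⁻¹, u⁆ = y * g * y⁻¹ * (u * y) * g⁻¹ * (u * y)⁻¹ := by
              simp only [commutatorElement_def]; group
          _ = y * ⁅g, u⁆ * y⁻¹ := by rw [← e1]; simp only [commutatorElement_def]; group
          _ = _ := by rw [e2]; group
      exact hne (Subtype.ext ((QuotientGroup.eq_one_iff _).2 ⟨hu, fun g hg =>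
        Subgroup.mem_centralizer_singleton_iff.1 (h4 (h.comm.ge hg))⟩))
    obtain ⟨g, hg, hXU⟩ : ∃ g ∈ G, X P g ⊔ U = G := by
      by_contra! hh
      refine hU (Subgroup.le_centralizer_iff.1 (h.comm.ge.trans (comm_le_of fun g hg a ha u hu => ?_)))
      have hle : X P g ⊔ U ≤ G := sup_le (h.X_le_G hg) (hU2.trans inf_le_left)
      have hn := H1.le_normalizer_sup (nor_X g) (H1.le_normalizer_commutator_right Z2 P)
      have h1 : X P g ⊔ U ≤ ⁅X P g ⊔ U, P⁆ := sup_le
        ((h.X_self hg).trans (Subgroup.commutator_mono le_sup_left le_rfl))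
        (hUU.ge.trans (Subgroup.commutator_mono le_sup_right le_rfl))
      refine (commutatorElement_eq_one_iff_mul_comm.1 (gd _ hn ((inf_le_inf_right _ h1).trans
        (h.good (lt_of_le_of_ne hle (hh g hg)) hn)) _ ?_ (hZ2 u (hU2 hu) a (h.X_le_G hg ha)))).symm
      have a1 : a ∈ X P g ⊔ U := Subgroup.mem_sup_left ha
      have a2 : u ∈ X P g ⊔ U := Subgroup.mem_sup_right hu
      exact mul_mem (mul_mem (mul_mem a1 a2) (inv_mem a1)) (inv_mem a2)
    have hXG := h.X_le_G hg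
    have hXX : ⁅X P g, X P g⁆ ≤ X P g := H1.commutator_le_of_le_normalizer Subgroup.le_normalizer
    have h1 : ⁅X P g, X P g⁆ = ⊥ := h.nstar (h.normal_of (hXU ▸ sup_le
      (H1.le_normalizer_commutator_left _ _) (le_trans (Subgroup.le_centralizer_iff.1
        (Subgroup.commutator_le.2 fun a ha b hb u hu => ?_)) (Subgroup.centralizer_le_normalizer _)))
      (H1.le_normalizer_commutator (nor_X g) (nor_X g))) (hXX.trans hXG)
      ((inf_le_inf_right _ hXX).trans (le_D hg))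
    · have h2 : G ≤ Z2 := hXU.ge.trans (sup_le (fun a ha => ⟨hXG ha, ?_⟩) hU2)
      · exact fun a ha b hb => hZ2 b (h2 hb) a ha
      have : G ≤ (Subgroup.centralizer {π a}).comap π := hXU.ge.trans (sup_le (fun b hb => by
        rw [Subgroup.mem_comap, Subgroup.mem_centralizer_singleton_iff, ← map_mul, ← map_mul,
          Subgroup.commutator_eq_bot_iff_le_centralizer.1 h1 ha b hb]) fun u hu => by
        rw [Subgroup.mem_comap, Subgroup.mem_centralizer_singleton_iff]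
        exact ((hU2 hu).2 _ ⟨a, hXG ha, rfl⟩).symm)
      rintro _ ⟨b, hb, rfl⟩
      exact Subgroup.mem_centralizer_singleton_iff.1 (this hb)
    · have ha' := hXG ha
      have hb' := hXG hb
      have hu' := hU2 hu
      refine (commutatorElement_eq_one_iff_mul_comm.1 ?_).symm
      rw [commutatorElement_def a b, hom u hu' _ (mul_mem (mul_mem ha' hb') (inv_mem ha')) _
        (inv_mem hb'), hom u hu' _ (mul_mem ha' hb') _ (inv_mem ha'), hom u hu' _ ha' _ hb',
        ← (hZ2 u hu' a ha').2 _ (hZ2 u hu' b hb').1, mul_assoc ⁅b, u⁆,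
        eq_inv_of_mul_eq_one_left (hinv u hu' a ha'), eq_inv_of_mul_eq_one_left (hinv u hu' b hb')]
      group
  have c1 : ∀ a ∈ G, ∀ b ∈ G, ∀ c ∈ G, ⁅a * b, c⁆ = ⁅a, c⁆ * ⁅b, c⁆ := fun a ha b hb c hc => by
    have e := (cl2 b hb c hc).2 _ ha
    have e2 := (cl2 a ha c hc).2 _ (cl2 b hb c hc).1
    calc ⁅a * b, c⁆ = a * ⁅b, c⁆ * a⁻¹ * ⁅a, c⁆ := by simp only [commutatorElement_def]; group
      _ = _ := by rw [e, mul_inv_cancel_right, e2]
  have c2 : ∀ a ∈ G, ∀ b ∈ G, ∀ c ∈ G, ⁅c, a * b⁆ = ⁅c, a⁆ * ⁅c, b⁆ := fun a ha b hb c hc => by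
    rw [← commutatorElement_inv, c1 a ha b hb c hc, mul_inv_rev, commutatorElement_inv,
      commutatorElement_inv, (cl2 c hc a ha).2 _ (cl2 c hc b hb).1]
  have cz : ∀ z ∈ Z, ∀ c ∈ G, ⁅z, c⁆ = 1 := fun z hz c hc =>
    commutatorElement_eq_one_iff_mul_comm.2 (hz.2 c hc).symm
  have cz' : ∀ z ∈ Z, ∀ c ∈ G, ⁅c, z⁆ = 1 := fun z hz c hc =>
    commutatorElement_eq_one_iff_mul_comm.2 (hz.2 c hc)
  have hxx : ∀ a ∈ G, x * a * x⁻¹ ∈ G := fun a ha => h.nor.conj_mem _ ha x
  let π := QuotientGroup.mk' Z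
  have fpf : ∀ a ∈ G, ∀ y ∈ P, y ≠ 1 → π y * π a = π a * π y → a ∈ Z := fun a ha y hy hy1 e => by
    haveI := Fact.mk h.hp
    obtain ⟨n, hn, hc⟩ := H1.exists_centralizer_mem_coset hPZ (cop_le h.cop inf_le_left)
      (Or.inl h.solP) a fun t ht => by
        obtain ⟨m, hm⟩ := mem_zpowers_of_prime_card (p := p) (by rw [h.hP, Nat.card_zpowers, h.hx])
          (g := (⟨y, hy⟩ : P)) (g' := ⟨t, ht⟩) fun e => hy1 (congrArg Subtype.val e)
        have h1 : y ^ m = t := by simpa using congrArg Subtype.val hm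
        refine (QuotientGroup.eq_one_iff _).1 ?_
        change π _ = 1
        rw [← h1, map_mul, map_mul, map_mul, map_inv, map_inv, map_zpow,
          ((show Commute (π y) (π a) from e).zpow_left m).eq]
        group
    have := Subgroup.commutator_le.2 cl2 (h.cent_le_comm ⟨mul_mem ha hn.1, hc⟩)
    exact (mul_mem_cancel_right hn).1 this
  have hx1 : x ≠ 1 := fun e => h.hp.one_lt.ne (by rw [← h.hx, e, orderOf_one])
  have c5 : ∀ a ∈ G, ⁅a, x * a * x⁻¹⁆ = 1 := fun a ha => by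
    haveI : (G.map π).Normal := h.nor.map _ (QuotientGroup.mk'_surjective _)
    let f : G.map π → G.map π := fun w => w⁻¹ * MulAut.conjNormal (π x) w
    have hf : Function.Injective f := by
      rintro ⟨_, a, ha, rfl⟩ ⟨_, b, hb, rfl⟩ e
      have e' : (π a)⁻¹ * (π x * π a * (π x)⁻¹) = (π b)⁻¹ * (π x * π b * (π x)⁻¹) :=
        congrArg Subtype.val e
      have := fpf _ (mul_mem hb (inv_mem ha)) x h.xP hx1 (by
        rw [map_mul, map_inv]
        calc π x * (π b * (π a)⁻¹) = π b * ((π b)⁻¹ * (π x * π b * (π x)⁻¹)) * π x * (π a)⁻¹ := by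
              group
          _ = _ := by rw [← e']; group)
      refine Subtype.ext (mul_inv_eq_one.1 ?_).symm
      exact (QuotientGroup.eq_one_iff _).2 this
    obtain ⟨⟨_, g, hg, rfl⟩, e⟩ := (Finite.injective_iff_surjective.1 hf) ⟨π a, a, ha, rfl⟩
    have e' : π (g⁻¹ * (x * g * x⁻¹)) = π a := congrArg Subtype.val e
    have hd := mem_X g h.xP
    set d := g⁻¹ * (x * g * x⁻¹)
    have hdG := h.X_le_G hg hd
    have hz : d⁻¹ * a ∈ Z := QuotientGroup.eq.1 e'
    obtain ⟨z, rfl⟩ : ∃ z, a = d * z := ⟨d⁻¹ * a, by group⟩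
    rw [inv_mul_cancel_left] at hz
    have hd' := H1.conj_mem_of_le_normalizer (nor_X g) h.xP hd
    rw [show x * (d * z) * x⁻¹ = x * d * x⁻¹ * (x * z * x⁻¹) by group,
      c2 _ (hxx _ hdG) _ (hxx _ hz.1) _ ha, cz' _ (hZn.conj_mem _ hz x) _ ha,
      c1 _ hdG _ hz.1 _ (hxx _ hdG), cz _ hz _ (hxx _ hdG), mul_one, mul_one]
    exact gd _ (nor_X g) (le_D hg) _ (mul_mem (mul_mem (mul_mem hd hd') (inv_mem hd)) (inv_mem hd'))
      (cl2 _ hdG _ (hxx _ hdG))
  refine hna fun b hb => fpf b hb (x * x) (mul_mem h.xP h.xP) (fun e => h.hp2 ?_) ?_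
  · exact (Nat.prime_dvd_prime_iff_eq h.hp Nat.prime_two).1
      (h.hx ▸ orderOf_dvd_of_pow_eq_one (by rw [sq, e]))
  have hb2 := hxx _ (hxx _ hb)
  have : (x * (x * b * x⁻¹) * x⁻¹)⁻¹ * b ∈ Z := Subgroup.mem_inf.2 ⟨mul_mem (inv_mem hb2) hb, fun a ha => by
    obtain ⟨a, rfl⟩ : ∃ a', a = x * a' * x⁻¹ := ⟨x⁻¹ * a * x, by group⟩
    have ha' : a ∈ G := by simpa [mul_assoc] using h.nor.conj_mem _ ha x⁻¹
    have e0 := c5 _ (mul_mem ha' hb)
    rw [show x * (a * b) * x⁻¹ = x * a * x⁻¹ * (x * b * x⁻¹) by group,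
      c1 _ ha' _ hb _ (mul_mem ha (hxx _ hb)), c2 _ ha _ (hxx _ hb) _ ha', c2 _ ha _ (hxx _ hb) _ hb,
      c5 _ ha', c5 _ hb, one_mul, mul_one, ← commutatorElement_inv _ b, mul_inv_eq_one] at e0
    have e1 : ⁅x * a * x⁻¹, x * (x * b * x⁻¹) * x⁻¹⁆ = ⁅a, x * b * x⁻¹⁆ := by
      have := hZP (cl2 _ ha' _ (hxx _ hb)) x h.xP
      rw [← mul_inv_eq_iff_eq_mul] at this
      rw [← this]; simp only [commutatorElement_def]; group
    have e2 := c2 _ hb2 _ (mul_mem (inv_mem hb2) hb) _ ha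
    rw [mul_inv_cancel_left, e1, e0, left_eq_mul] at e2
    exact commutatorElement_eq_one_iff_mul_comm.1 e2⟩
  have := QuotientGroup.eq.2 this
  change π _ = π _ at this
  conv_rhs => rw [← this]
  simp only [map_mul, map_inv]; group

theorem contra : False := by
  haveI := h.nor
  haveI := h.sol
  have h0 : G ≠ ⊥ := fun e => h.ngood (H := ⊥) (inf_le_left.trans bot_le) e.le
  obtain ⟨q, V, hq, hVn, hVG, hV0, hVe, hVq, hmin⟩ := H2.exists_elementaryAbelian_normal_le G h0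
  haveI := Fact.mk hq
  haveI := (h.central hVn hVG hV0 hVq (h.noncentral hVn hVG hV0 hVe hVq hmin)).isNilpotent
  exact h.nilp

end Cx

theorem main {p : ℕ} [hp : Fact p.Prime] (hp2 : p ≠ 2) (n : ℕ) : ∀ (Γ : Type u) [Group Γ] [Finite Γ]
    (G : Subgroup Γ) (x : Γ), Nat.card G = n → x ^ p = 1 → x ∈ N[G] → (Nat.card G).Coprime p →
    Group.IsSolvable G → St (Subgroup.zpowers x) G := by
  induction n using Nat.strong_induction_on with
  | _ n ih =>
  have cop : ∀ {Γ : Type u} [Group Γ] (G : Subgroup Γ) (x : Γ), x ^ p = 1 → (Nat.card G).Coprime p →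
      (Nat.card (Subgroup.zpowers x)).Coprime (Nat.card G) := fun G x hx hc => by
    rw [Nat.card_zpowers]
    exact hc.symm.coprime_dvd_left (orderOf_dvd_of_pow_eq_one hx)
  have sub : ∀ {Γ : Type u} [Group Γ] [Finite Γ] (G : Subgroup Γ) (x : Γ), Nat.card G = n →
      x ^ p = 1 → (Nat.card G).Coprime p → Group.IsSolvable G → ∀ H, H < G →
      Subgroup.zpowers x ≤ N[H] → St (Subgroup.zpowers x) H := fun G x hn hx hc hs H hH hN =>
    ih _ (hn ▸ lt_of_le_of_ne (Subgroup.card_le_of_le hH.le) fun e =>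
      hH.ne (Subgroup.eq_of_le_of_card_ge hH.le e.ge)) _ H x rfl hx (hN (Subgroup.mem_zpowers x))
      (hc.coprime_dvd_left (Subgroup.card_dvd_of_le hH.le)) (H1.isSolvable_of_le hH.le hs)
  have key : ∀ (Γ : Type u) [Group Γ] [Finite Γ] (G : Subgroup Γ) (x : Γ), Nat.card G = n →
      x ^ p = 1 → G.Normal → G ⊔ Subgroup.zpowers x = ⊤ → (Nat.card G).Coprime p →
      Group.IsSolvable G → St (Subgroup.zpowers x) G := by
    intro Γ _ _ G x hn hx hGn htop hc hs
    set P := Subgroup.zpowers x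
    have hPs : Group.IsSolvable P := H1.isSolvable_of_isMulCommutative _
    have hPG : P ≤ N[G] := by rw [Subgroup.normalizer_eq_top]; exact le_top
    have hcop := cop G x hx hc
    by_cases hx1 : x = 1
    · intro c hc
      have : P = ⊥ := Subgroup.zpowers_eq_bot.2 hx1
      rw [this, Subgroup.commutator_bot_right] at hc
      rw [Subgroup.mem_bot.1 hc.1]; exact one_mem _
    by_cases hcm : ⁅G, P⁆ = G
    swap
    · have hle := H1.commutator_le_of_le_normalizer hPG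
      have := sub G x hn hx hc hs _ (lt_of_le_of_ne hle hcm) (H1.le_normalizer_commutator_right _ _)
      unfold St at this ⊢
      rw [H1.commutator_commutator_eq hPG hcop (Or.inl hPs)] at this
      exact this.trans (D_mono hle)
    by_contra hbad
    refine Cx.contra (p := p) ⟨hp.out, hp2, orderOf_eq_prime hx hx1, rfl, hGn, htop, hcop, hs, hcm,
      sub G x hn hx hc hs, fun M hM hMG hM0 c hc' => ?_, hbad⟩
    let π := QuotientGroup.mk' M
    haveI : (G.map π).Normal := hGn.map _ (QuotientGroup.mk'_surjective _)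
    have hlt : Nat.card (G.map π) < n := by
      have h1 := Subgroup.card_mul_index (M.subgroupOf G)
      have h2 : Nat.card (G.map π) = (M.subgroupOf G).index := by
        rw [← Subgroup.relIndex_ker, QuotientGroup.ker_mk', Subgroup.relIndex]
      rw [Nat.card_congr (Subgroup.subgroupOfEquivOfLe hMG).toEquiv, ← h2, hn] at h1
      rw [← h1]
      exact lt_mul_of_one_lt_left Nat.card_pos ((Subgroup.one_lt_card_iff_ne_bot _).2 hM0)
    have h1 := ih _ hlt (Γ ⧸ M) (G.map π) (π x) rfl (by rw [← map_pow, hx, map_one])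
      (by rw [Subgroup.normalizer_eq_top]; trivial)
      (hc.coprime_dvd_left (Subgroup.card_map_dvd _ _)) (H2.isSolvable_map G π)
    rw [← MonoidHom.map_zpowers] at h1
    have h2 : D (P.map π) (G.map π) ≤ (D P G).map π := iSup_le (by
      rintro ⟨_, g, hg, rfl⟩ w ⟨hw, hwc⟩
      rw [← map_X] at hw
      obtain ⟨w, hw, rfl⟩ := hw
      obtain ⟨m, hm, hm'⟩ := H1.exists_centralizer_mem_coset (A := P) (N := M ⊓ X P g)
        (H1.le_normalizer_inf (by rw [Subgroup.normalizer_eq_top]; exact le_top) (nor_X g))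
        (cop_le hcop (inf_le_left.trans hMG)) (Or.inl hPs) w fun y hy => Subgroup.mem_inf.2
          ⟨(QuotientGroup.eq_one_iff _).1 (by
            change π _ = 1
            rw [map_mul, map_mul, map_mul, hwc _ ⟨y, hy, rfl⟩, map_inv, map_inv]; group),
          mul_mem (inv_mem hw) (H1.conj_mem_of_le_normalizer (nor_X g) hy hw)⟩
      refine ⟨w * m, le_D hg ⟨mul_mem hw (Subgroup.mem_inf.1 hm).2, hm'⟩, ?_⟩
      rw [map_mul, show π m = 1 from (QuotientGroup.eq_one_iff _).2 hm.1, mul_one])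
    obtain ⟨d, hd, e⟩ := h2 (h1 (⟨by rw [← Subgroup.map_commutator, hcm]; exact ⟨c, hc'.1, rfl⟩, by
      rintro _ ⟨y, hy, rfl⟩
      rw [← map_mul, hc'.2 y hy, map_mul]⟩ : π c ∈ ⁅G.map π, P.map π⁆ ⊓ C[P.map π]))
    exact ⟨d, hd, d⁻¹ * c, Subgroup.mem_inf.2 ⟨QuotientGroup.eq.1 e,
      mul_mem (inv_mem (D_le_cent hd)) (Subgroup.mem_inf.1 hc').2⟩, by group⟩
  intro Γ _ _ G x hn hx hN hc hs
  set L := G ⊔ Subgroup.zpowers x
  have hxL : x ∈ L := Subgroup.mem_sup_right (Subgroup.mem_zpowers x)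
  have hm : (G.subgroupOf L).map L.subtype = G := by
    rw [Subgroup.subgroupOf_map_subtype, inf_eq_left.2 le_sup_left]
  have hz : (Subgroup.zpowers (⟨x, hxL⟩ : L)).map L.subtype = Subgroup.zpowers x :=
    MonoidHom.map_zpowers _ _
  have hcard : Nat.card (G.subgroupOf L) = Nat.card G :=
    Nat.card_congr (Subgroup.subgroupOfEquivOfLe le_sup_left).toEquiv
  have := key L (G.subgroupOf L) ⟨x, hxL⟩ (hcard.trans hn) (Subtype.ext hx)
    ((Subgroup.normal_subgroupOf_iff_le_normalizer le_sup_left).2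
      (sup_le Subgroup.le_normalizer (Subgroup.zpowers_le.2 hN)))
    (Subgroup.map_injective L.subtype_injective (by
      rw [Subgroup.map_sup, hm, hz, ← MonoidHom.range_eq_map, Subgroup.range_subtype]))
    (hcard ▸ hc) (H2.isSolvable_subgroupOf G L)
  intro c ⟨h1, h2⟩
  rw [← hm, ← hz, ← Subgroup.map_commutator] at h1
  obtain ⟨c, h1, rfl⟩ := h1
  have h3 : D (Subgroup.zpowers (⟨x, hxL⟩ : L)) (G.subgroupOf L) ≤
      (D (Subgroup.zpowers x) G).comap L.subtype := iSup_le fun g w hw => by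
    refine le_D (G := G) (h := ((g : L) : Γ)) g.2 (Subgroup.mem_inf.2 ⟨?_, fun y hy => ?_⟩)
    · rw [← hz]
      exact (map_X L.subtype (g : L)).le ⟨w, hw.1, rfl⟩
    · rw [← hz] at hy
      obtain ⟨y, hy, rfl⟩ := hy
      exact congrArg Subtype.val (hw.2 y hy)
  exact h3 (this ⟨h1, fun y hy => Subtype.ext (h2 y (hz ▸ ⟨y, hy, rfl⟩))⟩)

end H14.Fv
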