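/- Tower KU (S2196), job B3a: the real form spanned by the centres of full transvection groups. -/
import Cfsg.Agent.H53.KUSpec

set_option autoImplicit false

namespace H14.KUB3a

open Cfsg H59 H53.WU Module H53.KU

section Abs

variable {F V : Type} [Field F] [AddCommGroup V] [Module F V] {σ : F →+* F}
  {B : V →ₛₗ[σ] V →ₗ[F] F}

/-- The generators of the real form. -/
def Gen (B : V →ₛₗ[σ] V →ₗ[F] F) (O : V → Prop) (x0 : V) : Set V :=
  {v | (O v ∧ B x0 v ≠ 0 ∧ B x0 v + σ (B x0 v) = 0) ∨ ∃ c : F, σ c = c ∧ v = c • x0}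

variable {O : V → Prop} {x0 : V}

theorem gen_smul (hs : ∀ x (s : F), O x → s ≠ 0 → O (s • x)) {c : F} (hc : σ c = c) {v : V}
    (hv : v ∈ AddSubgroup.closure (Gen B O x0)) : c • v ∈ AddSubgroup.closure (Gen B O x0) := by
  induction hv using AddSubgroup.closure_induction with
  | mem v hv =>
    rcases eq_or_ne c 0 with rfl | h0
    · rw [zero_smul]; exact AddSubgroup.zero_mem _
    refine AddSubgroup.subset_closure ?_
    rcases hv with ⟨h1, h2, h3⟩ | ⟨d, hd, rfl⟩
    · refine Or.inl ⟨hs _ _ h1 h0, ?_, ?_⟩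
      · rw [form_smul_right]; exact mul_ne_zero h0 h2
      · rw [form_smul_right, map_mul, hc]; linear_combination c * h3
    · exact Or.inr ⟨c * d, by rw [map_mul, hc, hd], smul_smul _ _ _⟩
  | zero => rw [smul_zero]; exact AddSubgroup.zero_mem _
  | add a b _ _ ha hb => rw [smul_add]; exact AddSubgroup.add_mem _ ha hb
  | neg a _ ha => rw [smul_neg]; exact AddSubgroup.neg_mem _ ha

theorem gen_gen (h : IsHerm B) (h0 : O x0) (hi : B x0 x0 = 0)
    (ht : ∀ x y z, O x → O y → O z → B x y * B y z * B z x + σ (B x y * B y z * B z x) = 0)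
    {v w : V} (hv : v ∈ Gen B O x0) (hw : w ∈ Gen B O x0) : B v w + σ (B v w) = 0 := by
  rcases hv with ⟨h1, h2, h3⟩ | ⟨c, hc, rfl⟩ <;> rcases hw with ⟨k1, k2, k3⟩ | ⟨d, hd, rfl⟩
  · have := ht x0 v w h0 h1 k1
    rw [← h.symm x0 w, map_mul, map_mul, h.invol, show σ (B x0 v) = -B x0 v by linear_combination h3,
      show σ (B x0 w) = -B x0 w by linear_combination k3] at this
    exact (mul_eq_zero.1 (show B x0 v * B x0 w * (B v w + σ (B v w)) = 0 by
      linear_combination -this)).resolve_left (mul_ne_zero h2 k2)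
  · rw [form_smul_right, ← h.symm x0 v, map_mul, h.invol, hd]
    linear_combination d * h3
  · rw [form_smul_left, map_mul, hc, hc]
    linear_combination c * k3
  · simp [hi]

theorem gen_tz (h : IsHerm B) (h0 : O x0) (hi : B x0 x0 = 0)
    (ht : ∀ x y z, O x → O y → O z → B x y * B y z * B z x + σ (B x y * B y z * B z x) = 0)
    {v w : V} (hv : v ∈ AddSubgroup.closure (Gen B O x0)) (hw : w ∈ AddSubgroup.closure (Gen B O x0)) :
    B v w + σ (B v w) = 0 := by
  induction hv using AddSubgroup.closure_induction with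
  | mem v hv =>
    induction hw using AddSubgroup.closure_induction with
    | mem w hw => exact gen_gen h h0 hi ht hv hw
    | zero => simp
    | add a b _ _ ha hb => rw [map_add, map_add]; linear_combination ha + hb
    | neg a _ ha => rw [map_neg, map_neg]; linear_combination -ha
  | zero => simp
  | add a b _ _ ha hb => rw [map_add, LinearMap.add_apply, map_add]; linear_combination ha + hb
  | neg a _ ha => rw [map_neg, LinearMap.neg_apply, map_neg]; linear_combination -ha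

theorem exists_gen {v y : V} (hv : v ∈ AddSubgroup.closure (Gen B O x0)) (hy : B v y ≠ 0) :
    ∃ g ∈ Gen B O x0, B g y ≠ 0 := by
  by_contra! hh
  apply hy
  clear hy
  induction hv using AddSubgroup.closure_induction with
  | mem v hv => exact hh v hv
  | zero => simp
  | add a b _ _ ha hb => rw [map_add, LinearMap.add_apply, ha, hb, add_zero]
  | neg a _ ha => rw [map_neg, LinearMap.neg_apply, ha, neg_zero]

theorem gen_step (h : IsHerm B) (hs : ∀ x (s : F), O x → s ≠ 0 → O (s • x))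
    (htv : ∀ y z (c : F), O y → O z → c + σ c = 0 → O (z + (c * B y z) • y)) {x y : V} (hy : O y)
    (hx : ∃ s : F, s ≠ 0 ∧ s • x ∈ AddSubgroup.closure (Gen B O x0)) (hxy : B x y ≠ 0) :
    ∃ s : F, s ≠ 0 ∧ s • y ∈ AddSubgroup.closure (Gen B O x0) := by
  obtain ⟨d, hd, hd'⟩ := exists_trace_zero_ne_zero h.ne_id h.invol
  by_cases h0 : B x0 y = 0
  · obtain ⟨s, hs0, hx⟩ := hx
    obtain ⟨g, hg, hgy⟩ := exists_gen hx (y := y) (by
      rw [form_smul_left]; exact mul_ne_zero (h.conj_ne_zero hs0) hxy)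
    rcases id hg with ⟨h1, h2, h3⟩ | ⟨c, -, rfl⟩
    · have hne : d * B g y ≠ 0 := mul_ne_zero hd hgy
      have e1 : (d * B g y)⁻¹ • (y + (d * B g y) • g) = (d * B g y)⁻¹ • y + g := by
        rw [smul_add, smul_smul, inv_mul_cancel₀ hne, one_smul]
      have e2 : B x0 ((d * B g y)⁻¹ • y + g) = B x0 g := by
        rw [map_add, form_smul_right, h0, mul_zero, zero_add]
      have h4 : (d * B g y)⁻¹ • y + g ∈ Gen B O x0 :=
        Or.inl ⟨e1 ▸ hs _ _ (htv g y d h1 hy hd') (inv_ne_zero hne), e2 ▸ h2, e2 ▸ h3⟩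
      refine ⟨_, inv_ne_zero hne, ?_⟩
      simpa using AddSubgroup.sub_mem _ (AddSubgroup.subset_closure h4) (AddSubgroup.subset_closure hg)
    · exact absurd (by rw [form_smul_left, h0, mul_zero]) hgy
  · have e : B x0 ((d / B x0 y) • y) = d := by rw [form_smul_right, div_mul_cancel₀ _ h0]
    exact ⟨_, div_ne_zero hd h0, AddSubgroup.subset_closure
      (Or.inl ⟨hs _ _ hy (div_ne_zero hd h0), e.symm ▸ hd, e.symm ▸ hd'⟩)⟩

theorem gen_uniq (h : IsHerm B) {M : AddSubgroup V} (h1 : ∀ c : F, σ c = c → ∀ v ∈ M, c • v ∈ M)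
    (h2 : ∀ v ∈ M, ∀ w ∈ M, B v w + σ (B v w) = 0) (h3 : ∀ z, O z → ∃ s : F, s ≠ 0 ∧ s • z ∈ M)
    {s : F} (hs : s • x0 ∈ M) {v : V} (hv : v ∈ AddSubgroup.closure (Gen B O x0)) : s • v ∈ M := by
  induction hv using AddSubgroup.closure_induction with
  | mem v hv =>
    rcases hv with ⟨k1, k2, k3⟩ | ⟨c, hc, rfl⟩
    · obtain ⟨u, hu, huv⟩ := h3 v k1
      have e := h2 _ hs _ huv
      rw [form_smul_left, form_smul_right, map_mul, map_mul, h.invol,
        show σ (B x0 v) = -B x0 v by linear_combination k3] at e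
      have e' : σ s * u = s * σ u := sub_eq_zero.1 ((mul_eq_zero.1 (show (σ s * u - s * σ u) * B x0 v = 0 by
        linear_combination e)).resolve_right k2)
      have := h1 (s / u) (by rw [map_div₀, div_eq_div_iff (h.conj_ne_zero hu) hu, e']) _ huv
      rwa [smul_smul, div_mul_cancel₀ _ hu] at this
    · rw [smul_comm]; exact h1 c hc _ hs
  | zero => rw [smul_zero]; exact M.zero_mem
  | add a b _ _ ha hb => rw [smul_add]; exact M.add_mem ha hb
  | neg a _ ha => rw [smul_neg]; exact M.neg_mem ha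

end Abs

theorem O_smul (S : KS) (x : S.V) (s : S.F) (hx : S.O x) (hs : s ≠ 0) : S.O (s • x) :=
  ⟨⟨smul_ne_zero hs hx.1.1, by simp [hx.1.2]⟩, by rw [HS.Zs_smul x hs]; exact hx.2⟩

theorem O_map (S : KS) {x : S.V} (hx : S.O x) {g : S.G} (hg : g ∈ S.K) : S.O (g.1 x) := by
  refine ⟨hx.1.map g, fun t ht => ?_⟩
  have h1 := HS.conj_Zs g⁻¹ ht
  have e : (g⁻¹).1 (g.1 x) = x := g.1.symm_apply_apply x
  rw [e] at h1
  have := S.K.mul_mem (S.K.mul_mem hg (hx.2 h1)) (S.K.inv_mem hg)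
  simpa [mul_assoc] using this

theorem O_tv (S : KS) (y z : S.V) (c : S.F) (hy : S.O y) (hz : S.O z) (hc : c + frob S.hF c = 0) :
    S.O (z + (c * S.B y z) • y) := by
  have h1 : S.h.tvHom hy.1.2 (Multiplicative.ofAdd ⟨c, hc⟩) ∈ S.Zs y :=
    HS.mem_Zs.2 (S.h.tvHom_mem hy.1.2 (Multiplicative.ofAdd ⟨c, hc⟩))
  have := O_map S hz (hy.2 h1)
  rwa [S.h.tvHom_apply] at this

theorem jobB3a : JobB3a := by
  intro S _ hC ht
  by_cases hO : ∃ x0, S.O x0
  · obtain ⟨x0, h0⟩ := hO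
    refine ⟨AddSubgroup.closure (Gen S.B S.O x0), ⟨fun c hc v hv => gen_smul (O_smul S) hc hv,
      fun v hv w hw => gen_tz S.h h0 h0.1.2 ht hv hw, hC _ ⟨x0, h0, 1, one_ne_zero,
        AddSubgroup.subset_closure (Or.inr ⟨1, map_one _, rfl⟩)⟩
        fun x y _ hy hx hxy => gen_step S.h (O_smul S) (O_tv S) hy hx hxy⟩, fun M' hM => ?_⟩
    obtain ⟨s, hs, hs'⟩ := hM.2.2 x0 h0
    exact ⟨s, hs, fun v hv => gen_uniq S.h hM.1 hM.2.1 hM.2.2 hs' hv⟩
  · refine ⟨⊥, ⟨fun c _ v hv => ?_, fun v hv w _ => ?_, fun z hz => absurd ⟨z, hz⟩ hO⟩,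
      fun M' _ => ⟨1, one_ne_zero, fun v hv => ?_⟩⟩
    · rw [AddSubgroup.mem_bot.1 hv, smul_zero]; exact AddSubgroup.zero_mem _
    · have := S.two_le_q
      rw [AddSubgroup.mem_bot.1 hv, map_zero, LinearMap.zero_apply, zero_pow (by omega), add_zero]
    · rw [AddSubgroup.mem_bot.1 hv, smul_zero]; exact M'.zero_mem

end H14.KUB3a
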