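import Cfsg.Agent.H14.FESpec
import Cfsg.Agent.H51.CmpTop

/-! Tower NF (S1308, the non-full half): the interface between the chapters. -/

set_option autoImplicit false

namespace H14.NF

open Cfsg Subgroup MulAction H14 H98 H1.Gold H31.S2 H14.GC H14.FE
open scoped commutatorElement

universe u

section Defs

variable {G : Type u} [Group G]

/-- A non-full edge with edge group `T`. -/
structure NE (K : Subgroup G) (g : G) (T : Subgroup G) : Prop where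
  std : IsStandardSubgroup K
  four : Four (cen K)
  out : g ∉ nor (cen K)
  syl : IsSyl 2 T (cj g (cen K) ⊓ nor (cen K))
  ne : T ≠ ⊥
  nf : 2 ∣ (cj g (cen K) ⊓ nor (cen K)).relIndex (cj g (cen K))

/-- The setting of chapter TE: every non-full edge group is elementary and not cyclic, the Sylow
2-subgroups of `cen K` are not elementary, and a non-full edge exists. -/
structure TE (K : Subgroup G) : Prop where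
  all : ∀ g T, NE K g T → El T ∧ Four T
  ex : ∃ g T, NE K g T
  nel : ∀ R, IsSyl 2 R (cen K) → ¬ El R

/-- A point `E₁` with its home `Q₁`. -/
def Pt (Q E Q₁ E₁ : Subgroup G) : Prop := ∃ g : G, Q₁ = cj g Q ∧ E₁ = cj g E

/-- `⁅A, B⁆ ≤ C`, elementwise. -/
def Cm3 (A B C : Subgroup G) : Prop := ∀ a ∈ A, ∀ b ∈ B, ⁅a, b⁆ ∈ C

/-- Collinear points. -/
structure Col (Q E Q₁ E₁ Q₂ E₂ : Subgroup G) : Prop where
  p1 : Pt Q E Q₁ E₁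
  p2 : Pt Q E Q₂ E₂
  ne : Q₁ ≠ Q₂
  comm : E₂ ≤ cen E₁
  mv : ∃ y ∈ Q₁ ⊓ cen E₁, (∃ n : ℕ, y ^ 2 ^ n = 1) ∧ (∀ t ∈ E₂, ⁅t, y⁆ ∈ E₁) ∧ y ∉ cen E₂

/-- The group `P = N_R(E₁ E₂)` of a line at the point `E₁`. -/
structure PG1 (Q₁ E₁ E₂ P : Subgroup G) : Prop where
  two : IsPGroup 2 P
  le : P ≤ Q₁ ⊓ cen E₁
  lt : E₁ < P
  cm : Cm3 E₂ P E₁
  nd : ∀ y ∈ P, y ∉ E₁ → ∀ t ∈ E₂, t ≠ 1 → ⁅t, y⁆ ≠ 1
  sq : ∀ y ∈ P, y ∉ E₁ → y * y ≠ 1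

/-- The line has `q + 1` points. -/
def Fu (E₁ E₂ P : Subgroup G) : Prop := ∀ t ∈ E₂, t ≠ 1 → ∀ r ∈ E₁, ∃ y ∈ P, ⁅t, y⁆ = r

/-- The geometry of points. -/
structure TG (Q E : Subgroup G) : Prop where
  le : E ≤ Q
  el : El E
  four : Four E
  cen_le : ∀ g : G, ∀ d ∈ cj g Q, Inv d → cen1 d ≤ nor (cj g Q)
  ti : ∀ g h : G, cj g Q ≠ cj h Q → NI (cj g Q ⊓ cj h Q)
  mn : ∀ Q₁ E₁ Q₂ E₂, Pt Q E Q₁ E₁ → Pt Q E Q₂ E₂ → ∀ s ∈ E₁, s ≠ 1 → s ∈ nor Q₂ → E₂ ≤ nor Q₁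
  sym : ∀ Q₁ E₁ Q₂ E₂, Col Q E Q₁ E₁ Q₂ E₂ → Col Q E Q₂ E₂ Q₁ E₁
  exc : ∀ Q₁ E₁ Q₂ E₂, Col Q E Q₁ E₁ Q₂ E₂ → ∀ U ≤ Q₂ ⊓ nor Q₁, IsPGroup 2 U → E₂ ≤ U → U ≤ E₂
  px : ∀ Q₁ E₁ Q₂ E₂, Col Q E Q₁ E₁ Q₂ E₂ → ∀ Y ≤ cen E₁, IsPGroup 2 Y → Cm3 E₂ Y E₁ →
    ∃ P, PG1 Q₁ E₁ E₂ P ∧ Y ≤ nor P ∧ Cm3 Y P E₁

/-- `px` with full lines. -/
def FU (Q E : Subgroup G) : Prop :=
  ∀ Q₁ E₁ Q₂ E₂, Col Q E Q₁ E₁ Q₂ E₂ → ∀ Y ≤ cen E₁, IsPGroup 2 Y → Cm3 E₂ Y E₁ →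
    ∃ P, PG1 Q₁ E₁ E₂ P ∧ Y ≤ nor P ∧ Cm3 Y P E₁ ∧ Fu E₁ E₂ P

/-- A special pair `T`, `T'` with centre `E`. -/
structure Sp (Q E Q₁ T Q₂ T' : Subgroup G) : Prop where
  c1 : Col Q E Q E Q₁ T
  c2 : Col Q E Q E Q₂ T'
  cm : Cm3 T T' E
  nc : ¬ T' ≤ cen T

/-- Case B. -/
def CB (Q E : Subgroup G) : Prop := FU Q E ∧ ∃ Q₁ T Q₂ T', Sp Q E Q₁ T Q₂ T'

/-- Collinear points act as outer automorphisms. -/
def OutK (K E : Subgroup G) : Prop :=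
  ∀ Q₁ T, Col (cen K) E (cen K) E Q₁ T → NI (Q₁ ⊓ (K ⊔ cen K))

end Defs

/-! ### The chapters -/

def ChAb : Prop := AllG.{u} fun _ _ K => ∀ g T, NE K g T → Ab T

def ChN1 : Prop := AllG.{u} fun G _ K => IsSimpleGroup G → ∀ g T, NE K g T → IsCyclic T → H51.CT.Concl K

def ChRE : Prop := AllG.{u} fun G _ K => IsSimpleGroup G → ∀ g T, NE K g T → El T → Four T →
  (∀ R, IsSyl 2 R (cen K) → El R) → H51.CT.Concl K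

def ChX1 : Prop := AllG.{u} fun _ _ K => ∀ g T, NE K g T → Ab T → Four T → El T

/-- Chapter TE, part (a) to (d): the geometry exists and is in case B. -/
def ChTE : Prop := AllG.{u} fun G _ K => IsSimpleGroup G → TE K →
  ∃ E, TG (cen K) E ∧ OutK K E ∧ CB (cen K) E

/-- Case B does not occur. -/
def ChCB : Prop := AllG.{u} fun _ _ K => IsStandardSubgroup K → ∀ E, TG (cen K) E → OutK K E → ¬ CB (cen K) E

end H14.NF
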