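/- Nilpotent fixed-point-free operator groups (blueprints/NF.md): the solvable case. -/
import Cfsg.Agent.H52.NCBase
import Cfsg.Agent.H4.Carter
import Cfsg.Agent.H2.MinNormal

set_option autoImplicit false

namespace H14.NF

open Subgroup Cfsg H98 H26.FP
open scoped commutatorElement

universe u

/-- `A` is a nilpotent group of operators without fixed points on `G`. -/
structure Fp {Γ : Type*} [Group Γ] (G A : Subgroup Γ) : Prop where
  nor : A ≤ N[G]
  nil : Group.IsNilpotent A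
  fpf : G ⊓ C[A] = ⊥

section
variable {Γ Δ : Type*} [Group Γ] [Group Δ] {G A K D N L P P' : Subgroup Γ} {g x : Γ}

theorem Fp.mono (h : Fp G A) (hK : K ≤ G) (hn : A ≤ N[K]) : Fp K A :=
  ⟨hn, h.nil, eq_bot_iff.2 ((inf_le_inf_right _ hK).trans h.fpf.le)⟩

theorem Fp.nor' (h : Fp G A) : G ⊔ A ≤ N[G] := sup_le le_normalizer h.nor

theorem Fp.eq_one (h : Fp G A) (hx : x ∈ G) (hc : ∀ a ∈ A, a * x = x * a) : x = 1 :=
  mem_bot.1 (h.fpf.le ⟨hx, hc⟩)

theorem Fp.map_inj (h : Fp G A) {f : Γ →* Δ} (hf : Function.Injective f) : Fp (G.map f) (A.map f) :=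
  have := h.nil
  ⟨map_le_normalizer_map f h.nor, H4.isNilpotent_map A f, by
    rw [← map_inf_centralizer hf, h.fpf, Subgroup.map_bot]⟩

theorem Fp.of_map {f : Γ →* Δ} (hf : Function.Injective f) (h : Fp (G.map f) (A.map f)) : Fp G A := by
  have := h.nil
  refine ⟨?_, H4.isNilpotent_of_injective (f.subgroupMap A) fun a b e =>
    Subtype.ext (hf (congrArg Subtype.val e)), ?_⟩
  · simpa only [comap_map_eq_self_of_injective hf] using comap_le_normalizer_comap f h.nor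
  · rw [← map_eq_bot_iff_of_injective _ hf, map_inf_centralizer hf, h.fpf]

theorem Fp.subgroupOf (h : Fp G A) (hG : G ≤ L) (hA : A ≤ L) : Fp (G.subgroupOf L) (A.subgroupOf L) :=
  Fp.of_map L.subtype_injective (by rwa [map_subgroupOf_eq_of_le hG, map_subgroupOf_eq_of_le hA])

/-- conjugation of the operators by an element which normalises `G` -/
theorem Fp.cj (h : Fp G A) (hg : g ∈ N[G]) : Fp G (cj g A) := by
  have := h.map_inj (f := (MulAut.conj g).toMonoidHom) (MulAut.conj g).injective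
  rwa [show G.map _ = G from cj_eq_self hg] at this

theorem le_sup_cj (hn : A ≤ N[G]) (hg : g ∈ G) : A ≤ G ⊔ cj g A := fun a ha => by
  have e : a = a * g * a⁻¹ * g⁻¹ * (g * a * g⁻¹) := by group
  rw [e]
  exact mul_mem_sup (mul_mem (conj_mem_of_mem_normalizer (hn ha) hg) (inv_mem hg)) (conj_mem_cj ha)

theorem cj_le_sup (hg : g ∈ G) : cj g A ≤ G ⊔ A :=
  cj_le_of_le_of_mem le_sup_right (mem_sup_left hg)

variable [Finite Γ]

theorem card_lt_of_lt (h : K < G) : Nat.card K < Nat.card G :=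
  (card_le_of_le h.le).lt_of_ne fun e => h.ne (eq_of_le_of_card_ge h.le e.ge)

theorem Fp.dis (h : Fp G A) : G ⊓ A = ⊥ := by
  by_contra e
  have := h.nil
  have := (normal_subgroupOf_iff_le_normalizer (inf_le_right : G ⊓ A ≤ A)).2
    (le_normalizer_inf h.nor le_normalizer)
  refine H2.inf_center_ne_bot_of_isNilpotent ((G ⊓ A).subgroupOf A) (fun e' => e ?_)
    (eq_bot_iff.2 fun a ha => Subtype.ext (h.eq_one ha.1.1 fun b hb =>
      congrArg Subtype.val (mem_center_iff.1 ha.2 ⟨b, hb⟩)))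
  rw [← map_subgroupOf_eq_of_le (inf_le_right : G ⊓ A ≤ A), e', Subgroup.map_bot]

theorem Fp.eq_one_of_cj (h : Fp G A) (hg : g ∈ G) (hc : H98.cj g A ≤ A) : g = 1 :=
  h.eq_one hg fun a ha => by
    have : a⁻¹ * (g * a * g⁻¹) ∈ G ⊓ A := ⟨by
      simpa [mul_assoc] using mul_mem (conj_mem_of_mem_normalizer' (h.nor ha) hg) (inv_mem hg),
      A.mul_mem (A.inv_mem ha) (hc (conj_mem_cj ha))⟩
    rw [h.dis, mem_bot, inv_mul_eq_one, eq_mul_inv_iff_mul_eq] at this
    exact this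

/-- `A` is self-normalising in `G A` -/
theorem Fp.nn (h : Fp G A) : (G ⊔ A) ⊓ N[A] ≤ A := fun x hx => by
  obtain ⟨g, hg, a, ha, rfl⟩ := (mem_sup_right_norm h.nor).1 hx.1
  rw [h.eq_one_of_cj hg (cj_eq_self ((mul_mem_cancel_right (le_normalizer ha)).1 hx.2)).le, one_mul]
  exact ha

theorem Fp.carter (h : Fp G A) (e : G ⊔ A = L) : IsCarterSubgroup (A.subgroupOf L) := by
  subst e
  have := h.nil
  refine ⟨H4.isNilpotent_subgroupOf _ _, le_antisymm (fun x hx => h.nn ⟨x.2, ?_⟩) le_normalizer⟩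
  rwa [← subgroupOf_normalizer_eq le_sup_right] at hx

theorem Fp.sol_sup (h : Fp G A) (hs : Group.IsSolvable G) : Group.IsSolvable (G ⊔ A : Subgroup Γ) := by
  have := h.nil
  have := (normal_subgroupOf_iff_le_normalizer (le_sup_left : G ≤ G ⊔ A)).2 h.nor'
  have : Group.IsSolvable ((G ⊔ A : Subgroup Γ) ⧸ G.subgroupOf (G ⊔ A)) :=
    Group.isSolvable_of_surjective (f := (QuotientGroup.mk' _).comp (inclusion le_sup_right))
      fun y => by
        obtain ⟨⟨x, hx⟩, rfl⟩ := QuotientGroup.mk'_surjective _ y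
        obtain ⟨a, ha, g, hg, rfl⟩ := (mem_sup_left_norm h.nor).1 (sup_comm G A ▸ hx)
        exact ⟨⟨a, ha⟩, QuotientGroup.eq.2 (by simpa [mem_subgroupOf] using hg)⟩
  exact Group.isSolvable_of_ker_le_range (inclusion le_sup_left)
    (QuotientGroup.mk' (G.subgroupOf (G ⊔ A))) (by rw [QuotientGroup.ker_mk', inclusion_range])

/-- supplements of an abelian group -/
theorem Fp.supp_ab (h : Fp N A) (ab : N ≤ C[N]) (h1 : D ≤ N ⊔ A) (h2 : A ≤ N ⊔ D) :
    ∃ n ∈ N, H98.cj n A ≤ D := by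
  have hs := h.sol_sup (Group.isSolvable_of_comm fun a b => Subtype.ext (ab b.2 a a.2))
  have hD : Group.IsSolvable D := Group.isSolvable_of_isSolvable_injective (inclusion_injective h1)
  have := h.nil
  have := (normal_subgroupOf_iff_le_normalizer (le_sup_left : N ≤ N ⊔ A)).2 h.nor'
  have : Group.IsNilpotent ((N ⊔ A : Subgroup Γ) ⧸ N.subgroupOf (N ⊔ A)) :=
    Group.nilpotent_of_surjective ((QuotientGroup.mk' _).comp (inclusion le_sup_right)) fun y => by
      obtain ⟨⟨x, hx⟩, rfl⟩ := QuotientGroup.mk'_surjective _ y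
      obtain ⟨a, ha, g, hg, rfl⟩ := (mem_sup_left_norm h.nor).1 (sup_comm N A ▸ hx)
      exact ⟨⟨a, ha⟩, QuotientGroup.eq.2 (by simpa [mem_subgroupOf] using hg)⟩
  obtain ⟨K, hK⟩ := H4.exists_isCarter D
  let φ := (QuotientGroup.mk' (N.subgroupOf (N ⊔ A))).comp (inclusion h1)
  have := H4.isNilpotent_of_injective _ (QuotientGroup.kerLift_injective φ)
  have e1 : K.map (QuotientGroup.mk' φ.ker) = ⊤ := by_contra fun e =>
    (Group.normalizerCondition_of_isNilpotent _ (lt_top_iff_ne_top.2 e)).ne (H4.isCarter_map_mk' hK _).2.symm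
  obtain ⟨K', eK⟩ : ∃ K', K' = K.map D.subtype := ⟨_, rfl⟩
  have k1 : K' ≤ D := eK ▸ map_subtype_le K
  have k2 : Group.IsNilpotent K' := have := hK.1; eK ▸ H4.isNilpotent_map K _
  have k3 : A ≤ N ⊔ K' := h2.trans (sup_le le_sup_left fun d hd => by
    obtain ⟨k, hk, e⟩ := e1.ge (mem_top (QuotientGroup.mk' φ.ker ⟨d, hd⟩))
    have e2 : ((k⁻¹ * ⟨d, hd⟩ : D) : Γ) ∈ N := (QuotientGroup.eq_one_iff
      (N := N.subgroupOf (N ⊔ A)) _).1 (QuotientGroup.eq.1 e)
    exact (mul_mem_cancel_left (mem_sup_right (inv_mem (eK ▸ ⟨k, hk, rfl⟩ : (k : Γ) ∈ K')))).1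
      (mem_sup_left e2))
  have k4 : Fp N K' := ⟨(k1.trans h1).trans h.nor', k2, eq_bot_iff.2 fun x hx =>
    h.fpf.le ⟨hx.1, centralizer_anti k3 (centralizer_sup N K' ▸ ⟨ab hx.1, hx.2⟩)⟩⟩
  obtain ⟨⟨g, hg⟩, e⟩ := H4.isCarter_conj (h.carter rfl)
    (k4.carter (le_antisymm (sup_le le_sup_left (k1.trans h1)) (sup_le le_sup_left k3)))
  have e2 := congrArg (Subgroup.map (N ⊔ A).subtype) e
  rw [← cj_eq_smul, map_cj, map_subgroupOf_eq_of_le le_sup_right,
    map_subgroupOf_eq_of_le (k1.trans h1)] at e2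
  obtain ⟨n, hn, a, ha, rfl⟩ := (mem_sup_right_norm h.nor).1 hg
  exact ⟨n, hn, by rw [← cj_eq_self_of_mem ha, cj_cj]; exact e2.le.trans k1⟩

theorem quo_of (h : Fp G A) (hN : N ≤ G) (hs : ∀ D ≤ N ⊔ A, A ≤ N ⊔ D → ∃ n ∈ N, cj n A ≤ D)
    (hx : x ∈ G) (hc : ∀ a ∈ A, x * a * x⁻¹ * a⁻¹ ∈ N) : x ∈ N := by
  obtain ⟨n, hn, e⟩ := hs (cj x A) (by
      rintro _ ⟨a, ha, rfl⟩
      simpa using mul_mem_sup (hc a ha) ha) fun a ha => by
    simpa [mul_assoc] using mul_mem_sup (inv_mem (hc a ha)) (conj_mem_cj (g := x) ha)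
  rw [le_cj_iff, cj_cj] at e
  exact inv_mul_eq_one.1 (h.eq_one_of_cj (mul_mem (inv_mem hx) (hN hn)) e) ▸ hn

theorem map_of (h : Fp G A) (f : Γ →* Δ)
    (hs : ∀ D ≤ (G ⊓ f.ker) ⊔ A, A ≤ (G ⊓ f.ker) ⊔ D → ∃ n ∈ G ⊓ f.ker, cj n A ≤ D) :
    Fp (G.map f) (A.map f) :=
  have := h.nil
  ⟨map_le_normalizer_map f h.nor, H4.isNilpotent_map A f, eq_bot_iff.2 (by
    rintro _ ⟨⟨x, hx, rfl⟩, hc⟩
    exact (quo_of h inf_le_left hs hx fun a ha => ⟨by
      simpa [mul_assoc] using mul_mem hx (conj_mem_of_mem_normalizer (h.nor ha) (inv_mem hx)), by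
      show f _ = 1
      rw [map_mul, map_mul, map_mul, ← hc _ ⟨a, ha, rfl⟩]; simp⟩).2)⟩

/-- **every supplement contains a conjugate of the operator group** -/
theorem Fp.supp (h : Fp G A) (hs : Group.IsSolvable G) (h1 : D ≤ G ⊔ A) (h2 : A ≤ G ⊔ D) :
    ∃ g ∈ G, H98.cj g A ≤ D := by
  induction hn : Nat.card G using Nat.strong_induction_on generalizing G A D with
  | _ n ih =>
  by_cases e : G = ⊥
  · exact ⟨1, one_mem _, by rwa [cj_one, ← bot_sup_eq D, ← e]⟩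
  have hlt : ⁅G, G⁆ < G := by
    have : Nontrivial G := (nontrivial_iff_ne_bot G).2 e
    have := (map_lt_map_iff_of_injective G.subtype_injective).2
      (Group.IsSolvable.commutator_lt_top_of_nontrivial G)
    rwa [commutator_def, map_commutator, ← MonoidHom.range_eq_map, range_subtype] at this
  have nG : G ⊔ A ≤ N[⁅G, G⁆] := le_normalizer_commutator h.nor' h.nor'
  have key : ∀ {A D}, Fp G A → D ≤ ⁅G, G⁆ ⊔ A → A ≤ ⁅G, G⁆ ⊔ D → ∃ g ∈ ⁅G, G⁆, H98.cj g A ≤ D :=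
    fun h d1 d2 => ih _ (hn ▸ card_lt_of_lt hlt) (h.mono hlt.le (le_normalizer_commutator h.nor h.nor))
      (Group.isSolvable_of_isSolvable_injective (inclusion_injective hlt.le)) d1 d2 rfl
  have hGL := hlt.le.trans (le_sup_left (b := A))
  have := (normal_subgroupOf_iff_le_normalizer hGL).2 nG
  let f := QuotientGroup.mk' (⁅G, G⁆.subgroupOf (G ⊔ A))
  have ek : G.subgroupOf (G ⊔ A) ⊓ f.ker = ⁅G, G⁆.subgroupOf (G ⊔ A) := by
    rw [QuotientGroup.ker_mk']; exact inf_eq_right.2 (comap_mono hlt.le)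
  have inj := (G ⊔ A).subtype_injective
  have mp : ∀ {X}, X ≤ G ⊔ A → (X.subgroupOf (G ⊔ A)).map (G ⊔ A).subtype = X := map_subgroupOf_eq_of_le
  have h3 := map_of (h.subgroupOf le_sup_left le_sup_right) f fun D d1 d2 => by
    rw [ek, ← map_le_map_iff_of_injective inj, Subgroup.map_sup, mp hGL, mp le_sup_right] at d1 d2
    obtain ⟨g, hg, e⟩ := key h d1 d2
    exact ⟨⟨g, hGL hg⟩, ek.ge hg, by rwa [← map_le_map_iff_of_injective inj, map_cj, mp le_sup_right]⟩
  obtain ⟨_, ⟨g, hg, rfl⟩, e1⟩ := h3.supp_ab (D := (D.subgroupOf (G ⊔ A)).map f) (by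
      rw [← commutator_eq_bot_iff_le_centralizer, ← map_commutator, Subgroup.map_eq_bot_iff,
        QuotientGroup.ker_mk', ← map_le_map_iff_of_injective inj, map_commutator, mp le_sup_left, mp hGL])
    (by rw [← Subgroup.map_sup, ← subgroupOf_sup le_sup_left le_sup_right]; exact map_mono (comap_mono h1))
    (by rw [← Subgroup.map_sup, ← subgroupOf_sup le_sup_left h1]; exact map_mono (comap_mono h2))
  rw [← map_cj, Subgroup.map_le_map_iff, QuotientGroup.ker_mk', ← map_le_map_iff_of_injective inj, map_cj,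
    Subgroup.map_sup, mp hGL, mp le_sup_right, mp h1] at e1
  obtain ⟨k, hk, e2⟩ := key (D := D ⊓ (⁅G, G⁆ ⊔ H98.cj g A)) (h.cj (le_normalizer hg)) inf_le_right
    fun a ha => by
      obtain ⟨d, hd, c, hc, rfl⟩ := (mem_sup_left_norm (h1.trans nG)).1 (e1 ha)
      exact mul_mem (mem_sup_right ⟨hd, (mul_mem_cancel_right (mem_sup_left hc)).1 (mem_sup_right ha)⟩)
        (mem_sup_left hc)
  exact ⟨k * g, mul_mem (hlt.le hk) hg, cj_cj k _ A ▸ e2.trans inf_le_left⟩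

/-- no fixed points on a quotient by a solvable subgroup -/
theorem Fp.quo (h : Fp G A) (hN : N ≤ G) (hn : A ≤ N[N]) (hs : Group.IsSolvable N) (hx : x ∈ G)
    (hc : ∀ a ∈ A, x * a * x⁻¹ * a⁻¹ ∈ N) : x ∈ N :=
  quo_of h hN (fun _ => (h.mono hN hn).supp hs) hx hc

theorem Fp.map' (h : Fp G A) (f : Γ →* Δ) (hs : Group.IsSolvable (G ⊓ f.ker : Subgroup Γ)) :
    Fp (G.map f) (A.map f) :=
  map_of h f fun _ => (h.mono inf_le_left (le_normalizer_inf h.nor le_normalizer_of_normal)).supp hs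

theorem sol_le (hs : Group.IsSolvable G) (h : K ≤ G) : Group.IsSolvable K :=
  Group.isSolvable_of_isSolvable_injective (inclusion_injective h)

theorem Fp.map (h : Fp G A) (hs : Group.IsSolvable G) (f : Γ →* Δ) : Fp (G.map f) (A.map f) :=
  h.map' f (sol_le hs inf_le_left)

/-- Glauberman's lemma: a subgroup which meets every coset `G a` contains a conjugate of `A` -/
theorem Fp.gl (h : Fp G A) (hs : Group.IsSolvable G) (hX : ∀ a ∈ A, ∃ x ∈ G, x * a ∈ D) :
    ∃ g ∈ G, H98.cj g A ≤ D := by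
  obtain ⟨g, hg, e⟩ := h.supp hs (D := D ⊓ (G ⊔ A)) inf_le_right fun a ha => by
    obtain ⟨x, hx, e⟩ := hX a ha
    exact (mul_mem_cancel_left (mem_sup_left hx)).1 (mem_sup_right ⟨e, mul_mem_sup hx ha⟩)
  exact ⟨g, hg, e.trans inf_le_left⟩

variable {p : ℕ} [Fact p.Prime]

theorem Fp.exists_syl (h : Fp G A) (hs : Group.IsSolvable G) (p : ℕ) [Fact p.Prime] :
    ∃ P, IsSyl p P G ∧ A ≤ N[P] := by
  obtain ⟨P, hP⟩ := exists_isSyl p G
  obtain ⟨g, hg, e⟩ := h.gl hs (D := N[P]) fun a ha => by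
    obtain ⟨x, hx, e⟩ := (hP.cj_of_mem_normalizer (h.nor ha)).exists_cj_eq hP
    exact ⟨x, hx, cj_eq_self_iff.1 (by rwa [← cj_cj])⟩
  exact ⟨_, hP.cj_of_mem (inv_mem hg), by rwa [← cj_normalizer, ← cj_le_iff]⟩

/-- two invariant subgroups which are conjugate in `G` are equal -/
theorem Fp.eq_of_cj (h : Fp G A) (hs : Group.IsSolvable (G ⊓ N[P] : Subgroup Γ)) (h1 : A ≤ N[P])
    (hg : g ∈ G) (h2 : A ≤ N[H98.cj g P]) : H98.cj g P = P := by
  rw [← cj_normalizer, le_cj_iff] at h2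
  obtain ⟨n, hn, e⟩ := (h.mono inf_le_left (le_normalizer_inf h.nor
    (h1.trans le_normalizer))).gl hs (D := H98.cj g⁻¹ A) fun a ha =>
      ⟨g⁻¹ * a * g * a⁻¹, mem_inf.2 ⟨by
        simpa [mul_assoc] using mul_mem (inv_mem hg) (conj_mem_of_mem_normalizer (h.nor ha) hg),
        mul_mem (h2 (by simpa using conj_mem_cj (g := g⁻¹) ha)) (inv_mem (h1 ha))⟩, by
        simpa using conj_mem_cj (g := g⁻¹) ha⟩
  rw [← cj_le_iff, cj_cj] at e
  rw [eq_inv_of_mul_eq_one_left (h.eq_one_of_cj (mul_mem hg hn.1) e)]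
  exact cj_eq_self (inv_mem hn.2)

theorem Fp.syl_unique (h : Fp G A) (hs : Group.IsSolvable G) (hP : IsSyl p P G) (hP' : IsSyl p P' G)
    (h1 : A ≤ N[P]) (h2 : A ≤ N[P']) : P' = P := by
  obtain ⟨g, hg, rfl⟩ := hP.exists_cj_eq hP'
  exact h.eq_of_cj (sol_le hs inf_le_left) h1 hg h2

theorem Fp.op2 (h : Fp G A) (hs : Group.IsSolvable G) : H52.NC.Op2 G A := by
  refine ⟨h.nor, fun Y X h1 h2 h3 e => ?_⟩
  obtain ⟨g, hg, h4⟩ := h.supp hs (h2.trans h1) h3
  have h5 := h.cj (le_normalizer hg)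
  have h6 : Y ≤ G ⊔ H98.cj g A := h1.trans (sup_le le_sup_left (le_sup_cj h.nor hg))
  generalize H98.cj g A = B at h4 h5 h6
  have nX : Y ≤ N[X] := (normal_subgroupOf_iff_le_normalizer h2).1 (normal_of_index_eq_two e)
  have : X = Y := le_antisymm h2 fun y hy => by
    have nB := h6.trans h5.nor'
    obtain ⟨x, hx, e1⟩ := (h5.mono inf_le_left (le_normalizer_inf h5.nor
      (h4.trans le_normalizer))).gl (sol_le hs inf_le_left) (D := H98.cj y B) fun b hb => by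
        obtain ⟨k, hk, c, hc, rfl⟩ := (mem_sup_right_norm h5.nor).1 (h6 hy)
        refine ⟨k * b * k⁻¹ * b⁻¹, mem_inf.2 ⟨by
          simpa [mul_assoc] using mul_mem hk (conj_mem_of_mem_normalizer (h5.nor hb) (inv_mem hk)),
          mul_mem ?_ (inv_mem (h4 hb))⟩, ?_⟩
        · simpa [mul_assoc] using conj_mem_of_mem_normalizer (nX hy)
            (h4 (conj_mem_of_mem_normalizer' (le_normalizer hc) hb))
        · rw [← cj_cj, cj_eq_self_of_mem hc, inv_mul_cancel_right]; exact conj_mem_cj hb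
    rw [le_cj_iff, cj_cj] at e1
    have := h5.nn (mem_inf.2 ⟨mul_mem (inv_mem (h6 hy)) (mem_sup_left (mem_inf.1 hx).1),
      mem_normalizer_of_cj_le e1⟩)
    exact inv_mem_iff.1 ((mul_mem_cancel_right (mem_inf.1 hx).2).1 (h4 this))
  rw [this, relIndex_self] at e
  exact absurd e (by decide)

end

end H14.NF
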