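/- blueprints/NF.md: automizers of odd order are detected in characteristic normalizers. -/
import Cfsg.Agent.H13.Ctrl3
import Cfsg.Agent.H96.R1
import Cfsg.Agent.H96.Bridge2
import Cfsg.Agent.H14.NFBase

set_option autoImplicit false

namespace H14.NF

open Subgroup Cfsg H98 H96 H26.FP MatrixGroups
open H13 (FinFunctor zj)

universe u

variable {G : Type u} [Group G] {p : ℕ} {K L X S : Subgroup G}

/-- the `p`-subgroups of `K` have automizers of odd order -/
def PP (p : ℕ) (K : Subgroup G) : Prop :=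
  ∀ X ≤ K, IsPGroup p X → ∀ g ∈ K, g ∈ N[X] → ∃ m, Odd m ∧ g ^ m ∈ C[X]

theorem PP.mono (h : PP p K) (hL : L ≤ K) : PP p L :=
  fun X hX h1 g hg => h X (hX.trans hL) h1 g (hL hg)

theorem PP.of_map {H : Type*} [Group H] {f : G →* H} (hf : Function.Injective f)
    (h : PP p (K.map f)) : PP p K := fun X hX h1 g hg h2 => by
  obtain ⟨m, k1, k2⟩ := h _ (map_mono hX) (h1.map f) _ (mem_map_of_mem f hg)
    (le_normalizer_map f (mem_map_of_mem f h2))
  exact ⟨m, k1, fun x hx => hf (by simpa using k2 _ (mem_map_of_mem f hx))⟩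

theorem pow_comm_of {c x : G} (h : c * (c * x * c⁻¹ * x⁻¹) = c * x * c⁻¹ * x⁻¹ * c) (n : ℕ) :
    c ^ n * x * (c ^ n)⁻¹ * x⁻¹ = (c * x * c⁻¹ * x⁻¹) ^ n := by
  induction n with
  | zero => simp
  | succ n ih =>
    rw [pow_succ (_ * _), ← ih, ← mul_inv_cancel_right (c ^ n * x * _ * _) c, ih,
      ← (Commute.pow_right h n).eq, ← ih, pow_succ']
    group

variable [Finite G]

theorem pp_of_odd (h : Odd (Nat.card K)) : PP p K := fun X _ _ g hg _ =>
  ⟨_, h, by rw [show g ^ Nat.card K = 1 from congrArg Subtype.val (pow_card_eq_one' (x := (⟨g, hg⟩ : K)))]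
            exact one_mem _⟩

variable [hp : Fact p.Prime]

theorem lift_nor {H : Type*} [Group H] {f : G →* H} {Y : Subgroup H} {R : Subgroup G} {g : G}
    (hR : IsSyl p R (K ⊓ Y.comap f)) (e : R.map f = Y) (hg : g ∈ K) (h : f g ∈ N[Y]) :
    ∃ n ∈ K ⊓ N[R], f n = f g := by
  obtain ⟨a, ha, n, hn, rfl⟩ := hR.frattini_mem (g := g) (inf_normalizer_le_normalizer_inf
    ⟨le_normalizer hg, le_normalizer_comap f h⟩)
  obtain ⟨r, hr, k⟩ := e.ge hn.2
  exact ⟨a * r, ⟨K.mul_mem ((K.mul_mem_cancel_right hn.1).1 hg) (hR.le hr).1,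
    mul_mem ha (le_normalizer hr)⟩, by rw [map_mul, map_mul, k]⟩

theorem PP.map {H : Type*} [Group H] (h : PP p K) (f : G →* H) : PP p (K.map f) := by
  rintro Y hY h1 _ ⟨g, hg, rfl⟩ h2
  obtain ⟨R, hR⟩ := exists_isSyl p (K ⊓ Y.comap f)
  have e : R.map f = Y := by
    refine (hR.map f).eq_of_le h1 (map_le_iff_le_comap.2 (hR.le.trans inf_le_right)) (fun y hy => ?_) |>.symm
    obtain ⟨x, hx, rfl⟩ := hY hy
    exact ⟨x, ⟨hx, hy⟩, rfl⟩
  obtain ⟨n, hn, k⟩ := lift_nor hR e hg h2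
  obtain ⟨m, k1, k2⟩ := h R (hR.le.trans inf_le_left) hR.isPGroup n hn.1 hn.2
  refine ⟨m, k1, ?_⟩
  rw [← e, ← k, ← map_pow]
  rintro _ ⟨x, hx, rfl⟩
  rw [← map_mul, k2 x hx, map_mul]

theorem finFunctor_of {Z : ∀ (G : Type u) [Group G], Subgroup G → Subgroup G}
    (h1 : ∀ (G : Type u) [Group G] (D : Subgroup G), Z G D ≤ D)
    (h2 : ∀ (G H : Type u) [Group G] [Group H] (f : G →* H) (D : Subgroup G),
      Function.Injective f → (Z G D).map f = Z H (D.map f))
    (h3 : ∀ (G : Type u) [Group G] [Finite G] (D : Subgroup G), IsPGroup p D → D ≠ ⊥ → Z G D ≠ ⊥) :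
    FinFunctor p Z := by
  refine ⟨fun G _ _ => h1 G, fun G H _ _ _ _ f D h => ?_, h3⟩
  have e : D = (⊤ : Subgroup D).map D.subtype := by rw [← MonoidHom.range_eq_map, range_subtype]
  conv_rhs => rw [e, ← h2 _ _ _ _ D.subtype_injective, map_map]
  rw [h2 _ _ (f.comp D.subtype) _ fun a b k => Subtype.ext (h a.2 b.2 k), ← map_map, ← e]

theorem finFunctor_oz : FinFunctor.{u} p fun _ _ D => oz p D :=
  finFunctor_of (fun _ _ => oz_le) (fun _ _ _ _ _ D h => map_oz h D) fun _ _ _ _ => oz_ne_bot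

theorem finFunctor_bm : FinFunctor.{u} p fun _ _ D => bm p D :=
  finFunctor_of (fun _ _ => bm_le) (fun _ _ _ _ _ D h => map_bm h D) fun _ _ _ D h1 h2 e =>
    oz_ne_bot h1 h2 (eq_bot_iff.2 (e ▸ le_inf (oz_le D) ((oz_le_centralizer D).trans
      (centralizer_anti ((oz_le _).trans (jt_le D))))))

/-- a rank one group over the Baumann subgroup -/
theorem exists_sl2 {M V : Subgroup G} (hS : IsSyl p S ⊤) (hM : UMax S M ⊤) (eV : V = oz p (pCoreOf p ⊤))
    (h1 : C[V ⊓ C[S]] ≤ M) (hB : N[bm p S] ≤ M) :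
    ∃ L, IsSyl p (bm p S) L ∧ ∃ (F : Type) (_ : Field F) (_ : _root_.CharP F p) (f : L →* SL(2, F)),
      Function.Surjective f := by
  have hV : IsElementaryAbelian p V := eV ▸ ea_oz _
  have nV : ⊤ ≤ N[V] := eV ▸ le_normalizer_oz (self_le_normalizer_pCoreOf ⊤)
  have hVT : V ≤ S := eV ▸ (oz_le _).trans hS.pCoreOf_le
  have hC := (inf_le_right : ⊤ ⊓ _ ≤ _).trans h1
  have hC' := (inf_le_inf_left ⊤ (centralizer_anti (inf_le_left : V ⊓ _ ≤ V))).trans hC
  have := hV.1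
  obtain ⟨Δ, _, _, _, _, ⟨b⟩⟩ := exists_br nV
  have h := b.mp hV hS hM (eV ▸ le_centralizer_oz _) hC
  have hJ : ¬ jt p S ≤ C[V] := fun e => hM.not_le (by
    have e1 := bm_eq_of_le (le_inf (bm_le S) (bm_le_centralizer_of hV hVT (le_centralizer_iff.1 e)))
      (inf_le_left : S ⊓ C[V] ≤ S)
    refine (hS.frattini_centralizer nV).ge.trans (sup_le (inf_le_right.trans (le_trans ?_ hB)) hC')
    rw [← e1]; exact le_normalizer_bm le_rfl)
  have eJ := b.bar_jt_eq h hV hVT hS.le hJ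
  obtain ⟨A, L₀, B₂, hL, tA, -, e, k1, k2, k3⟩ := h.exists_split
    (eJ ▸ mt (b.bar_eq_bot ((jt_le S).trans hS.le)).1 hJ)
  obtain ⟨F, _, _, ⟨m⟩⟩ := id hL
  obtain ⟨L, -, hB', -, -, f, hf⟩ := b.exists_sl2 hV hS hVT m tA
    ((b.bar_bm_eq h hV hVT hS.le hJ).trans e) (fun e' => hL.not_comm
      ((le_sup_left.trans (e.ge.trans (eJ.ge.trans e'))).trans k1)) k1 k2 k3
  exact ⟨L, hB', F, _, m.charP h.h0, f, hf⟩

theorem odd_of_pp (hp2 : p ≠ 2) (h : PP p K) (h1 : X ≤ K) (hX : IsPGroup p X) (h2 : K ≤ N[X])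
    (h3 : K ⊓ C[X] ≤ X) : Odd (Nat.card K) := Nat.not_even_iff_odd.1 fun e => by
  have := Fact.mk Nat.prime_two
  obtain ⟨t, ht⟩ := exists_prime_orderOf_dvd_card' 2 e.two_dvd
  obtain ⟨_, ⟨k, rfl⟩, k2⟩ := h X h1 hX t t.2 (h2 t.2)
  rw [← orderOf_coe] at ht
  rw [pow_succ, pow_mul, ← ht, pow_orderOf_eq_one, one_pow, one_mul] at k2
  obtain ⟨j, hj⟩ := isPGroup_iff_forall.1 hX t (h3 ⟨t.2, k2⟩)
  exact hp2 ((Nat.prime_dvd_prime_iff_eq Nat.prime_two hp.out).1
    (Nat.prime_two.dvd_of_dvd_pow (ht ▸ orderOf_dvd_of_pow_eq_one hj))).symm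

theorem zj_normal_of_odd (hp2 : p ≠ 2) (h : Odd (Nat.card G)) (hS : IsSyl p S ⊤) (hc : H10.IsCharP p G) :
    (zj 0 S).Normal :=
  H13.zjD_normal hp2 0 hS.toSylowTop (H13.sc_self S) hc (H13.weakStable_of_isPStableOn _
    fun V _ hV => H11.isPStableOn_of_not_involves_qd hp2 (H11.not_involves_qd_of_odd hp2 h) V hV)

/-- the characteristic normalizers have automizers of odd order -/
def Hy (p : ℕ) (S : Subgroup G) : Prop := ∀ Z, FinFunctor.{u} p Z → PP p N[Z G S]

theorem pp_of_hy (hp2 : p ≠ 2) (G : Type u) [Group G] [Finite G] (T : Subgroup G) (hT : IsSyl p T ⊤)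
    (h : Hy p T) : PP p (⊤ : Subgroup G) := by
  induction hn : Nat.card G using Nat.strong_induction_on generalizing G with
  | _ n ih =>
  subst hn
  have := Fact.mk Nat.prime_two
  have po : Odd p := hp.out.odd_of_ne_two hp2
  by_contra hG
  obtain ⟨X, hX, g, hg, hng⟩ : ∃ X : Subgroup G, IsPGroup p X ∧ ∃ g ∈ N[X], ∀ m, Odd m → g ^ m ∉ C[X] := by
    simpa [PP] using hG
  have quo : ∀ (N : Subgroup G) [N.Normal], N ≠ ⊥ → Hy p (T.map (QuotientGroup.mk' N)) →
      ∃ m, Odd m ∧ ∀ j, ∀ x ∈ X, g ^ (m * j) * x * (g ^ (m * j))⁻¹ * x⁻¹ ∈ N := fun N _ h1 h2 => by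
    obtain ⟨m, k1, k2⟩ := ih _ (H10.card_quotient_lt N h1) _ _ (by
      simpa only [map_top_of_surjective _ (QuotientGroup.mk'_surjective N)] using
        hT.map (QuotientGroup.mk' N)) h2 rfl _ le_top (hX.map (QuotientGroup.mk' N)) _ trivial
      (le_normalizer_map _ (mem_map_of_mem _ hg))
    refine ⟨m, k1, fun j x hx => (QuotientGroup.eq_one_iff _).1 ?_⟩
    change QuotientGroup.mk' N _ = 1
    simp only [map_mul, map_inv, map_pow, pow_mul, ← pow_mem k2 j _ (mem_map_of_mem _ hx)]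
    group
  have hO : pPrimeCore p G = ⊥ := by_contra fun e => by
    have hk := H10.coprime_card_ker_mk'_pPrimeCore p G
    obtain ⟨m, k1, k2⟩ := quo _ e fun Z hZ => by
      rw [hZ.map _ _ _ _ (H13.injOn_of_coprime_ker _ hk hT.isPGroup), ← H10.map_normalizer_of_coprime_ker _
        (QuotientGroup.mk'_surjective _) hk (hT.isPGroup.to_le (hZ.le _ T))]
      exact (h Z hZ).map _
    refine hng _ (k1.mul odd_one) fun x hx => (mul_inv_eq_iff_eq_mul.1 (mul_inv_eq_one.1 (mem_bot.1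
      ((H2.disjoint_pPrimeCore_of_isPGroup hX).le_bot ⟨X.mul_mem (conj_mem_of_mem_normalizer
        (pow_mem hg _) hx) (X.inv_mem hx), k2 1 x hx⟩)))).symm
  have all : ∀ S : Subgroup G, IsSyl p S ⊤ → Hy p S := fun S hS Z hZ => by
    obtain ⟨g, -, rfl⟩ := hT.exists_cj_eq hS
    rw [show Z G (cj g T) = cj g (Z G T) from hZ.cj g T, ← cj_normalizer]
    exact (h Z hZ).map _
  have sub : ∀ H S : Subgroup G, H ≠ ⊤ → IsSyl p S H → Hy p S → PP p H := fun H S h1 h2 h3 => by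
    have := (ih _ (H10.card_subgroup_lt H h1) H _ h2.subgroupOf_top (fun Z hZ => by
      rw [hZ.subgroupOf h2.le, ← subgroupOf_normalizer_eq ((hZ.le _ S).trans h2.le)]
      exact PP.of_map H.subtype_injective ((h3 Z hZ).mono (map_le_iff_le_comap.2 le_rfl))) rfl).map H.subtype
    rwa [← MonoidHom.range_eq_map, range_subtype] at this
  have loc : ∀ U : Subgroup G, IsPGroup p U → ¬ U ≤ pCore p G → N[U] ≠ ⊤ := fun U hU h1 h2 =>
    have := normalizer_eq_top_iff.1 h2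
    h1 (H2.le_pCore hU)
  have hQ : pCore p G ≠ ⊥ := fun e => by
    have step : ∀ n (S : Subgroup G), Nat.card G - Nat.card S = n → IsPGroup p S → S ≠ ⊥ → Hy p S := by
      intro n
      induction n using Nat.strong_induction_on with
      | _ n ih' =>
      rintro S rfl hS h1 Z hZ
      have h2 : N[S] ≤ N[Z G S] := hZ.Nm_le S
      obtain ⟨R, hR, hSR⟩ := exists_isSyl_le hS (le_normalizer.trans h2)
      rcases hSR.eq_or_lt with rfl | hlt
      · exact all S (isSyl_of_isSyl_normalizer (hR.of_le (le_inf le_top le_normalizer)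
          (inf_le_right.trans h2))) Z hZ
      refine sub _ R (loc _ (hS.to_le (hZ.le _ S)) (by rw [e, le_bot_iff]; exact hZ.ne_bot _ _ hS h1))
        hR (ih' _ ?_ R rfl hR.isPGroup (ne_bot_of_gt hlt))
      have := card_le_card_group R
      have := card_lt_of_lt hlt
      omega
    obtain ⟨R, hR, hXR⟩ := exists_isSyl_le hX le_normalizer
    have h1 : X ≠ ⊥ := fun e => hng 1 odd_one (by simp [e])
    obtain ⟨m, k1, k2⟩ := sub _ R (loc _ hX (by rwa [e, le_bot_iff])) hR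
      (step _ R rfl hR.isPGroup (ne_bot_of_le_ne_bot h1 hXR)) X le_normalizer hX g hg hg
    exact hng m k1 k2
  have ovr : ∀ K : Subgroup G, K ≠ ⊤ → T ≤ K → PP p K := fun K h1 h3 =>
    sub K T h1 (hT.of_le h3 le_top) h
  have hQT : pCore p G ≤ T := H2.pCore_le_sylow hT.toSylowTop
  have nt : ∀ Z, FinFunctor p Z → N[Z G T] ≠ ⊤ := fun Z hZ e => hG (e ▸ h Z hZ)
  have hq := H2.pCore_isPGroup p G
  have nQ : ∀ x : G, x ∈ N[pCore p G] := fun x => by rw [normalizer_eq_top]; trivial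
  obtain ⟨m, k1, k2⟩ := quo _ hQ fun Z hZ => by
    set f := QuotientGroup.mk' (pCore p G)
    have h1 : (Z _ (T.map f)).comap f ≤ T := (comap_mono (hZ.le _ _)).trans (by
      rw [comap_map_eq, QuotientGroup.ker_mk']
      exact sup_le le_rfl hQT)
    rw [← map_comap_eq_self_of_surjective (QuotientGroup.mk'_surjective _) N[_]]
    refine ((ovr _ (loc _ (hT.isPGroup.to_le h1) fun e => ?_) ((map_le_iff_le_comap.1
      (le_normalizer.trans (hZ.Nm_le _))).trans (le_normalizer_comap f))).mono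
      (le_normalizer_comap f)).map f
    have h2 : T = pCore p G := le_antisymm (by
      rw [← QuotientGroup.ker_mk' (pCore p G), ← Subgroup.map_eq_bot_iff]
      by_contra e'
      refine hZ.ne_bot _ _ (hT.isPGroup.map f) e' ?_
      rwa [← map_comap_eq_self_of_surjective (QuotientGroup.mk'_surjective _) (Z _ _),
        Subgroup.map_eq_bot_iff, QuotientGroup.ker_mk']) hQT
    refine nt Z hZ (eq_top_iff.2 (le_trans ?_ (hZ.Nm_le T)))
    rw [h2]; exact fun x _ => nQ x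
  have hgQ : ∀ k, Odd k → g ^ k ∉ C[pCore p G] := fun k h1 h2 => by
    obtain ⟨j, hj⟩ := hq.exists_card_eq
    refine hng (m * k * p ^ j) ((k1.mul h1).mul po.pow) fun x hx => ?_
    have h3 := k2 k x hx
    have h4 := pow_mem h2 m
    rw [← pow_mul, mul_comm k] at h4
    rw [pow_mul, eq_comm, ← mul_inv_eq_iff_eq_mul, ← mul_inv_eq_one, pow_comm_of (h4 _ h3).symm, ← hj]
    exact congrArg Subtype.val (pow_card_eq_one' (x := (⟨_, h3⟩ : pCore p G)))
  have hc : H10.IsCharP p G := H13.isCharP_of_inf_le hT.toSylowTop hO (by_contra fun e => by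
    obtain ⟨b, hb, c, hc, rfl⟩ := (hT.inf_of_le_normalizer (N := C[pCore p G]) le_top
      (by rw [normalizer_eq_top]; exact le_top)).frattini_mem (g := g) (by rw [normalizer_eq_top]; trivial)
    have h1 : T ≤ N[T ⊓ C[pCore p G]] := fun g hg => inf_normalizer_le_normalizer_inf
      ⟨le_normalizer hg, by rw [normalizer_eq_top]; trivial⟩
    obtain ⟨k, k3, k4⟩ := ovr _ (loc _ hT.isPGroup.to_inf_left e) h1 _ (hQT.trans h1) hq b hb (nQ b)
    refine hgQ k k3 ((QuotientGroup.eq_one_iff _).1 ?_)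
    rw [QuotientGroup.mk_pow, QuotientGroup.mk_mul, (QuotientGroup.eq_one_iff c).2 hc, mul_one,
      ← QuotientGroup.mk_pow, QuotientGroup.eq_one_iff]
    exact k4)
  have odd : ∀ K : Subgroup G, K ≠ ⊤ → T ≤ K → Odd (Nat.card K) := fun K h1 h2 =>
    odd_of_pp hp2 (ovr K h1 h2) (hQT.trans h2) hq (fun x _ => nQ x) (inf_le_right.trans hc)
  have uq : ∀ K : Subgroup G, K ≠ ⊤ → T ≤ K → K ≤ N[zj 0 T] := fun K h1 h2 => by
    have h3 : (pCore p G).subgroupOf K ≤ pCore p K := H2.le_pCore hq.comap_subtype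
    have := zj_normal_of_odd hp2 (odd K h1 h2) (hT.of_le h2 le_top).subgroupOf_top fun x hx =>
      h3 (hc fun y hy => congrArg Subtype.val (hx ⟨y, h2 (hQT hy)⟩ (h3 hy)))
    rwa [H13.zj_subgroupOf 0 h2, normal_subgroupOf_iff_le_normalizer ((H13.zj_le 0 T).trans h2)] at this
  have nl : ∀ Z, FinFunctor p Z → T ≤ N[Z G T] := fun Z hZ => le_normalizer.trans (hZ.Nm_le T)
  have eQ : pCoreOf p (⊤ : Subgroup G) = pCore p G := pCoreOf_top
  obtain ⟨L, hB, F, _, _, f, hf⟩ := exists_sl2 (M := N[zj 0 T]) hT ⟨nl _ (H13.finFunctor_zj (dvd_zero p)),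
    lt_top_iff_ne_top.2 (nt _ (H13.finFunctor_zj (dvd_zero p))), fun K h1 _ =>
      or_iff_not_imp_right.2 fun e => uq K e h1⟩ rfl ((centralizer_anti (le_inf (le_oz (ea_oz T)
        (eQ ▸ ((oz_le_centralizer T).trans (centralizer_anti hQT)).trans hc)
        (eQ ▸ (oz_le_centralizer T).trans (centralizer_anti hQT))) (oz_le_centralizer T))).trans
        ((centralizer_le_normalizer _).trans (uq _ (nt _ finFunctor_oz) (nl _ finFunctor_oz))))
      (uq _ (nt _ finFunctor_bm) (nl _ finFunctor_bm))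
  obtain ⟨z, hz⟩ := hf (-1)
  obtain ⟨n, hn, k⟩ := lift_nor (f := f) (K := ⊤) (g := z) (hB.subgroupOf_top.of_le (le_inf le_top (le_comap_map _ _))
    le_top) rfl trivial (centralizer_le_normalizer _ fun y _ => by rw [hz]; simp)
  rw [← subgroupOf_normalizer_eq hB.le] at hn
  have h1 := odd _ (nt _ finFunctor_bm) (nl _ finFunctor_bm)
  have h2 : n ^ Nat.card N[bm p T] = 1 := Subtype.ext
    (congrArg Subtype.val (pow_card_eq_one' (x := (⟨n, hn.2⟩ : N[bm p T]))) :)
  have h3 := congrArg f h2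
  rw [map_pow, k, hz, h1.neg_one_pow, map_one] at h3
  have h4 : ((2 : ℕ) : F) = 0 := by
    have : (-1 : F) = 1 := by simpa using congrArg (fun A : SL(2, F) => A.1 0 0) h3
    linear_combination -this
  exact hp2 ((Nat.prime_dvd_prime_iff_eq hp.out Nat.prime_two).1 ((CharP.cast_eq_zero_iff F p 2).1 h4))

/-- with automizers of odd order, `N(ZJ(S))` controls strong fusion -/
theorem PP.ctrl (hp2 : p ≠ 2) (h : PP p (⊤ : Subgroup G)) (hS : IsSyl p S ⊤) : H13.Ctrl N[zj 0 S] S ⊤ :=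
  H13.ctrl_of_normal_charP (H13.finFunctor_zj (dvd_zero p)) True (fun G _ => PP p (⊤ : Subgroup G))
    (fun _ _ _ U h => PP.of_map U.subtype_injective (h.mono le_top))
    (fun _ _ _ h => (h.map _).mono (map_top_of_surjective _ (QuotientGroup.mk'_surjective _)).ge)
    (fun _ _ _ _ _ h => (h.map _).mono (map_top_of_surjective _ (QuotientGroup.mk'_surjective _)).ge)
    (fun G _ _ P _ h hc _ e => e trivial ▸ zj_normal_of_odd hp2 (card_top (G := G) ▸ odd_of_pp hp2 h le_top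
      (H2.pCore_isPGroup p G) (normalizer_eq_top _).ge (inf_le_right.trans hc)) (isSyl_sylow P) hc)
    G h hS.toSylowTop S (H13.sc_self S) fun _ => rfl

end H14.NF
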