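/- Interface of blueprints/NF.md: Frobenius groups of operators with fixed-point-free kernel. -/
import Cfsg.Agent.H14.NFBase
import Cfsg.Agent.H5.ThompsonFpf
import Cfsg.Prelude.Def_OddOrderLocal

set_option autoImplicit false

namespace H14.NF

open Subgroup Cfsg H98 H26.FP SemidirectProduct
open scoped commutatorElement

universe u

/-- **The theorem**: a group with a nilpotent fixed-point-free group of operators is solvable. -/
def Thm : Prop := ∀ (Γ : Type u) [Group Γ] [Finite Γ] (G A : Subgroup Γ), Fp G A → Group.IsSolvable G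

/-- `F H` is a Frobenius group (or `H = 1`, or `F = 1`) of operators on the solvable group `G`, and the
kernel `F` has no fixed points. -/
structure Fr {Γ : Type*} [Group Γ] (G F H : Subgroup Γ) : Prop where
  fp : Fp G F
  sol : Group.IsSolvable G
  nH : H ≤ N[G]
  hF : H ≤ N[F]
  semi : ∀ h ∈ H, h ≠ 1 → ∀ f ∈ F, h * f = f * h → f = 1
  dis : G ⊓ (F ⊔ H) = ⊥

section
variable {Γ Δ : Type*} [Group Γ] [Group Δ] [Finite Γ] {G F H K L : Subgroup Γ}

omit [Finite Γ] in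
theorem Fr.nor (h : Fr G F H) : G ⊔ (F ⊔ H) ≤ N[G] := sup_le le_normalizer (sup_le h.fp.nor h.nH)

theorem Fr.mono (h : Fr G F H) (hK : K ≤ G) (h1 : F ≤ N[K]) (h2 : H ≤ N[K]) : Fr K F H :=
  ⟨h.fp.mono hK h1, sol_le h.sol hK, h2, h.hF, h.semi,
    eq_bot_iff.2 ((inf_le_inf_right _ hK).trans h.dis.le)⟩

omit [Finite Γ] in
/-- a subgroup of the complement -/
theorem Fr.monoH (h : Fr G F H) (hK : K ≤ H) : Fr G F K :=
  ⟨h.fp, h.sol, hK.trans h.nH, hK.trans h.hF, fun x hx => h.semi x (hK hx),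
    eq_bot_iff.2 ((inf_le_inf_left _ (sup_le_sup_left hK F)).trans h.dis.le)⟩

/-- images under maps whose kernel meets `G F H` inside `G` -/
theorem Fr.map (h : Fr G F H) (f : Γ →* Δ) (hk : f.ker ⊓ (G ⊔ (F ⊔ H)) ≤ G) :
    Fr (G.map f) (F.map f) (H.map f) := by
  have := h.sol
  refine ⟨h.fp.map h.sol f, Group.isSolvable_of_surjective (f.subgroupMap_surjective G),
    map_le_normalizer_map f h.nH, map_le_normalizer_map f h.hF, ?_, eq_bot_iff.2 ?_⟩
  · rintro _ ⟨x, hx, rfl⟩ h1 _ ⟨y, hy, rfl⟩ e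
    have h2 : x * y * x⁻¹ * y⁻¹ ∈ F ⊔ H :=
      mem_sup_left (mul_mem (conj_mem_of_mem_normalizer (h.hF hx) hy) (inv_mem hy))
    have h3 := mem_bot.1 (h.dis.le (mem_inf.2 ⟨hk (mem_inf.2 ⟨show f _ = 1 by
      rw [map_mul, map_mul, map_mul, e]; simp, mem_sup_right h2⟩), h2⟩))
    rw [h.semi x hx (fun e => h1 (by rw [e, map_one])) y hy (by
      rwa [mul_inv_eq_one, mul_inv_eq_iff_eq_mul] at h3), map_one]
  · rw [← Subgroup.map_sup]
    rintro _ ⟨⟨g, hg, rfl⟩, a, ha, e⟩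
    have h1 := hk (mem_inf.2 ⟨show f (g⁻¹ * a) = 1 by rw [map_mul, e]; simp,
      mul_mem_sup (inv_mem hg) ha⟩)
    rw [mem_bot, ← e, mem_bot.1 (h.dis.le (mem_inf.2 ⟨(mul_mem_cancel_left (inv_mem hg)).1 h1, ha⟩)), map_one]

omit [Finite Γ] in
theorem Fr.of_map {f : Γ →* Δ} (hf : Function.Injective f) (h : Fr (G.map f) (F.map f) (H.map f)) :
    Fr G F H := by
  have := h.sol
  refine ⟨h.fp.of_map hf, Group.isSolvable_of_isSolvable_injective (f := f.subgroupMap G) fun a b e =>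
    Subtype.ext (hf (congrArg Subtype.val e)), ?_, ?_, fun x hx h1 y hy e => hf ?_, ?_⟩
  · simpa only [comap_map_eq_self_of_injective hf] using comap_le_normalizer_comap f h.nH
  · simpa only [comap_map_eq_self_of_injective hf] using comap_le_normalizer_comap f h.hF
  · rw [map_one]
    exact h.semi _ (mem_map_of_mem f hx) (fun e => h1 (hf (e.trans (map_one f).symm))) _
      (mem_map_of_mem f hy) (by rw [← map_mul, e, map_mul])
  · rw [← map_eq_bot_iff_of_injective _ hf, map_inf _ _ _ hf, Subgroup.map_sup, h.dis]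

omit [Finite Γ] in
theorem Fr.subgroupOf (h : Fr G F H) (h1 : G ≤ L) (h2 : F ≤ L) (h3 : H ≤ L) :
    Fr (G.subgroupOf L) (F.subgroupOf L) (H.subgroupOf L) :=
  Fr.of_map L.subtype_injective (by
    rwa [map_subgroupOf_eq_of_le h1, map_subgroupOf_eq_of_le h2, map_subgroupOf_eq_of_le h3])

/-- the invariant Sylow subgroup -/
theorem Fr.exists_syl (h : Fr G F H) (p : ℕ) [Fact p.Prime] :
    ∃ P, IsSyl p P G ∧ F ≤ N[P] ∧ H ≤ N[P] := by
  obtain ⟨P, hP, h1⟩ := h.fp.exists_syl h.sol p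
  exact ⟨P, hP, h1, fun x hx => cj_eq_self_iff.1 (h.fp.syl_unique h.sol hP
    (hP.cj_of_mem_normalizer (h.nH hx)) h1 (by
      rw [← cj_normalizer, ← cj_eq_self (h.hF hx)]; exact cj_mono x h1))⟩

end

/-- **H1**: a coset of `N` fixed by `H` contains a fixed point. -/
def JobH1 : Prop := ∀ (Γ : Type u) [Group Γ] [Finite Γ] (N F H : Subgroup Γ) (x : Γ), Fr N F H →
  (∀ h ∈ H, x * h * x⁻¹ * h⁻¹ ∈ N) → ∃ n ∈ N, n * x ∈ C[H]

/-- **Card**: the order formula. -/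
def JobCard : Prop := ∀ (Γ : Type u) [Group Γ] [Finite Γ] (G F H : Subgroup Γ), Fr G F H →
  Nat.card G = Nat.card (G ⊓ C[H] : Subgroup Γ) ^ Nat.card H

/-- **Key**: the kernel of `C_Q(H)` on `C_V(H)` acts trivially on `V`. -/
def JobKey : Prop := ∀ (Γ : Type u) [Group Γ] [Finite Γ] (Q F H V : Subgroup Γ) (c : Γ) (p : ℕ),
  p.Prime → Fr Q F H → Group.IsNilpotent Q → (Nat.card Q).Coprime p → IsElementaryAbelian p V →
  Q ⊔ (F ⊔ H) ≤ N[V] → c ∈ Q ⊓ C[H] → V ⊓ C[H] ≤ C1[c] → V ≤ C1[c]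

/-- **Core**: `O_π(C_G(H)) ≤ O_π(G)`. -/
def JobCore : Prop := ∀ (Γ : Type u) [Group Γ] [Finite Γ] (G F H : Subgroup Γ) (π : Set ℕ), Fr G F H →
  piCoreOf π (G ⊓ C[H]) ≤ piCoreOf π G

section
variable {G A : Type*} [Group G] [Group A] [MulDistribMulAction A G]

variable (G A) in
/-- the semidirect product of an action -/
abbrev SD := G ⋊[MulDistribMulAction.toMulAut A G] A

instance instFiniteSD [Finite G] [Finite A] : Finite (SD G A) :=
  Finite.of_equiv _ SemidirectProduct.equivProd.symm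

theorem sd_conj (a : A) (g : G) : (inr a * inl g * (inr a)⁻¹ : SD G A) = inl (a • g) := by
  rw [← map_inv, ← inl_aut]; rfl

theorem sd_comm {a : A} {g : G} : (inr a * inl g : SD G A) = inl g * inr a ↔ a • g = g := by
  rw [← mul_inv_eq_iff_eq_mul, sd_conj, inl_inj]

theorem sd_nor {K : Subgroup G} {B : Subgroup A} [Finite G] [Finite A] :
    B.map (inr : A →* SD G A) ≤ N[K.map (inl : G →* SD G A)] ↔ ∀ a ∈ B, ∀ x ∈ K, a • x ∈ K := by
  constructor
  · intro k a ha x hx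
    have := conj_mem_of_mem_normalizer (k (mem_map_of_mem _ ha)) (mem_map_of_mem inl hx)
    rwa [sd_conj, mem_map_iff_mem inl_injective] at this
  · rintro k _ ⟨a, ha, rfl⟩
    refine mem_normalizer_of_cj_le ?_
    rintro _ ⟨_, ⟨x, hx, rfl⟩, rfl⟩
    exact ⟨_, k a ha x hx, (sd_conj a x).symm⟩

theorem sd_cent {B : Subgroup A} {g : G} :
    (inl g : SD G A) ∈ C[B.map (inr : A →* SD G A)] ↔ ∀ a ∈ B, a • g = g :=
  ⟨fun h a ha => sd_comm.1 (h _ (mem_map_of_mem _ ha)), by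
    rintro h _ ⟨a, ha, rfl⟩; exact sd_comm.2 (h a ha)⟩

theorem sd_fix {K C : Subgroup G} {B : Subgroup A} (hC : ∀ g, g ∈ C ↔ ∀ a ∈ B, a • g = g) :
    K.map (inl : G →* SD G A) ⊓ C[B.map (inr : A →* SD G A)] = (K ⊓ C).map inl := by
  ext x
  constructor
  · rintro ⟨⟨g, hg, rfl⟩, h⟩
    exact ⟨g, ⟨hg, (hC g).2 (sd_cent.1 h)⟩, rfl⟩
  · rintro ⟨g, ⟨hg, h⟩, rfl⟩
    exact ⟨⟨g, hg, rfl⟩, sd_cent.2 ((hC g).1 h)⟩

theorem sd_fp [Finite G] [Finite A] {K : Subgroup G} {B : Subgroup A} (hn : Group.IsNilpotent B)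
    (h1 : ∀ a ∈ B, ∀ x ∈ K, a • x ∈ K) (h2 : ∀ g ∈ K, (∀ a ∈ B, a • g = g) → g = 1) :
    Fp (K.map (inl : G →* SD G A)) (B.map inr) :=
  ⟨sd_nor.2 h1, H4.isNilpotent_map B _, eq_bot_iff.2 (by
    rintro _ ⟨⟨g, hg, rfl⟩, h⟩
    rw [h2 g hg (sd_cent.1 h), map_one]; exact one_mem _)⟩

end

/-- the hypotheses of the rows give `Fr` in the semidirect product -/
theorem sd_fr {G : Type u} {A : Type*} [Group G] [Group A] [MulDistribMulAction A G] [Finite G]
    [Finite A] (thm : ∀ K B : Subgroup (SD G A), Fp K B → Group.IsSolvable K) {Fk Hc : Subgroup A}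
    [Fk.Normal] (hHc : IsFrobeniusComplement Hc) (hker : frobeniusKernel Hc = (Fk : Set A))
    {K : Subgroup G} (h1 : ∀ (a : A), ∀ x ∈ K, a • x ∈ K)
    (h2 : ∀ g ∈ K, (∀ a ∈ Fk, a • g = g) → g = 1) :
    Fr (K.map (inl : G →* SD G A)) (Fk.map inr) (Hc.map inr) := by
  have e : H5.frobKer hHc = Fk := Subgroup.ext fun x => by rw [H5.mem_frobKer, hker]; rfl
  have h := sd_fp (K := K) (B := Fk) (e ▸ H5.frobKer_isNilpotent hHc) (fun a _ => h1 a) h2
  refine ⟨h, thm _ _ h, sd_nor.2 fun a _ => h1 a, map_le_normalizer_map _ le_normalizer_of_normal,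
    ?_, eq_bot_iff.2 ?_⟩
  · rintro _ ⟨x, hx, rfl⟩ k1 _ ⟨y, hy, rfl⟩ k2
    rw [← map_mul, ← map_mul] at k2
    rw [H5.frob_eq_one_of_commute (x := y) hHc hx (fun e => k1 (by rw [e, map_one])) (hker ▸ hy)
      (inr_injective k2), map_one]
  · rw [← Subgroup.map_sup]
    rintro _ ⟨⟨g, -, rfl⟩, a, -, e⟩
    have := congrArg SemidirectProduct.left e
    rw [mem_bot, show g = 1 by simpa using this.symm, map_one]

end H14.NF
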