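/- blueprints/NF.md: the invariant Sylow `2`-subgroup of a minimal counterexample. -/
import Cfsg.Agent.H14.NFP
import Cfsg.Agent.H2.CoreFree

set_option autoImplicit false

namespace H14.NF

open Subgroup Cfsg H98 H26.FP
open H13 (zj)

universe u

/-- the properties of a minimal counterexample -/
structure Mc {Γ : Type*} [Group Γ] (G A : Subgroup Γ) : Prop where
  fp : Fp G A
  top : G ⊔ A = ⊤
  sub : ∀ K B : Subgroup Γ, K < G → Fp K B → Group.IsSolvable K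
  loc : ∀ (r : ℕ) (U : Subgroup Γ), r.Prime → IsPGroup r U → G ≤ N[U] → U = ⊥

variable {Γ : Type u} [Group Γ] [Finite Γ] {G A K U : Subgroup Γ} {r : ℕ} [hr : Fact r.Prime]

namespace Mc

variable (h : Mc G A)
include h

omit [Finite Γ] in
theorem normal : G.Normal := normalizer_eq_top_iff.1 (eq_top_iff.2 (h.top.ge.trans h.fp.nor'))

omit [Finite Γ] in
theorem lt (hU : IsPGroup r U) (h1 : U ≠ ⊥) : G ⊓ N[U] < G :=
  inf_lt_left.2 fun e => h1 (h.loc r U hr.out hU e)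

omit [Finite Γ] in
theorem sol (hK : K < G) (hn : A ≤ N[K]) : Group.IsSolvable K := h.sub K A hK (h.fp.mono hK.le hn)

theorem syl (hK : K < G) (hn : A ≤ N[K]) (r : ℕ) [Fact r.Prime] : ∃ P, IsSyl r P K ∧ A ≤ N[P] :=
  (h.fp.mono hK.le hn).exists_syl (h.sol hK hn) r

theorem syl_of (hU : IsPGroup r U) (h1 : U ≠ ⊥) (h2 : U ≤ G) (h3 : A ≤ N[U]) :
    ∃ P, IsSyl r P G ∧ A ≤ N[P] := by
  obtain ⟨R, hUR, ⟨k1, k2, k3⟩, hm⟩ := exists_maximal_ge_of_wellFoundedGT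
    (fun R : Subgroup Γ => IsPGroup r R ∧ R ≤ G ∧ A ≤ N[R]) U ⟨hU, h2, h3⟩
  obtain ⟨P, hP, h4⟩ := h.syl (h.lt k1 (ne_bot_of_le_ne_bot h1 hUR))
    (le_normalizer_inf h.fp.nor (le_normalizer_normalizer k3)) r
  have h5 := hP.le_of_le_normalizer k1 (le_inf k2 le_normalizer) (hP.le.trans inf_le_right)
  rw [le_antisymm (hm ⟨hP.isPGroup, hP.le.trans inf_le_left, h4⟩ h5) h5] at hP
  exact ⟨R, isSyl_of_isSyl_normalizer hP, k3⟩

omit h in
theorem exists_nor (hA : Group.IsNilpotent A) (hd : r ∣ Nat.card A) :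
    ∃ B ≤ A, IsPGroup r B ∧ B ≠ ⊥ ∧ A ≤ N[B] := by
  obtain ⟨B, hB⟩ := exists_isSyl r A
  obtain ⟨P, e⟩ := hB.exists_sylow
  exact ⟨B, hB.le, hB.isPGroup, fun e => hB.eq_bot_iff.1 e hd,
    (normal_subgroupOf_iff_le_normalizer hB.le).1 (by rw [← e, H2.sylow_eq_pCore]; infer_instance)⟩

theorem syl_dvd (hd : r ∣ Nat.card A) : ∃ P, IsSyl r P G ∧ A ≤ N[P] := by
  obtain ⟨B, h1, h2, h3, h4⟩ := exists_nor h.fp.nil hd
  obtain ⟨P, hP, h5⟩ := h.syl (inf_lt_left.2 fun e => h3 (h.loc r B hr.out h2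
    (e.trans (centralizer_le_normalizer _)))) (le_normalizer_inf h.fp.nor (le_normalizer_centralizer h4)) r
  by_cases e : P = ⊥
  · obtain ⟨R, hR⟩ := exists_isSyl r G
    refine ⟨R, hR, ?_⟩
    rw [hR.eq_bot_iff.2 fun k => hP.eq_bot_iff.1 e (((H2.card_modEq_card_inf_centralizer h2
      (h1.trans h.fp.nor)).dvd_iff dvd_rfl).1 k)]
    exact le_normalizer_bot A
  · exact h.syl_of hP.isPGroup e (hP.le.trans inf_le_left) h5

theorem syl_two : ∃ S, IsSyl 2 S G ∧ A ≤ N[S] := by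
  have := Fact.mk Nat.prime_two
  have := h.normal
  by_contra hno
  have nG : ∀ x : Γ, x ∈ N[G] := fun x => by rw [normalizer_eq_top]; trivial
  have A2 : ¬ 2 ∣ Nat.card A := fun e => hno (h.syl_dvd e)
  have odd : ∀ (r : ℕ) [Fact r.Prime] (U : Subgroup Γ), IsPGroup r U → U ≠ ⊥ → A ≤ N[U] →
      Odd (Nat.card N[U]) := fun r _ U h1 h2 h3 => by
    obtain ⟨P, hP, h4⟩ := h.syl (h.lt h1 h2) (le_normalizer_inf h.fp.nor (le_normalizer_normalizer h3)) 2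
    have h5 := hP.eq_bot_iff.1 (by_contra fun e =>
      hno (h.syl_of hP.isPGroup e (hP.le.trans inf_le_left) h4))
    rw [← Nat.not_even_iff_odd, even_iff_two_dvd, ← (G.subgroupOf N[U]).card_mul_index,
      Nat.prime_two.dvd_mul, ← card_map_of_injective N[U].subtype_injective, subgroupOf_map_subtype]
    refine fun e => e.elim h5 fun e => A2 ((e.trans (relIndex_dvd_index_of_normal G _)).trans ?_)
    rw [← relIndex_top_right, ← h.top, relIndex_sup_left]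
    exact relIndex_dvd_card _ _
  obtain ⟨S₀, hS₀⟩ := exists_isSyl 2 G
  obtain ⟨r, hr, hd⟩ := Nat.exists_prime_and_dvd (n := Nat.card A) fun e =>
    hno ⟨S₀, hS₀, (card_eq_one.1 e).le.trans bot_le⟩
  have := Fact.mk hr
  have r2 : r ≠ 2 := fun e => A2 (e ▸ hd)
  obtain ⟨B, hBA, hB, B1, nB⟩ := exists_nor h.fp.nil hd
  obtain ⟨R, hR, nR⟩ := h.syl_dvd hd
  have hT : IsSyl r (B ⊔ R) (B ⊔ G) := ⟨sup_le_sup_left hR.le B,
    hB.to_sup_of_normal_right' hR.isPGroup (hBA.trans nR), fun Q h1 h2 h3 => by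
      rw [← hR.eq_of_le (Q := G ⊓ Q) h1.to_inf_right (le_inf hR.le (le_sup_right.trans h2)) inf_le_left,
        ← sup_inf_of_le_left (fun x _ => nG x) (le_sup_left.trans h2), inf_eq_right.2 h3]⟩
  have nT : A ≤ N[B ⊔ R] := le_normalizer_sup nB nR
  have T1 : B ⊔ R ≠ ⊥ := ne_bot_of_le_ne_bot B1 le_sup_left
  have nL : ∀ x : Γ, x ∈ N[B ⊔ G] := fun x => (h.top.ge.trans (sup_le (le_sup_right.trans le_normalizer)
    (le_normalizer_sup nB h.fp.nor))) trivial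
  set f := QuotientGroup.mk' G
  have fL : IsPGroup r ((B ⊔ G).map f) := by
    rw [Subgroup.map_sup, QuotientGroup.map_mk'_self, sup_bot_eq]; exact hB.map f
  have hGL : G ≤ B ⊔ G := le_sup_right
  have BL : B ≤ B ⊔ G := le_sup_left
  generalize B ⊔ R = T, B ⊔ G = L at hT nT T1 nL fL hGL BL
  have ct : H13.Ctrl (L ⊓ N[zj 0 T]) T L := by
    have := (pp_of_hy r2 L _ hT.subgroupOf_top fun Z hZ => by
      rw [hZ.subgroupOf hT.le, ← subgroupOf_normalizer_eq ((hZ.le _ T).trans hT.le)]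
      exact PP.of_map L.subtype_injective ((pp_of_odd (odd r _ (hT.isPGroup.to_le (hZ.le _ T))
        (hZ.ne_bot _ _ hT.isPGroup T1) (nT.trans (hZ.Nm_le T)))).mono
          (map_le_iff_le_comap.2 le_rfl))).ctrl r2 hT.subgroupOf_top
    rw [H13.zj_subgroupOf 0 hT.le, ← subgroupOf_normalizer_eq ((H13.zj_le 0 T).trans hT.le)] at this
    exact H13.ctrl_of_subgroupOf hT.le this
  obtain ⟨S, Y, hS, hY, hYT⟩ : ∃ S Y, IsSyl 2 S G ∧ IsSyl r Y (L ⊓ N[S]) ∧ Y ≤ T := by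
    obtain ⟨Y, hY⟩ := exists_isSyl r (L ⊓ N[S₀])
    obtain ⟨l, hl, e⟩ := hT.exists_cj_le hY.isPGroup (hY.le.trans inf_le_left)
    refine ⟨_, _, hS₀.cj_of_mem_normalizer (nG l), ?_, e⟩
    have := hY.cj l
    rwa [cj_inf, cj_eq_self (nL l), cj_normalizer] at this
  have fe : ∀ {x y : Γ}, f x = f y → x * y⁻¹ ∈ G := fun e => (QuotientGroup.eq_one_iff _).1 (by
    change f _ = 1; rw [map_mul, e, map_inv, mul_inv_cancel])
  have sN : ∀ x : Γ, ∃ n ∈ N[S], ∃ g ∈ G, x = n * g := fun x => hS.frattini_mem (nG x)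
  have fG : ∀ g ∈ G, f g = 1 := fun g => (QuotientGroup.eq_one_iff g).2
  have sY : ∀ l ∈ L, ∃ y ∈ Y, f y = f l := fun l hl => by
    obtain ⟨n, hn, g, hg, rfl⟩ := sN l
    rw [map_mul, fG g hg, mul_one]
    exact ((hY.map f).eq_of_isPGroup (fL.to_le (map_mono inf_le_left))).ge
      (mem_map_of_mem f ⟨(L.mul_mem_cancel_right (hGL hg)).1 hl, hn⟩)
  have sX : ∀ x : Γ, ∃ y ∈ N[S] ⊓ N[Y], f y = f x := fun x => by
    obtain ⟨n, hn, g, hg, rfl⟩ := sN x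
    obtain ⟨a, ha, k, hk, rfl⟩ := hY.frattini_mem (g := n)
      (inf_normalizer_le_normalizer_inf ⟨nL n, le_normalizer hn⟩)
    obtain ⟨y, hy, e⟩ := sY k hk.1
    exact ⟨a * y, ⟨N[S].mul_mem ((N[S].mul_mem_cancel_right hk.2).1 hn) (hY.le hy).2,
      N[Y].mul_mem ha (le_normalizer hy)⟩, by simp only [map_mul, e, fG g hg, mul_one]⟩
  have nZ := H13.normalizer_le_normalizer_zj 0 T
  have lt := h.lt (hT.isPGroup.to_le (H13.zj_le 0 T)) (H13.zj_ne_bot (dvd_zero r) hT.isPGroup T1)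
  have nM := le_normalizer_inf h.fp.nor (le_normalizer_normalizer (nT.trans nZ))
  obtain ⟨g, hg, h1⟩ := (h.fp.mono lt.le nM).gl (h.sol lt nM) (D := N[Y]) fun a ha => by
    obtain ⟨x, hx, e⟩ := sX a
    obtain ⟨m, hm, k⟩ := ct Y hYT (a⁻¹ * x) (hGL (by
      simpa [mul_assoc] using h.normal.conj_mem _ (fe e) a⁻¹)) (show cj (a⁻¹ * x) Y ≤ T by
        rw [← cj_cj, cj_eq_self hx.2, ← cj_eq_self (inv_mem (nT ha))]; exact cj_mono _ hYT)
    obtain ⟨y, hy, e'⟩ := sY _ (inv_mem hm.1)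
    refine ⟨a * m * y * a⁻¹, mem_inf.2 ⟨fe (by simp [e']), mul_mem (mul_mem (mul_mem (nZ (nT ha)) hm.2)
      (nZ (le_normalizer (hYT hy)))) (inv_mem (nZ (nT ha)))⟩, ?_⟩
    rw [inv_mul_cancel_right]
    refine mul_mem (mem_normalizer_of_cj_le ?_) (le_normalizer hy)
    rintro _ ⟨z, hz, rfl⟩
    change a * m * z * (a * m)⁻¹ ∈ Y
    rw [show a * m * z * (a * m)⁻¹ = a * (m * z * m⁻¹) * a⁻¹ by group, ← k z hz,
      show a * (a⁻¹ * x * z * (a⁻¹ * x)⁻¹) * a⁻¹ = x * z * x⁻¹ by group]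
    exact conj_mem_of_mem_normalizer hx.2 hz
  have lt' := h.lt hY.isPGroup fun e => B1 (eq_bot_iff.2 fun b hb => h.fp.dis.le ⟨by
    obtain ⟨y, hy, k⟩ := sY b (BL hb)
    rw [mem_bot.1 (e.le hy)] at k
    simpa using fe k.symm, hBA hb⟩)
  have h2 := (h.fp.cj (nG g)).mono lt'.le (le_normalizer_inf (fun x _ => nG x) (le_normalizer_normalizer h1))
  obtain ⟨g', -, h3⟩ := h2.gl (h.sub _ _ lt' h2) (D := N[S]) fun a ha => by
    obtain ⟨x, hx, e⟩ := sX a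
    exact ⟨x * a⁻¹, mem_inf.2 ⟨fe e, mul_mem hx.2 (inv_mem (h1 ha))⟩, by simpa using hx.1⟩
  refine hno ⟨_, hS.cj_of_mem_normalizer (nG (g' * g)⁻¹), ?_⟩
  rwa [← cj_normalizer, le_cj_iff, inv_inv, ← cj_cj]

end Mc

end H14.NF
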