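/- blueprints/NF.md: a group with a nilpotent fixed-point-free group of operators is solvable. -/
import Cfsg.Agent.H14.NFSyl
import Cfsg.Agent.H14.NFSpec
import Cfsg.Agent.H52.NCTop

set_option autoImplicit false

open Cfsg hiding pRank
open Subgroup H46 H26.FP H26.T4 H11.FP H52.NC
open H98 (IsSyl oz jt ncl)

namespace H14.NF

universe u

/-- no proper nontrivial normal subgroup -/
def Sm {Γ : Type*} [Group Γ] (G : Subgroup Γ) : Prop := ∀ N ≤ G, G ≤ Nrm N → N = ⊥ ∨ N = G

/-- the class used for the `2`-local analysis -/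
def Pk (Γ : Type u) [Group Γ] (G A : Subgroup Γ) : Prop :=
  Op2 G A ∨ A ≤ Nrm G ∧ Sm G ∧ ¬ Group.IsSolvable G ∧ ∀ K < G, A ≤ Nrm K → Op2 K A

theorem kl : Kl.{u} Pk where
  nor h := h.elim (·.nor) (·.1)
  mono h h1 h2 := h.elim (fun h => .inl (h.mono h1 h2)) fun h =>
    h1.lt_or_eq.elim (fun e => .inl (h.2.2.2 _ e h2)) fun e => .inr (e ▸ h)
  map := @fun Γ Δ _ _ _ _ G A h f => by
    refine h.elim (fun h => .inl (h.map f)) fun ⟨h1, h2, h3, h4⟩ => ?_
    have e : ∀ K ≤ G.map f, (G ⊓ K.comap f).map f = K := fun K hK =>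
      le_antisymm (map_le_iff_le_comap.2 inf_le_right) fun y hy => by
        obtain ⟨x, hx, rfl⟩ := hK hy
        exact ⟨x, ⟨hx, hy⟩, rfl⟩
    have n : ∀ (X : Subgroup Γ) (K : Subgroup Δ), X ≤ Nrm G → X.map f ≤ Nrm K → X ≤ Nrm (G ⊓ K.comap f) :=
      fun X K k1 k2 => nrm_inf k1 ((map_le_iff_le_comap.1 k2).trans (le_normalizer_comap f))
    rcases h2 (G ⊓ f.ker) inf_le_left (nrm_inf le_normalizer le_normalizer_of_normal) with k | k
    · refine .inr ⟨H98.map_le_normalizer_map f h1, fun N k1 k2 => ?_, fun s => h3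
        (Group.isSolvable_of_isSolvable_injective (f := f.subgroupMap G) ((injective_iff_map_eq_one _).2
          fun a ha => Subtype.ext (k.le ⟨a.2, congrArg Subtype.val ha⟩))), fun K k1 k2 => ?_⟩
      · rw [← e N k1]
        exact (h2 _ inf_le_left (n G N le_normalizer k2)).imp (fun k => by rw [k, Subgroup.map_bot])
          fun k => by rw [k]
      · rw [← e K k1.le]
        exact (h4 _ (inf_lt_left.2 fun k => k1.not_ge (map_le_iff_le_comap.2 k)) (n A K h1 k2)).map f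
    · have := (h4 ⊥ (bot_lt_iff_ne_bot.2 fun e => h3 (e ▸ inferInstance)) (H98.le_normalizer_bot A)).map f
      rw [Subgroup.map_bot, ← (Subgroup.map_eq_bot_iff G).2 (inf_eq_left.1 k)] at this
      exact .inl this
  of_map := @fun Γ Δ _ _ _ _ G A f hf h => by
    refine h.imp (·.of_map hf) fun ⟨h1, h2, h3, h4⟩ => ⟨?_, fun N k1 k2 => ?_, fun s => h3
      (Group.isSolvable_of_surjective (f.subgroupMap_surjective G)), fun K k1 k2 =>
        (h4 _ (lt_of_le_of_ne (map_mono k1.le) fun e => k1.ne (map_injective hf e))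
          (H98.map_le_normalizer_map f k2)).of_map hf⟩
    · simpa only [comap_map_eq_self_of_injective hf] using H98.comap_le_normalizer_comap f h1
    · exact (h2 _ (map_mono k1) (H98.map_le_normalizer_map f k2)).imp
        (map_eq_bot_iff_of_injective _ hf).1 fun e => map_injective hf e
  x3 h s := (h.resolve_right fun h => h.2.2.1 s).x3 s

variable {Γ : Type u} [Group Γ] [Finite Γ] {G A S K : Subgroup Γ}

theorem Mc.op2 (h : Mc G A) (hK : K < G) (hn : A ≤ Nrm K) : Op2 K A :=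
  (h.fp.mono hK.le hn).op2 (h.sol hK hn)

theorem Mc.sgn (h : Mc G A) (hs : Sm G) (hS : IsSyl 2 S G) (AS : A ≤ Nrm S) {Θ : Set Γ} {u c c' : Γ}
    (hG : u ∈ G) (hA : ∀ a ∈ A, ∀ x ∈ Θ, a * x * a⁻¹ ∈ Θ) (hc : c ∈ Θ) (hc' : c' ∈ Θ) (hne : c ≠ c')
    (e1 : u * c * u⁻¹ = c') (e2 : u * c' * u⁻¹ = c)
    (e3 : ∀ x ∈ Θ, x ≠ c → x ≠ c' → u * x * u⁻¹ = x) : False := by
  have := Fact.mk Nat.prime_two
  have cs : ∀ x ∈ Θ, u * x * u⁻¹ ∈ Θ ∧ u * (u * x * u⁻¹) * u⁻¹ = x := fun x hx => by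
    by_cases k : x = c
    · rw [k, e1]; exact ⟨hc', e2⟩
    by_cases k' : x = c'
    · rw [k', e2]; exact ⟨hc, e1⟩
    · rw [e3 x hx k k']; exact ⟨hx, e3 x hx k k'⟩
  rcases (inf_le_left : G ⊓ normalizer Θ ≤ G).lt_or_eq with k | k
  · exact (h.op2 k (nrm_inf h.fp.nor fun a ha => le_normalizer (mem_normalizer_fintype (hA a ha)))).sgn
      ⟨hG, mem_normalizer_fintype fun x hx => (cs x hx).1⟩ hA hc hc' hne e1 e2 e3
  replace k : ∀ g ∈ G, ∀ x ∈ Θ, g * x * g⁻¹ ∈ Θ := fun g hg x =>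
    (mem_set_normalizer_iff.1 (inf_eq_left.1 k hg) x).1
  rcases hs (G ⊓ centralizer Θ) inf_le_left (nrm_inf le_normalizer fun g hg =>
    mem_normalizer_fintype fun y hy x hx => by
      have := hy _ (k _ (inv_mem hg) x hx)
      rw [inv_inv] at this
      rw [← mul_inv_cancel_left g (x * _), ← mul_assoc x, ← mul_assoc x, ← mul_assoc g⁻¹, ← mul_assoc g⁻¹,
        ← mul_assoc g⁻¹, this]
      group) with e | e
  · obtain ⟨g, hg, h1⟩ := hS.exists_cj_le (H98.isPGroup_zpowers (k := 1) (x := u) (by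
      rw [pow_one, sq]
      exact mem_bot.1 (e.le ⟨mul_mem hG hG, fun x hx => by
        conv_lhs => rw [← (cs x hx).2]
        group⟩))) (zpowers_le.2 hG)
    have := hS.isPGroup.isNilpotent
    refine ((h.fp.mono hS.le AS).op2 inferInstance).sgn (h1 (H98.conj_mem_cj (mem_zpowers u))) hA
      (k g hg c hc) (k g hg c' hc') (by simpa using hne) (by rw [← e1]; group) (by rw [← e2]; group)
      fun x hx k1 k2 => ?_
    have := e3 _ (k _ (inv_mem hg) x hx) (fun e => k1 (by rw [← e]; group)) fun e => k2 (by rw [← e]; group)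
    calc _ = g * (u * (g⁻¹ * x * g⁻¹⁻¹) * u⁻¹) * g⁻¹ := by group
      _ = x := by rw [this]; group
  · exact hne (by rw [← e1, ← (e.ge hG).2 c hc, mul_inv_cancel_right])

/-- `W` is strongly closed -/
theorem Mc.closed (h : Mc G A) (hs : Sm G) (ns : ¬ Group.IsSolvable G) (hS : IsSyl 2 S G)
    (AS : A ≤ Nrm S) (S1 : S ≠ ⊥) :
    ∀ w ∈ ww G S, ∀ g ∈ G, g * w * g⁻¹ ∈ S → g * w * g⁻¹ ∈ ww G S := by
  have := Fact.mk Nat.prime_two
  have nor := h.fp.nor
  have loc : ∀ R : Subgroup Γ, R ≠ ⊥ → IsPGroup 2 R → A ≤ Nrm R → Group.IsSolvable ↥(G ⊓ Nrm R) :=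
    fun R h1 h2 h3 => h.sol (h.lt h2 h1) (nrm_inf nor (nrm_nrm h3))
  have WJ := ww_le S G
  have WS : ww G S ≤ S := WJ.trans ((H98.oz_le _).trans (H98.jt_le S))
  have W1 : ww G S ≠ ⊥ := ne_bot_of_le (H98.le_ncl _ _) (H98.oz_ne_bot hS.isPGroup S1)
  have AW : A ≤ Nrm (ww G S) := nrm_ww nor AS
  have eS : (S.subgroupOf G).map G.subtype = S := map_subgroupOf_eq_of_le hS.le
  have ne : ∀ R : Subgroup G, R ≠ ⊥ → R.map G.subtype ≠ ⊥ := fun R h1 e =>
    h1 ((map_eq_bot_iff_of_injective _ G.subtype_injective).1 e)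
  have locR : ∀ R : Subgroup G, R ≠ ⊥ → IsPGroup 2 R → Inv (aut nor) R →
      Group.IsSolvable ↥(G ⊓ Nrm (R.map G.subtype)) := fun R h1 h2 h3 =>
    loc _ (ne R h1) (h2.map _) ((inv_iff nor R).1 h3)
  have env : Env2 (S.subgroupOf G) ((Nrm (ww G S)).subgroupOf G) (aut nor) :=
    { syl := hS.subgroupOf_top
      ne := fun e => S1 ((H14.subgroupOf_eq_bot_iff_of_le hS.le).1 e)
      inv := (inv_iff nor _).2 (by rwa [eS])
      solM := sol_of_map (by
        rw [subgroupOf_map_subtype, inf_comm]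
        exact loc _ W1 (hS.isPGroup.to_le WS) AW)
      ns := map_le_iff_le_comap.1 (by
        rw [H11.FP.map_nrm, eS]; exact nrm_ww (nrm_of_le inf_le_left) inf_le_right)
      loc := fun R h1 h2 h3 h4 g hg => by
        have h5 := locR R h2 (hS.subgroupOf_top.isPGroup.to_le h1) h4
        obtain ⟨m, hm, o, ho, e⟩ := jobTF2 _ kl Γ G A S (G ⊓ Nrm (R.map G.subtype))
          (.inr ⟨nor, hs, ns, fun K => h.op2⟩) hS AS
          (loc _ (ne_bot_of_le (WJ.trans (H98.oz_le _)) W1)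
            (hS.isPGroup.to_le (H98.jt_le S)) (H98.le_normalizer_jt AS))
          (by rw [← H11.FP.map_nrm, ← eS]; exact map_mono h3) inf_le_left
          (nrm_inf nor (nrm_nrm ((inv_iff nor R).1 h4))) h5 g
          (by rw [← H11.FP.map_nrm]; exact mem_map_of_mem _ hg)
        rw [← H11.FP.map_nrm, ← H14.map_opp_of_injective G.subtype_injective] at ho
        obtain ⟨o, ho, rfl⟩ := ho
        refine ⟨g * o⁻¹, ?_, o, ho, by simp⟩
        rw [mem_subgroupOf, show ((g * o⁻¹ : G) : Γ) = m from mul_inv_eq_of_eq_mul e]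
        exact hm
      sol := fun R h1 h2 h3 => sol_of_map (by rw [H11.FP.map_nrm]; exact locR R h1 h2 h3)
      x3 := fun R h1 h2 h3 d hd hk => by
        rcases eq_or_ne R ⊥ with rfl | h0
        · rw [relIndex_bot_right]; decide
        have n := (inv_iff nor R).1 h3
        have := (h.op2 (h.lt (h2.map _) (ne R h0)) (nrm_inf nor (nrm_nrm n))).x3 (d := (d : Γ))
          (locR R h0 h2 h3)
          (le_inf (map_subtype_le R) le_normalizer) (H98.map_le_centralizer_map _ h1) (h2.map _)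
          inf_le_right n ((H11.FP.map_nrm R).le (mem_map_of_mem _ hd))
          (hk.imp fun k e => congrArg Subtype.val e)
        rwa [← relIndex_comap, ← Subgroup.subgroupOf, H14.centralizer_singleton_subgroupOf] at this
      xq := fun R C T h1 h2 h3 h4 h5 h6 h7 => by
        rcases eq_or_ne R ⊥ with rfl | h0
        · rw [relIndex_bot_right] at h6; omega
        have n := (inv_iff nor R).1 h3
        refine (h.op2 (h.lt (h2.map _) (ne R h0)) (nrm_inf nor (nrm_nrm n))).xq (C := C.map G.subtype)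
          (T := T.map G.subtype) (locR R h0 h2 h3)
          (le_inf (map_subtype_le R) le_normalizer) (H98.map_le_centralizer_map _ h1) (h2.map _)
          inf_le_right n (map_mono h4) ((map_mono (h5.trans inf_le_left)).trans (H11.FP.map_nrm R).le)
          (H98.map_le_centralizer_map _ (h5.trans inf_le_right))
          (by rwa [relIndex_map_map_of_injective _ _ G.subtype_injective]) ?_
        rintro _ ⟨x, x1, rfl⟩ x2 _ ⟨y, y1, rfl⟩ y2
        obtain ⟨t, ht, e⟩ := h7 x x1 (fun k => x2 (mem_map_of_mem _ k)) y y1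
          fun k => y2 (mem_map_of_mem _ k)
        exact ⟨t, mem_map_of_mem _ ht, mem_map_of_mem G.subtype e⟩
      sgn := fun Θ u c c' h1 h2 h3 h4 h5 h6 h7 => by
        refine h.sgn hs hS AS (Θ := Subtype.val '' Θ) (u := (u : Γ)) (c := (c : Γ)) (c' := (c' : Γ)) u.2 ?_
          ⟨c, h2, rfl⟩ ⟨c', h3, rfl⟩ (fun e => h4 (Subtype.ext e)) (congrArg Subtype.val h5)
          (congrArg Subtype.val h6) ?_
        · rintro a ha _ ⟨x, hx, rfl⟩
          obtain ⟨b, hb, e⟩ := aut_apply nor ha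
          exact ⟨b x, h1 b hb x hx, e x⟩
        · rintro _ ⟨x, hx, rfl⟩ k k'
          exact congrArg Subtype.val (h7 x hx (fun e => k (e ▸ rfl)) fun e => k' (e ▸ rfl)) }
  intro w hw g hg e
  obtain ⟨m, hm, c, hc, e2⟩ := jobCtl2 G _ _ _ env (zpowers ⟨w, hS.le (WS hw)⟩) ⟨g, hg⟩
    (zpowers_le.2 (WS hw)) ((cj_zpowers _ _).le.trans (zpowers_le.2 e))
  have e3 : g = m * c := congrArg Subtype.val e2
  have e4 : w * c = c * w := congrArg Subtype.val (mem_cent.1 hc _ (mem_zpowers _))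
  have : g * w * g⁻¹ = m * w * (m : Γ)⁻¹ := by
    rw [e3, mul_assoc (m : Γ), ← e4]; group
  rw [this]
  exact conj_mem_of_mem_nrm hm hw

theorem Mc.fin (h : Mc G A) (hs : Sm G) : Group.IsSolvable G := by
  have := Fact.mk Nat.prime_two
  by_contra ns
  obtain ⟨S, hS, AS⟩ := h.syl_two
  have S1 : S ≠ ⊥ := fun e => ns (H42.odd_order (Nat.odd_iff.2 (Nat.two_dvd_ne_zero.1
    (hS.eq_bot_iff.1 e))))
  have : Nontrivial G := (nontrivial_iff_ne_bot G).2 fun e => ns (e ▸ inferInstance)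
  have si : IsSimpleGroup G := ⟨fun N hN => (hs _ (map_subtype_le N) (normalIn_map_subtype hN).2).imp
    (map_eq_bot_iff_of_injective _ G.subtype_injective).1 fun e => by
      rw [← subgroupOf_map_subtype_self N]; exact subgroupOf_eq_top.2 e.ge⟩
  have WJ := ww_le S G
  obtain ⟨x, hx, x1, x2⟩ := H98.exists_mem_pow_eq_one hS.isPGroup S1
  rw [sq] at x2
  have n := nrm_inf h.fp.nor (nrm_nrm AS)
  obtain ⟨g, hg, k⟩ := (h.fp.mono inf_le_left n).gl (h.sol (h.lt hS.isPGroup S1) n) (D := C1[x])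
    fun a ha => by
      obtain ⟨n, hn, e⟩ := amb_one si (fun e => ns (sol_of_comm e)) hS
        (WJ.trans ((H98.oz_le _).trans (H98.jt_le S)))
        (ne_bot_of_le (H98.le_ncl _ _) (H98.oz_ne_bot hS.isPGroup S1))
        (le_cent_mono (H98.le_centralizer_oz (jt 2 S)) (WJ.trans (H98.oz_le _)) WJ)
        (h.closed hs ns hS AS S1) (conj_mem_of_mem_nrm (AS ha) hx) hx
        (by rw [conj_mul, x2, mul_one, mul_inv_cancel]) x2 (by simpa using x1) x1
      exact ⟨n, hn, mem_centralizer_singleton_iff.2 (mul_inv_eq_iff_eq_mul.1 (.trans (by group) e))⟩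
  exact x1 ((h.fp.cj (le_normalizer hg.1)).eq_one (hS.le hx)
    fun a ha => mem_centralizer_singleton_iff.1 (k ha))

/-- the stabiliser of a non-abelian minimal normal subgroup `T` inherits the hypothesis -/
theorem fp_min {T : Subgroup Γ} (h : Fp G A) (hT : MinNormal T G) (hle : T ≤ G) (hz : Zc T = ⊥) :
    Fp T (A ⊓ Nrm T) := by
  have sep : ∀ a ∈ A, a ∉ Nrm T → cj a T ≤ G ⊓ Cent T := fun a ha hn => by
    have e : cj a G = G := cj_of_mem_nrm (h.nor ha)
    have h1 : cj a T ≤ G := e ▸ cj_mono a hle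
    have h2 : G ≤ Nrm (cj a T) := by rw [← cj_nrm, ← e]; exact cj_mono a hT.nrm
    refine le_inf h1 (cent_of_nrm_of_disjoint (h1.trans hT.nrm) (hle.trans h2) ?_)
    rw [inf_comm]
    exact (hT.le_or_inf_eq_bot h2).resolve_left fun k =>
      hn (mem_nrm_iff_cj.2 (eq_of_le_of_card_eq k (card_cj a T).symm).symm)
  obtain ⟨d, d1, d2⟩ := H87.NS.exists_norm A T fun a ha hn =>
    commutator_eq_bot_iff'.2 ((sep a ha hn).trans inf_le_right)
  refine ⟨inf_le_right, nil_of_le h.nil inf_le_left, eq_bot_iff.2 fun x hx => hz.le ⟨hx.1, ?_⟩⟩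
  have hc := d2 ⟨x, hx⟩ _ sep
  rw [mem_bot.1 (h.fpf.le ⟨(G.mul_mem_cancel_left (inv_mem (hle hx.1))).1 hc.1, d1 _⟩), mul_one] at hc
  exact (Cent T).inv_mem_iff.1 hc.2

/-- **The theorem.** -/
theorem thm : Thm.{u} := by
  intro Γ _ _ G A h
  induction hn : Nat.card G + Nat.card Γ using Nat.strong_induction_on generalizing Γ with
  | _ n ih =>
  subst hn
  by_contra ns
  have top : G ⊔ A = ⊤ := by_contra fun e => ns (by
    have := ih _ (Nat.add_lt_add_of_le_of_lt (Nat.card_le_card_of_injective _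
      (subgroupOfEquivOfLe le_sup_left).injective) (H10.card_subgroup_lt _ e)) _ _ _
      (h.subgroupOf le_sup_left le_sup_right) rfl
    exact Group.isSolvable_of_surjective
      (f := (subgroupOfEquivOfLe (le_sup_left : G ≤ G ⊔ A)).toMonoidHom) (MulEquiv.surjective _))
  have quo : ∀ N : Subgroup Γ, G ≤ Nrm N → A ≤ Nrm N → Group.IsSolvable ↥(G ⊓ N) → N = ⊥ :=
    fun N h1 h2 h3 => by_contra fun e => ns (by
      have := normalizer_eq_top_iff.1 (eq_top_iff.2 (top.ge.trans (sup_le h1 h2)))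
      have := ih _ (Nat.add_lt_add_of_le_of_lt (Nat.card_le_card_of_surjective _
        ((QuotientGroup.mk' N).subgroupMap_surjective G)) (H10.card_quotient_lt N e)) _ _ _
        (h.map' (QuotientGroup.mk' N) (by rwa [QuotientGroup.ker_mk'])) rfl
      exact Group.isSolvable_of_ker_le_range (inclusion (inf_le_left : G ⊓ N ≤ G))
        ((QuotientGroup.mk' N).subgroupMap G) fun x hx =>
          ⟨⟨x, x.2, (QuotientGroup.eq_one_iff _).1 (congrArg Subtype.val hx)⟩, rfl⟩)
  have sub : ∀ K B : Subgroup Γ, K < G → Fp K B → Group.IsSolvable K := fun K B hK hB =>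
    ih _ (Nat.add_lt_add_right (card_lt_of_lt hK) _) Γ K B hB rfl
  have F1 : fittingOf G = ⊥ := quo _ (fittingOf_normalIn G).2 (nrm_fittingOf h.nor)
    (sol_le (sol_of_nil (fittingOf_nil G)) inf_le_right)
  have C1 : Cent G = ⊥ := quo _ (nrm_cent le_normalizer) (nrm_cent h.nor) (sol_of_comm (comm_zc G))
  have mn : ∀ T : Subgroup Γ, MinNormal T G → T ≤ G → T = G := fun T hT hle => by
    by_contra e
    have sT : Group.IsSolvable T := by
      rcases hT.eq_bot_or_eq (L := Zc T) inf_le_left (nrm_zc hT.nrm) with k | k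
      · exact sub T _ (lt_of_le_of_ne hle e) (fp_min h hT hle k)
      · exact k ▸ sol_of_comm (comm_zc T)
    exact ne_bot_of_le (le_fittingOf ⟨hle, hT.nrm⟩ (nil_of_comm (hT.comm sT))) hT.ne_bot F1
  refine ns (Mc.fin ⟨h, top, sub, fun r U hr hU hn => eq_bot_iff.2 (le_trans ?_ C1.le)⟩ fun N h1 h2 =>
    or_iff_not_imp_left.2 fun e => ?_)
  · refine cent_of_nrm_of_disjoint (le_top.trans (top.ge.trans h.nor')) hn (eq_bot_iff.2
      ((le_fittingOf ⟨inf_le_right, nrm_inf hn le_normalizer⟩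
        (nil_of_isPGroup hr hU.to_inf_left)).trans F1.le))
  · obtain ⟨T, hT, hle⟩ := exists_minNormal_le e h2
    exact le_antisymm h1 ((mn T hT (hle.trans h1)).ge.trans hle)

end H14.NF
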