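/- Coordinate lemmas for the jobs BC and EQ of blueprints/PARROTT.md. -/
import Cfsg.Agent.H63.OcSpec

set_option autoImplicit false
set_option linter.unusedSectionVars false
set_option linter.unusedSimpArgs false

open Subgroup

namespace H14.Oc
open H63.Oc

variable {K : Type*} [Field K] [CharP K 2] {T : TF K}

theorem split (c : Co T) : ∃ q ∈ sQ T, ∃ u ∈ sU8 T, c = q * u :=
  ⟨{ c with b8 := 0, a8 := 0 }, ⟨rfl, rfl⟩, uu T c.b8 c.a8, by simp [mem_sU8, uu], by ext <;> simp [uu]⟩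

theorem cjQ {c : Co T} (h : c ∈ sQ T) (s : Co T) : s * c * s⁻¹ ∈ sQ T := by
  obtain ⟨h1, h2⟩ := h
  constructor <;> simp [h1, h2] <;> grind

theorem cjR {c : Co T} (h : c ∈ sR T) (s : Co T) : s * c * s⁻¹ ∈ sR T := by
  obtain ⟨h1, h2, h3, h4, h5, h6⟩ := h
  refine ⟨?_, ?_, ?_, ?_, ?_, ?_⟩ <;> simp [*] <;> grind

theorem cjV {c : Co T} (h : c ∈ sV T) (s : Co T) : s * c * s⁻¹ ∈ sV T := by
  obtain ⟨h1, h2, h3, h4, h5, h6, h7⟩ := h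
  refine ⟨?_, ?_, ?_, ?_, ?_, ?_, ?_⟩ <;> simp [*, T.sq] <;> grind

theorem x4_comm (t : K) (s : Co T) : s * x4 T t = x4 T t * s := by
  ext <;> simp [x4]; grind

theorem eq_x4 {c : Co T} (h : c ∈ sZ T) : c = x4 T c.a4 := by
  obtain ⟨h1, h2, h3, h4, h5, h6, h7, h8, h9, h10, h11⟩ := h
  ext <;> simp [*, x4]

theorem x4_mem (t : K) : x4 T t ∈ sZ T := by simp [mem_sZ, x4]

theorem cj_a1 (s c : Co T) : (s * c * s⁻¹).a1 = c.a1 := by simp; grind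
theorem cj_b8 (s c : Co T) : (s * c * s⁻¹).b8 = c.b8 := by simp; grind
theorem cj_b2 (s c : Co T) : (s * c * s⁻¹).b2 = c.b2 + s.b8 * c.a1 + c.b8 * s.a1 := by simp; grind
theorem cj_a2 (s : Co T) {c : Co T} (h : c ∈ sV T) : (s * c * s⁻¹).a2 = c.a2 := by
  obtain ⟨h1, h2, h3, h4, h5, h6, h7⟩ := h
  simp [*, T.sq]; grind
theorem cj_b6 (s : Co T) (h : s.b8 = 0) : (s * x1 T 1 * s⁻¹).b6 = s.a8 := by simp [x1, h]; grind

theorem cm_y4 {c : Co T} (h : c ∈ sQ T) : ∃ r, y4 T 1 * c * (y4 T 1)⁻¹ * c⁻¹ =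
    ⟨0, 0, c.a1, c.b2, 0, r, c.b6, 0, c.a7, 0, 0, 0⟩ := by
  obtain ⟨h1, h2⟩ := h
  refine ⟨(y4 T 1 * c * (y4 T 1)⁻¹ * c⁻¹).a4, ?_⟩
  ext <;> first | rfl | (simp [*, y4, T.sq] <;> grind)

theorem cm_x1 {c : Co T} (h : c ∈ sR T) : ∃ r, x1 T 1 * c * (x1 T 1)⁻¹ * c⁻¹ =
    ⟨0, 0, c.b4, 0, 0, r, 0, 0, 0, 0, 0, 0⟩ := by
  obtain ⟨h1, h2, h3, h4, h5, h6⟩ := h
  refine ⟨(x1 T 1 * c * (x1 T 1)⁻¹ * c⁻¹).a4, ?_⟩
  ext <;> first | rfl | (simp [*, x1, T.sq] <;> grind)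

theorem cm_x8 {c : Co T} (h : c ∈ sV T) : ∃ r, x8 T 1 * c * (x8 T 1)⁻¹ * c⁻¹ =
    ⟨0, 0, 0, 0, 0, r, c.a2, 0, c.a2 + c.a3, 0, 0, 0⟩ := by
  obtain ⟨h1, h2, h3, h4, h5, h6, h7⟩ := h
  refine ⟨(x8 T 1 * c * (x8 T 1)⁻¹ * c⁻¹).a4, ?_⟩
  ext <;> first | rfl | (simp [*, x8, T.sq] <;> grind)

theorem cm_y8 {c : Co T} (h : c ∈ sA T) : y8 T 1 * c * (y8 T 1)⁻¹ * c⁻¹ = ww T c.a5 0 := by
  obtain ⟨h1, h2, h3, h4, h5, h6, h7, h8, h9⟩ := h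
  ext <;> simp [*, y8, ww, T.sq] <;> grind

theorem cm_w (t s r : K) : x1 T t * ww T s r * (x1 T t)⁻¹ * (ww T s r)⁻¹ = x4 T (t * s) := by
  ext <;> simp [*, x1, ww, x4, T.sq] <;> grind

theorem cm_VQ {c q : Co T} (h : c ∈ sV T) (hq : q ∈ sQ T) : q * c * q⁻¹ * c⁻¹ ∈ sZ T := by
  obtain ⟨h1, h2, h3, h4, h5, h6, h7⟩ := h
  obtain ⟨g1, g2⟩ := hq
  refine ⟨?_, ?_, ?_, ?_, ?_, ?_, ?_, ?_, ?_, ?_, ?_⟩ <;> simp [*, T.sq] <;> grind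

theorem cm_RV {c v : Co T} (h : c ∈ sR T) (hv : v ∈ sV T) : c * v = v * c := by
  obtain ⟨h1, h2, h3, h4, h5, h6, h7⟩ := hv
  obtain ⟨g1, g2, g3, g4, g5, g6⟩ := h
  ext <;> simp [*, T.sq] <;> grind

theorem mem_R {c : Co T} (h : c ∈ sQ T) (hc : ∀ v ∈ sV T, c * v = v * c) : c ∈ sR T := by
  obtain ⟨h1, h2⟩ := h
  have e2 := congrArg Co.a4 (hc (x2 T 1) (by simp [mem_sV, x2]))
  have e3 := congrArg Co.a4 (hc (x3 T 1) (by simp [mem_sV, x3]))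
  have e5 := congrArg Co.a4 (hc (x5 T 1) (by simp [mem_sV, x5]))
  have e6 := congrArg Co.a4 (hc (x6 T 1) (by simp [mem_sV, x6]))
  simp [h1, h2, x2, x3, x5, x6] at e2 e3 e5 e6
  exact ⟨e6, e5, e3, e2, h1, h2⟩

theorem mem_V {c : Co T} (h : c ∈ sQ T) (hc : ∀ q ∈ sQ T, q * c * q⁻¹ * c⁻¹ ∈ sZ T) : c ∈ sV T := by
  obtain ⟨r, e⟩ := cm_y4 h
  have h1 := hc (y4 T 1) (by simp [mem_sQ, y4])
  rw [e] at h1
  obtain ⟨-, -, a, b, -, d, -, f, -⟩ := h1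
  obtain ⟨r', e'⟩ := cm_x1 (c := c) ⟨a, b, d, f, h.1, h.2⟩
  have h2 := hc (x1 T 1) (by simp [mem_sQ, x1])
  rw [e'] at h2
  exact ⟨a, b, h2.2.2.1, d, f, h.1, h.2⟩

theorem mem_Z {c : Co T} (h : c ∈ sQ T) (hc : ∀ q ∈ sQ T, c * q = q * c) : c ∈ sZ T := by
  obtain ⟨h1, h2, h3, h4, h5, h6, h7⟩ := mem_V h fun q hq => by
    rw [← hc q hq]; simp [mul_assoc]
  have e1 := congrArg Co.a4 (hc (x1 T 1) (by simp [mem_sQ, x1]))
  have e2 := congrArg Co.a4 (hc (y2 T 1) (by simp [mem_sQ, y2]))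
  have e6 := congrArg Co.a4 (hc (y6 T 1) (by simp [mem_sQ, y6]))
  have e7 := congrArg Co.a4 (hc (x7 T 1) (by simp [mem_sQ, x7]))
  simp [h1, h2, h3, h4, h5, h6, h7, x1, y2, y6, x7] at e1 e2 e6 e7
  exact ⟨h1, h2, e7, e6, h3, e2, h4, e1, h5, h6, h7⟩

theorem nfV {c : Co T} (h : c ∈ sV T) :
    c = x2 T c.a2 * x3 T c.a3 * x4 T c.a4 * x5 T c.a5 * x6 T c.a6 := by
  obtain ⟨h1, h2, h3, h4, h5, h6, h7⟩ := h
  ext <;> simp [*, x2, x3, x4, x5, x6]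

theorem sq_T0_surj [Finite K] (p : T0 T) : ∃ r : T0 T, r * r = p := by
  refine (Finite.injective_iff_surjective (f := fun r : T0 T => r * r)).1 (fun r r' h => ?_) p
  have key : ∀ a b : Kˣ, a * a = b * b → a = b := fun a b e => Units.ext <| by
    have e' : (a : K) * a = b * b := by simpa using congrArg Units.val e
    have : ((a : K) - b) ^ 2 = 0 := by rw [sub_pow_char, sq, sq, e', sub_self]
    exact sub_eq_zero.1 (pow_eq_zero_iff two_ne_zero |>.1 this)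
  exact Subtype.ext (Prod.ext (key _ _ (congrArg (fun x : T0 T => x.1.1) h))
    (key _ _ (congrArg (fun x : T0 T => x.1.2) h)))

/-- the character `x ^ i * σ x ^ j` -/
def pw (T : TF K) (i j : ℕ) : Kˣ →* Kˣ :=
  (powMonoidHom i) * ((powMonoidHom j).comp (Units.map (T.σ : K →* K)))

theorem pw_val (i j : ℕ) (x : Kˣ) : (pw T i j x : K) = x ^ i * T.σ x ^ j := by simp [pw]

theorem pw_bij [Finite K] (i j k : ℕ) (hk : ((i : ℤ) ^ 2 - 2 * (j : ℤ) ^ 2).natAbs = 2 ^ k) :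
    Function.Bijective (pw T i j) :=
  Finite.injective_iff_bijective.1 <| (injective_iff_map_eq_one _).2 fun x hx => Units.ext <|
    eq_one_of_pw (T := T) x.ne_zero k hk (by
      rw [zpow_natCast, zpow_natCast, ← pw_val, hx, Units.val_one])

theorem mem_T0' {p : Kˣ × Kˣ} : p ∈ T0 T ↔ pw T 2 1 p.1 * pw T 3 2 p.2 = 1 := by
  rw [mem_T0, Units.ext_iff, Units.val_mul, pw_val, pw_val, pow_one, chi4, Units.val_one]

theorem T0_fst [Finite K] (a : Kˣ) : ∃! p : T0 T, p.1.1 = a := by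
  have hb := pw_bij (T := T) 3 2 0 (by norm_num)
  obtain ⟨b, e⟩ := hb.2 (pw T 2 1 a)⁻¹
  refine ⟨⟨(a, b), mem_T0'.2 (by simp [e])⟩, rfl, fun p hp => Subtype.ext (Prod.ext hp (hb.1 ?_))⟩
  rw [e, ← hp]
  exact eq_inv_of_mul_eq_one_right (mem_T0'.1 p.2)

theorem T0_snd [Finite K] (b : Kˣ) : ∃! p : T0 T, p.1.2 = b := by
  have hb := pw_bij (T := T) 2 1 1 (by norm_num)
  obtain ⟨a, e⟩ := hb.2 (pw T 3 2 b)⁻¹
  refine ⟨⟨(a, b), mem_T0'.2 (by simp [e])⟩, rfl, fun p hp => Subtype.ext (Prod.ext (hb.1 ?_) hp)⟩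
  rw [e, ← hp]
  exact eq_inv_of_mul_eq_one_left (mem_T0'.1 p.2)

theorem card_T0 [Finite K] : Nat.card (T0 T) = Nat.card K - 1 := by
  rw [← Nat.card_units]
  exact Nat.card_eq_of_bijective (fun p : T0 T => p.1.1) ((Function.bijective_iff_existsUnique _).2 T0_fst)

theorem card_Co : Nat.card (Co T) = Nat.card K ^ 12 := by
  have e : Co T ≃ K × K × K × K × K × K × K × K × K × K × K × K :=
    { toFun := fun c => (c.a1, c.b2, c.a2, c.a3, c.b4, c.a4, c.a5, c.b6, c.a6, c.a7, c.b8, c.a8)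
      invFun := fun ⟨a, b, c, d, e, f, g, h, i, j, k, l⟩ => ⟨a, b, c, d, e, f, g, h, i, j, k, l⟩
      left_inv := fun _ => rfl
      right_inv := fun _ => rfl }
  rw [Nat.card_congr e]
  simp only [Nat.card_prod]
  ring

theorem card_U8 : Nat.card (sU8 T) = Nat.card K ^ 2 := by
  have e : sU8 T ≃ K × K :=
    { toFun := fun c => (c.1.b8, c.1.a8)
      invFun := fun x => ⟨uu T x.1 x.2, by simp [mem_sU8, uu]⟩
      left_inv := fun ⟨c, h1, h2, h3, h4, h5, h6, h7, h8, h9, h10⟩ => Subtype.ext (by ext <;> simp [uu, *])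
      right_inv := fun _ => rfl }
  rw [Nat.card_congr e, Nat.card_prod, sq]

theorem U8_x6 {u : Co T} (h : u ∈ sU8 T) : u * x6 T 1 * u⁻¹ = x6 T 1 := by
  obtain ⟨h1, h2, h3, h4, h5, h6, h7, h8, h9, h10⟩ := h
  ext <;> simp [*, x6] <;> grind

theorem chi6_T0 (p : T0 T) (t : K) : dg T p.1.1 p.1.2 (x6 T (p.1.1 * t)) = x6 T t := by
  have h : chi4 T p.1.1 p.1.2 = 1 := p.2
  ext <;> simp [dg, x6]
  rw [chi4] at h
  linear_combination t * h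

theorem dg_x4 (p : T0 T) (t : K) : dg T p.1.1 p.1.2 (x4 T t) = x4 T t := by
  have h : chi4 T p.1.1 p.1.2 = 1 := p.2
  ext <;> simp [dg, x4]
  rw [chi4] at h
  linear_combination t * h

/-- a normal subgroup of `Co T`, invariant under the torus and `n₈`, which meets `Q` outside `Z` -/
theorem V_le [Finite K] {M : Subgroup (Co T)} (hn : ∀ s, ∀ c ∈ M, s * c * s⁻¹ ∈ M)
    (hd : ∀ p : T0 T, ∀ c ∈ M, dg T p.1.1 p.1.2 c ∈ M) (h8 : ∀ c ∈ M, c ∈ sQ T → c.nu8 ∈ M)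
    {c : Co T} (hc : c ∈ M) (hQ : c ∈ sQ T) (hZ : c ∉ sZ T) : sV T ≤ M := by
  have cm : ∀ s, ∀ c ∈ M, s * c * s⁻¹ * c⁻¹ ∈ M := fun s c hc => mul_mem (hn s c hc) (inv_mem hc)
  obtain ⟨v, hv, hV, hvZ⟩ : ∃ v ∈ M, v ∈ sV T ∧ v ∉ sZ T := by
    by_cases h1 : c ∈ sV T
    · exact ⟨c, hc, h1, hZ⟩
    by_cases h2 : c ∈ sR T
    · obtain ⟨r, e⟩ := cm_x1 h2
      refine ⟨_, cm (x1 T 1) c hc, by simp [e, mem_sV], fun h => h1 ?_⟩
      rw [e] at h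
      exact ⟨h2.1, h2.2.1, h.2.2.1, h2.2.2⟩
    · obtain ⟨r, e⟩ := cm_y4 hQ
      refine ⟨_, cm (y4 T 1) c hc, by simp [e, mem_sV], fun h => h2 ?_⟩
      rw [e] at h
      obtain ⟨-, -, a, b, -, d, -, f, -⟩ := h
      exact ⟨a, b, d, f, hQ⟩
  obtain ⟨w, hw, hA, hwZ⟩ : ∃ w ∈ M, w ∈ sA T ∧ w ∉ sZ T := by
    by_cases h1 : v ∈ sA T
    · exact ⟨v, hv, h1, hvZ⟩
    obtain ⟨r, e⟩ := cm_x8 hV
    refine ⟨_, cm (x8 T 1) v hv, by simp [e, mem_sA], fun h => h1 ?_⟩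
    rw [e] at h
    obtain ⟨-, -, -, -, -, a, -, b, -⟩ := h
    exact ⟨hV.1, hV.2.1, a, by simpa [show v.a2 = 0 from a] using b, hV.2.2⟩
  obtain ⟨a, r, ha, hw⟩ : ∃ a r, a ≠ 0 ∧ ww T a r ∈ M := by
    by_cases h1 : w.a5 = 0
    · obtain ⟨g1, g2, g3, g4, g5, g6, g7, g8, g9⟩ := hA
      refine ⟨w.a6, w.a4, fun e => hwZ ⟨g1, g2, g3, g4, g5, h1, g6, e, g7, g8, g9⟩, ?_⟩
      convert hw using 1
      ext <;> simp [ww, *]
    · exact ⟨_, _, h1, cm_y8 hA ▸ cm (y8 T 1) w hw⟩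
  have m4 : ∀ t, x4 T t ∈ M := fun t => by
    have := cm (x1 T (t / a)) _ hw
    rwa [cm_w, div_mul_cancel₀ _ ha] at this
  have m6 : ∀ t, x6 T t ∈ M := fun t => by
    by_cases ht : t = 0
    · rw [ht, show x6 T 0 = 1 from rfl]; exact one_mem _
    obtain ⟨p, hp, -⟩ := T0_fst (T := T) (Units.mk0 (a / t) (div_ne_zero ha ht))
    rw [← chi6_T0 p t, hp]
    refine hd p _ ?_ |> fun h : dg T p.1.1 p.1.2 (x6 T a) ∈ M => by simpa [hp, ht] using h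
    convert mul_mem hw (m4 r) using 1
    ext <;> simp [ww, x4, x6, CharTwo.add_self_eq_zero]
  have m2 : ∀ t, x2 T t ∈ M := fun t => by
    convert h8 _ (m6 t) (by simp [mem_sQ, x6]) using 1
    ext <;> simp [x2, x6, Co.nu8]
  have m5 : ∀ t, x5 T t ∈ M := fun t => by
    obtain ⟨r, e⟩ := cm_x8 (c := x2 T t) (by simp [mem_sV, x2])
    convert mul_mem (mul_mem (e ▸ cm (x8 T 1) _ (m2 t)) (m4 r)) (m6 t) using 1
    ext <;> simp [x2, x4, x5, x6, CharTwo.add_self_eq_zero]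
  have m3 : ∀ t, x3 T t ∈ M := fun t => by
    convert h8 _ (m5 t) (by simp [mem_sQ, x5]) using 1
    ext <;> simp [x3, x5, Co.nu8]
  intro x hx
  rw [nfV hx]
  exact mul_mem (mul_mem (mul_mem (mul_mem (m2 _) (m3 _)) (m4 _)) (m5 _)) (m6 _)

end H14.Oc
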