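/- The jobs BC and EQ of blueprints/PARROTT.md: Bruhat decomposition and normal structure of `Q : Sz(q)`. -/
import Cfsg.Agent.H14.OcCoL

set_option autoImplicit false
set_option linter.unusedSectionVars false
set_option linter.unusedSimpArgs false

open Subgroup

universe u v w

namespace H14.Oc
open H63.Oc

variable {K : Type*} [Field K] [CharP K 2] {T : TF K} {G : Type*} [Group G] (D : CS T G)

theorem h_ι (p : T0 T) (c : Co T) : D.h0 p * D.ι c = D.ι (dg T p.1.1 p.1.2 c) * D.h0 p := by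
  rw [← D.h0_conj, inv_mul_cancel_right]

theorem ι_h (p : T0 T) (c : Co T) : ∃ c', D.ι c * D.h0 p = D.h0 p * D.ι c' :=
  ⟨dg T p⁻¹.1.1 p⁻¹.1.2 c, by rw [← D.h0_conj, map_inv]; group⟩

theorem n_inv : D.n8⁻¹ = D.n8 := inv_eq_of_mul_eq_one_right D.n8_sq

theorem n_n (g : G) : D.n8 * (D.n8 * g) = g := by rw [← mul_assoc, D.n8_sq, one_mul]

theorem n_ι {c : Co T} (h : c ∈ sQ T) : D.n8 * D.ι c = D.ι c.nu8 * D.n8 := by
  rw [← D.n8_conj c h, mul_assoc, D.n8_sq, mul_one]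

theorem n_h (p : T0 T) : D.n8 * D.h0 p = D.h0 p⁻¹ * D.n8 := by
  rw [map_inv, ← D.n8_h0, mul_assoc, D.n8_sq, mul_one]

/-- the Borel subgroup -/
def Bo : Subgroup G where
  carrier := {g | ∃ c p, g = D.ι c * D.h0 p}
  one_mem' := ⟨1, 1, by simp⟩
  mul_mem' := by
    rintro _ _ ⟨c, p, rfl⟩ ⟨c', p', rfl⟩
    exact ⟨c * dg T p.1.1 p.1.2 c', p * p', by
      rw [map_mul, map_mul, mul_assoc, ← mul_assoc (D.h0 p), h_ι]; simp only [mul_assoc]⟩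
  inv_mem' := by
    rintro _ ⟨c, p, rfl⟩
    exact ⟨_, p⁻¹, by rw [mul_inv_rev, ← map_inv, ← map_inv, h_ι]⟩

theorem ι_Bo (c : Co T) : D.ι c ∈ Bo D := ⟨c, 1, by simp⟩
theorem h_Bo (p : T0 T) : D.h0 p ∈ Bo D := ⟨1, p, by simp⟩

theorem C_ind {P : G → Prop} (h1 : P 1) (hι : ∀ c g, P g → P (D.ι c * g))
    (hh : ∀ p g, P g → P (D.h0 p * g)) (hn : ∀ g, P g → P (D.n8 * g)) {g : G} (hg : g ∈ D.C) : P g := by
  induction hg using closure_induction_left with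
  | one => exact h1
  | mul_left x hx y _ ih =>
    rcases hx with (⟨c, rfl⟩ | ⟨p, rfl⟩) | rfl
    exacts [hι c y ih, hh p y ih, hn y ih]
  | inv_mul_cancel x hx y _ ih =>
    rcases hx with (⟨c, rfl⟩ | ⟨p, rfl⟩) | rfl
    · exact map_inv D.ι c ▸ hι _ y ih
    · exact map_inv D.h0 p ▸ hh _ y ih
    · exact (n_inv D).symm ▸ hn y ih

theorem n_Bo {b : G} (hb : b ∈ Bo D) : ∃ b' ∈ Bo D, ∃ u ∈ sU8 T, D.n8 * b = b' * D.n8 * D.ι u := by
  obtain ⟨c, p, rfl⟩ := hb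
  obtain ⟨c', e⟩ := ι_h D p c
  obtain ⟨q, hq, u, hu, rfl⟩ := split c'
  refine ⟨D.h0 p⁻¹ * D.ι q.nu8, mul_mem (h_Bo D _) (ι_Bo D _), u, hu, ?_⟩
  rw [e, map_mul, ← mul_assoc, n_h, mul_assoc, ← mul_assoc D.n8, n_ι D hq]
  simp only [mul_assoc]

theorem bruhat' {g : G} (hg : g ∈ D.C) :
    g ∈ Bo D ∨ ∃ b ∈ Bo D, ∃ u ∈ sU8 T, g = b * D.n8 * D.ι u := by
  have hB : ∀ x ∈ Bo D, ∀ g, (g ∈ Bo D ∨ ∃ b ∈ Bo D, ∃ u ∈ sU8 T, g = b * D.n8 * D.ι u) →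
      (x * g ∈ Bo D ∨ ∃ b ∈ Bo D, ∃ u ∈ sU8 T, x * g = b * D.n8 * D.ι u) := by
    rintro x hx g (h | ⟨b, hb, u, hu, rfl⟩)
    · exact Or.inl (mul_mem hx h)
    · exact Or.inr ⟨x * b, mul_mem hx hb, u, hu, by simp only [mul_assoc]⟩
  refine C_ind D (P := fun g => g ∈ Bo D ∨ ∃ b ∈ Bo D, ∃ u ∈ sU8 T, g = b * D.n8 * D.ι u)
    (Or.inl (one_mem _)) (fun c => hB _ (ι_Bo D c)) (fun p => hB _ (h_Bo D p)) ?_ hg
  rintro g (h | ⟨b, hb, u, hu, rfl⟩)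
  · exact Or.inr (n_Bo D h)
  · obtain ⟨b', hb', v, hv, e⟩ := n_Bo D hb
    have e1 : D.n8 * (b * D.n8 * D.ι u) = b' * (D.n8 * D.ι v * D.n8 * D.ι u) := by
      rw [mul_assoc b, ← mul_assoc, e]; simp only [mul_assoc]
    rw [e1]
    refine hB _ hb' _ ?_
    by_cases h1 : v = 1
    · rw [h1, map_one, mul_one, D.n8_sq, one_mul]; exact Or.inl (ι_Bo D u)
    · obtain ⟨u', -, u'', hu'', p, e2⟩ := D.rank8 v hv h1
      exact Or.inr ⟨_, ⟨u', p, rfl⟩, u'' * u, mul_mem hu'' hu, by rw [e2, map_mul, mul_assoc]⟩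

theorem Bo_le : Bo D ≤ D.C := by
  rintro _ ⟨c, p, rfl⟩
  exact mul_mem (D.ι_mem c) (D.h0_mem p)

theorem cj_B (c : Co T) (p : T0 T) (x : Co T) : D.ι c * D.h0 p * D.ι x * (D.ι c * D.h0 p)⁻¹ =
    D.ι (c * dg T p.1.1 p.1.2 x * c⁻¹) := by
  rw [map_mul, map_mul, map_inv, ← D.h0_conj]; group

theorem cj_n {x : Co T} (h : x ∈ sQ T) : D.n8 * D.ι x * D.n8⁻¹ = D.ι x.nu8 := by
  rw [n_inv, D.n8_conj x h]

theorem n_not_mem : D.n8 ∉ Bo D := by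
  rintro ⟨c, p, e⟩
  have h := cj_B D c p (x6 T 1)
  rw [← e, cj_n D (by simp [mem_sQ, x6])] at h
  have := congrArg Co.a2 (D.inj h)
  rw [cj_a2 _ (by simp [mem_sV, dg, x6])] at this
  simp [Co.nu8, dg, x6] at this

theorem sep' {b : G} (hb : b ∈ Bo D) (u : Co T) : b * D.n8 * D.ι u ∉ Bo D := fun h =>
  n_not_mem D ((mul_mem_cancel_left hb).1 ((mul_mem_cancel_right (ι_Bo D u)).1 h))

theorem nun {u : Co T} (hu : u ∈ sU8 T) (h : D.n8 * D.ι u * D.n8 ∈ Bo D) : u = 1 := by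
  by_contra h1
  obtain ⟨u', -, u'', -, p, e⟩ := D.rank8 u hu h1
  exact sep' D ⟨u', p, rfl⟩ u'' (e ▸ h)

theorem T0_eq_one {p : T0 T} (h1 : (p.1.1 : K) = 1) (h2 : (p.1.2 : K) = 1) : p = 1 :=
  Subtype.ext (Prod.ext (Units.ext h1) (Units.ext h2))

theorem B_inj {c : Co T} {p : T0 T} (h : D.ι c * D.h0 p = 1) : c = 1 ∧ p = 1 := by
  have e : ∀ x, x = c * dg T p.1.1 p.1.2 x * c⁻¹ := fun x => D.inj (by rw [← cj_B, h]; simp)
  have e1 := congrArg Co.a1 (e (x1 T 1))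
  have e2 := congrArg Co.b8 (e (y8 T 1))
  rw [cj_a1] at e1
  rw [cj_b8] at e2
  obtain rfl : p = 1 := T0_eq_one (by simpa [x1, dg] using e1.symm) (by simpa [y8, dg] using e2.symm)
  exact ⟨D.inj (by simpa using h), rfl⟩

theorem B_uniq {c c' : Co T} {p p' : T0 T} (h : D.ι c * D.h0 p = D.ι c' * D.h0 p') :
    c = c' ∧ p = p' := by
  obtain ⟨h1, h2⟩ := B_inj D (c := c'⁻¹ * c) (p := p * p'⁻¹) (by
    rw [map_mul, map_mul, map_inv, map_inv, mul_assoc, ← mul_assoc (D.ι c), h]; group)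
  exact ⟨(inv_mul_eq_one.1 h1).symm, mul_inv_eq_one.1 h2⟩

theorem W_uniq {b b' : G} (hb : b ∈ Bo D) (hb' : b' ∈ Bo D) {u u' : Co T} (hu : u ∈ sU8 T)
    (hu' : u' ∈ sU8 T) (h : b * D.n8 * D.ι u = b' * D.n8 * D.ι u') : b = b' ∧ u = u' := by
  have e : D.n8 * D.ι (u * u'⁻¹) * D.n8 = b⁻¹ * b' := by
    rw [map_mul, map_inv, eq_inv_mul_iff_mul_eq, ← mul_assoc, ← mul_assoc, ← mul_assoc, h,
      mul_inv_cancel_right, mul_assoc, D.n8_sq, mul_one]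
  obtain rfl := mul_inv_eq_one.1 (nun D (mul_mem hu (inv_mem hu')) (e ▸ mul_mem (inv_mem hb) hb'))
  exact ⟨mul_right_cancel (mul_right_cancel h), rfl⟩

theorem card_C [Finite K] :
    Nat.card D.C = Nat.card K ^ 12 * (Nat.card K - 1) * (Nat.card K ^ 2 + 1) := by
  let f : (Co T × T0 T) × Option (sU8 T) → D.C := fun x =>
    ⟨D.ι x.1.1 * D.h0 x.1.2 * x.2.elim 1 fun u => D.n8 * D.ι u, mul_mem (Bo_le D ⟨_, _, rfl⟩) (by
      rcases x.2 with _ | u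
      exacts [one_mem _, mul_mem D.n8_mem (D.ι_mem _)])⟩
  have hf : Function.Bijective f := by
    constructor
    · rintro ⟨⟨c, p⟩, _ | u⟩ ⟨⟨c', p'⟩, _ | u'⟩ h <;>
        simp only [f, Subtype.mk.injEq, Option.elim, mul_one, ← mul_assoc] at h
      · obtain ⟨rfl, rfl⟩ := B_uniq D h; rfl
      · exact absurd ⟨c, p, h.symm⟩ (sep' D ⟨c', p', rfl⟩ u')
      · exact absurd ⟨c', p', h⟩ (sep' D ⟨c, p, rfl⟩ u)
      · obtain ⟨h1, h2⟩ := W_uniq D ⟨c, p, rfl⟩ ⟨c', p', rfl⟩ u.2 u'.2 h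
        obtain ⟨rfl, rfl⟩ := B_uniq D h1
        rw [Subtype.ext h2]
    · rintro ⟨g, hg⟩
      rcases bruhat' D hg with ⟨c, p, rfl⟩ | ⟨_, ⟨c, p, rfl⟩, u, hu, rfl⟩
      · exact ⟨((c, p), none), Subtype.ext (mul_one _)⟩
      · exact ⟨((c, p), some ⟨u, hu⟩), Subtype.ext (mul_assoc _ _ _).symm⟩
  have := Fintype.ofFinite (sU8 T)
  rw [← Nat.card_eq_of_bijective f hf, Nat.card_prod, Nat.card_prod, card_Co, card_T0,
    Nat.card_eq_fintype_card (α := Option _), Fintype.card_option, ← Nat.card_eq_fintype_card, card_U8]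

theorem gen [Finite K] : D.C = closure (Set.range D.ι ∪ {D.n8}) := by
  refine le_antisymm ((closure_le _).2 ?_) (closure_mono (Set.union_subset_union_left _ Set.subset_union_left))
  have hι : ∀ c, D.ι c ∈ closure (Set.range D.ι ∪ {D.n8}) := fun c => subset_closure (Or.inl ⟨c, rfl⟩)
  have hn : D.n8 ∈ closure (Set.range D.ι ∪ {D.n8}) := subset_closure (Or.inr rfl)
  generalize closure (Set.range D.ι ∪ {D.n8}) = N at hι hn
  rintro _ ((⟨c, rfl⟩ | ⟨p, rfl⟩) | rfl)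
  · exact hι c
  · obtain ⟨r, rfl⟩ := sq_T0_surj p
    obtain ⟨u', -, u'', -, p, e⟩ := D.rank8 (x8 T 1) (by simp [mem_sU8, x8])
      fun h => by simpa [x8] using congrArg Co.a8 h
    have h1 : D.h0 p ∈ N := (mul_mem_cancel_left (hι u')).1 ((mul_mem_cancel_right hn).1
      ((mul_mem_cancel_right (hι u'')).1 (e ▸ mul_mem (mul_mem hn (hι _)) hn)))
    have h2 : D.h0 r * (D.n8 * D.ι (x8 T 1) * D.n8) * (D.h0 r)⁻¹ ∈ N := by
      have := mul_mem (mul_mem hn (hι (dg T r⁻¹.1.1 r⁻¹.1.2 (x8 T 1)))) hn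
      rw [← D.h0_conj, map_inv, ← D.n8_h0] at this
      simpa [mul_assoc, n_inv, n_n, D.n8_sq, ← D.n8_h0] using this
    have e2 : D.h0 r * (D.ι u' * D.h0 p * D.n8 * D.ι u'') * (D.h0 r)⁻¹ = D.h0 r * D.ι u' * (D.h0 r)⁻¹ *
        (D.h0 (r * p * r) * D.n8) * (D.h0 r * D.ι u'' * (D.h0 r)⁻¹) := by
      rw [map_mul, map_mul, mul_assoc _ (D.h0 r) D.n8, ← inv_inv r, ← n_h, inv_inv, map_inv]; group
    rw [e, e2, D.h0_conj, D.h0_conj, mul_mem_cancel_right (hι _), mul_mem_cancel_left (hι _),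
      mul_mem_cancel_right hn, mul_right_comm, map_mul, mul_mem_cancel_right h1] at h2
    exact h2
  · exact hn

theorem cj_mem {X : Subgroup (Co T)} (hQ : X ≤ sQ T) (hn : ∀ c ∈ X, ∀ s, s * c * s⁻¹ ∈ X)
    (hd : ∀ a b, ∀ c ∈ X, dg T a b c ∈ X) (h8 : ∀ c ∈ X, c.nu8 ∈ X) :
    D.C ≤ normalizer (D.im X : Set G) := by
  have key : ∀ g ∈ D.C, ∀ x ∈ D.im X, g * x * g⁻¹ ∈ D.im X := fun g hg => by
    have st : ∀ a g : G, (∀ x ∈ D.im X, a * x * a⁻¹ ∈ D.im X) → (∀ x ∈ D.im X, g * x * g⁻¹ ∈ D.im X) →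
        ∀ x ∈ D.im X, a * g * x * (a * g)⁻¹ ∈ D.im X := fun a g h1 h2 x hx => by
      simpa [mul_assoc] using h1 _ (h2 x hx)
    refine C_ind D (P := fun g => ∀ x ∈ D.im X, g * x * g⁻¹ ∈ D.im X) (by simp)
      (fun c g => st _ g ?_) (fun p g => st _ g ?_) (fun g => st _ g ?_) hg <;> rintro _ ⟨x, hx, rfl⟩
    · exact ⟨_, hn x hx c, by simp⟩
    · exact ⟨_, hd _ _ x hx, (D.h0_conj p x).symm⟩
    · exact ⟨_, h8 x hx, (cj_n D (hQ hx)).symm⟩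
  intro g hg
  refine mem_normalizer_iff.2 fun x => ⟨key g hg x, fun h => ?_⟩
  simpa [mul_assoc] using key _ (inv_mem hg) _ h

theorem Z_le_Q : sZ T ≤ sQ T := fun _ h => ⟨h.2.2.2.2.2.2.2.2.2.1, h.2.2.2.2.2.2.2.2.2.2⟩
theorem V_le_Q : sV T ≤ sQ T := fun _ h => h.2.2.2.2.2
theorem R_le_Q : sR T ≤ sQ T := fun _ h => h.2.2.2.2

theorem norQ : D.C ≤ normalizer (D.im (sQ T) : Set G) :=
  cj_mem D le_rfl (fun _ => cjQ) (fun a b c h => by simp [mem_sQ, dg, h.1, h.2]) fun _ _ => ⟨rfl, rfl⟩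

theorem nor : ∀ X ∈ [sZ T, sV T, sR T, sQ T], D.C ≤ normalizer (D.im X : Set G) := by
  simp only [List.mem_cons, List.not_mem_nil, or_false]
  rintro _ (rfl | rfl | rfl | rfl)
  · refine cj_mem D Z_le_Q (fun c h s => ?_) (fun a b c h => ?_) fun c h => ?_
    · rw [eq_x4 h, x4_comm, mul_inv_cancel_right]; exact x4_mem _
    · rw [eq_x4 h]; simp [mem_sZ, dg, x4]
    · rw [eq_x4 h]; simp [mem_sZ, Co.nu8, x4]
  · refine cj_mem D V_le_Q (fun _ => cjV) (fun a b c h => ?_) fun c h => ?_ <;>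
      obtain ⟨h1, h2, h3, h4, h5, h6, h7⟩ := h <;> simp [mem_sV, dg, Co.nu8, *]
  · refine cj_mem D R_le_Q (fun _ => cjR) (fun a b c h => ?_) fun c h => ?_ <;>
      obtain ⟨h1, h2, h3, h4, h5, h6⟩ := h <;> simp [mem_sR, dg, Co.nu8, *]
  · exact norQ D

theorem cenZ {g : G} (hg : g ∈ D.C) (t : K) : g * D.ι (x4 T t) = D.ι (x4 T t) * g := by
  have st : ∀ a g : G, a * D.ι (x4 T t) = D.ι (x4 T t) * a → g * D.ι (x4 T t) = D.ι (x4 T t) * g →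
      a * g * D.ι (x4 T t) = D.ι (x4 T t) * (a * g) := fun a g h1 h2 => by
    rw [mul_assoc, h2, ← mul_assoc, h1, mul_assoc]
  refine C_ind D (P := fun g => g * D.ι (x4 T t) = D.ι (x4 T t) * g) (by simp)
    (fun c g => st _ g ?_) (fun p g => st _ g ?_) (fun g => st _ g ?_) hg
  · rw [← map_mul, x4_comm, map_mul]
  · rw [h_ι, dg_x4]
  · rw [n_ι D (Z_le_Q (x4_mem t))]
    congr 2
    ext <;> simp [Co.nu8, x4]

/-- the kernel of the action on `Q / Z` -/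
theorem mem_Q {g : G} (hg : g ∈ D.C) (h : ∀ q ∈ sQ T, ∃ t, g * D.ι q * g⁻¹ = D.ι (q * x4 T t)) :
    g ∈ D.im (sQ T) := by
  rcases bruhat' D hg with ⟨c, p, rfl⟩ | ⟨_, ⟨c, p, rfl⟩, u, hu, rfl⟩
  · obtain ⟨t1, e1⟩ := h (x1 T 1) (by simp [mem_sQ, x1])
    obtain ⟨t2, e2⟩ := h (y2 T 1) (by simp [mem_sQ, y2])
    rw [cj_B] at e1 e2
    have a1 := congrArg Co.a1 (D.inj e1)
    have a2 := congrArg Co.b2 (D.inj e2)
    rw [cj_a1] at a1
    rw [cj_b2] at a2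
    have b1 : (p.1.1 : K) = 1 := by simpa [x1, x4, dg] using a1
    obtain rfl : p = 1 := T0_eq_one b1 (by simpa [y2, x4, dg, b1] using a2)
    have e3 : c * x1 T 1 * c⁻¹ = x1 T 1 * x4 T t1 := by simpa [dg_one] using D.inj e1
    have a3 := congrArg Co.b2 e3
    rw [cj_b2] at a3
    have b3 : c.b8 = 0 := by simpa [x1, x4] using a3
    have a4 := congrArg Co.b6 e3
    rw [cj_b6 _ b3] at a4
    exact ⟨c, ⟨b3, by simpa [x1, x4] using a4⟩, by simp⟩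
  · obtain ⟨t, e⟩ := h (x6 T 1) (by simp [mem_sQ, x6])
    have e1 : D.ι c * D.h0 p * D.n8 * D.ι u * D.ι (x6 T 1) * (D.ι c * D.h0 p * D.n8 * D.ι u)⁻¹ =
        D.ι c * D.h0 p * (D.n8 * D.ι (u * x6 T 1 * u⁻¹) * D.n8⁻¹) * (D.ι c * D.h0 p)⁻¹ := by
      rw [map_mul, map_mul, map_inv]; group
    rw [e1, U8_x6 hu, cj_n D (by simp [mem_sQ, x6]), cj_B] at e
    have := congrArg Co.a2 (D.inj e)
    rw [cj_a2 _ (by simp [mem_sV, dg, x6, Co.nu8])] at this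
    simp [Co.nu8, dg, x6, x4] at this

theorem cenQ {g : G} (hg : g ∈ D.C) (h : ∀ c ∈ sQ T, g * D.ι c = D.ι c * g) : g ∈ D.im (sZ T) := by
  obtain ⟨c, hc, rfl⟩ := mem_Q D hg fun q hq => ⟨0, by
    rw [h q hq, mul_inv_cancel_right, show x4 T 0 = 1 from rfl, mul_one]⟩
  exact ⟨c, mem_Z hc fun q hq => D.inj (by rw [map_mul, map_mul, h q hq]), rfl⟩

theorem nsub [Finite K] {N : Subgroup G} (h1 : N ≤ D.C) (h2 : D.C ≤ normalizer (N : Set G))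
    (h3 : ¬ N ≤ D.im (sZ T)) : D.im (sV T) ≤ N := by
  have cj : ∀ g ∈ D.C, ∀ x ∈ N, g * x * g⁻¹ ∈ N := fun g hg x => (mem_normalizer_iff.1 (h2 hg) x).1
  obtain ⟨c, hc, hQ, hZ⟩ : ∃ c, D.ι c ∈ N ∧ c ∈ sQ T ∧ c ∉ sZ T := by
    by_contra hh
    push Not at hh
    refine h3 fun g hg => ?_
    obtain ⟨c, hc, rfl⟩ := mem_Q D (h1 hg) fun q hq => by
      obtain ⟨q', hq', e⟩ := (mem_normalizer_iff.1 (norQ D (h1 hg)) _).1 (mem_map_of_mem D.ι hq)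
      have hz := hh (q⁻¹ * q') (by
        have := mul_mem (cj _ (D.ι_mem q⁻¹) g hg) (inv_mem hg)
        rw [map_mul, e]
        simpa [mul_assoc] using this) (mul_mem (inv_mem hq) hq')
      exact ⟨_, by rw [← eq_x4 hz, mul_inv_cancel_left, e]⟩
    exact ⟨c, hh c hg hc, rfl⟩
  refine map_le_iff_le_comap.2 (V_le (fun s x hx => ?_) (fun p x hx => ?_) (fun x hx hq => ?_) hc hQ hZ)
  · simpa [mem_comap] using cj _ (D.ι_mem s) _ hx
  · exact mem_comap.2 (D.h0_conj p x ▸ cj _ (D.h0_mem p) _ hx)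
  · exact mem_comap.2 (cj_n D hq ▸ cj _ D.n8_mem _ hx)

theorem card_two [Finite K] : ∃ n, 0 < n ∧ Nat.card K = 2 ^ n := by
  have := Fintype.ofFinite K
  obtain ⟨n, -, h⟩ := FiniteField.card K 2
  exact ⟨n, n.2, by rw [Nat.card_eq_fintype_card, h]⟩

theorem S_two [Finite K] : IsPGroup 2 (Co T) := by
  obtain ⟨n, -, h⟩ := card_two (K := K)
  exact IsPGroup.of_card (n := n * 12) (by rw [card_Co, h, pow_mul])

theorem syl [Finite K] {P : Subgroup G} (h1 : P ≤ D.C) (h2 : IsPGroup 2 P) :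
    ∃ g ∈ D.C, ∀ x ∈ P, g * x * g⁻¹ ∈ D.S := by
  obtain ⟨n, hn, hq⟩ := card_two (K := K)
  have h4 : 1 < Nat.card K := Finite.one_lt_card
  have : Finite D.C := Nat.finite_of_card_ne_zero (by
    rw [card_C]; exact mul_ne_zero (mul_ne_zero (by positivity) (by omega)) (by positivity))
  have hi : Function.Injective D.ιC := fun a b h => D.inj (congrArg Subtype.val h)
  have hc : Nat.card D.ιC.range = Nat.card K ^ 12 := by
    rw [← Nat.card_congr (MonoidHom.ofInjective hi).toEquiv, card_Co]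
  have hx : D.ιC.range.index = (Nat.card K - 1) * (Nat.card K ^ 2 + 1) :=
    mul_left_cancel₀ (a := Nat.card K ^ 12) (by positivity) (by
      rw [← mul_assoc, ← card_C D, ← hc, card_mul_index])
  have he : Even (Nat.card K) := hq ▸ (even_two.pow_of_ne_zero hn.ne')
  have ho : ¬ 2 ∣ D.ιC.range.index := by
    rw [hx, Nat.two_dvd_ne_zero, ← Nat.odd_iff]
    exact (Nat.Even.sub_odd h4.le he odd_one).mul (he.pow_of_ne_zero two_ne_zero).add_one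
  obtain ⟨P', hP⟩ := (h2.comap_subtype (K := D.C)).exists_le_sylow
  obtain ⟨g, hg⟩ := MulAction.exists_smul_eq D.C P'
    ((S_two.of_surjective _ D.ιC.rangeRestrict_surjective).toSylow ho)
  refine ⟨g, g.2, fun x hx => ?_⟩
  have : g * ⟨x, h1 hx⟩ * g⁻¹ ∈ (g • P' : Sylow 2 D.C) :=
    smul_mem_pointwise_smul (⟨x, h1 hx⟩ : D.C) (MulAut.conj g) _ (hP hx)
  rw [hg] at this
  obtain ⟨c, hc⟩ := this
  exact ⟨c, congrArg Subtype.val hc⟩

theorem autQ [Finite K] (θ : MulAut D.C) {c : Co T} (hc : c ∈ sQ T) :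
    ∃ c' ∈ sQ T, θ (D.ιC c) = D.ιC c' := by
  have h2 : IsPGroup 2 ((((sQ T).map D.ιC).map θ.toMonoidHom).map D.C.subtype) :=
    (((S_two.to_subgroup _).map _).map _).map _
  obtain ⟨g, hg, h⟩ := syl D (map_subtype_le _) h2
  have key : ∀ x : D.C, ((x * θ (D.ιC c) * x⁻¹ : D.C) : G) ∈ D.S := fun x => by
    obtain ⟨q, hq, e⟩ := (mem_normalizer_iff.1 (norQ D (θ⁻¹ (⟨g, hg⟩⁻¹ * x)).2) _).1 (mem_map_of_mem D.ι hc)
    have e1 : D.ιC q = θ⁻¹ (⟨g, hg⟩⁻¹ * x) * D.ιC c * (θ⁻¹ (⟨g, hg⟩⁻¹ * x))⁻¹ := Subtype.ext e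
    have := h _ (mem_map_of_mem D.C.subtype (mem_map_of_mem θ.toMonoidHom (mem_map_of_mem D.ιC hq)))
    rw [e1] at this
    simpa [mul_assoc] using this
  obtain ⟨s, hs⟩ := key 1
  obtain ⟨s', hs'⟩ := key ⟨D.n8, D.n8_mem⟩
  have e : θ (D.ιC c) = D.ιC s := Subtype.ext (hs.trans (by simp)).symm
  obtain ⟨q, hq, u, hu, rfl⟩ := split s
  obtain rfl : u = 1 := nun D hu (by
    have e2 : D.ι s' = D.n8 * D.ι (q * u) * D.n8⁻¹ := by rw [hs', e]; rfl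
    rw [map_mul, ← mul_assoc, n_ι D hq, n_inv, mul_assoc, mul_assoc, ← mul_assoc D.n8] at e2
    exact (mul_mem_cancel_left (ι_Bo D _)).1 (e2 ▸ ι_Bo D s'))
  exact ⟨_, by rwa [mul_one], e⟩

theorem aut [Finite K] (θ : MulAut D.C) :
    ∀ X ∈ [sZ T, sV T, sR T, sQ T], ∀ c ∈ X, ∃ c' ∈ X, θ (D.ιC c) = D.ιC c' := by
  have hi : Function.Injective D.ιC := fun a b h => D.inj (congrArg Subtype.val h)
  have hZ : ∀ θ : MulAut D.C, ∀ c ∈ sZ T, ∃ c' ∈ sZ T, θ (D.ιC c) = D.ιC c' := fun θ c hc => by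
    obtain ⟨c', h, e⟩ := cenQ D (θ (D.ιC c)).2 fun q _ => by
      have : θ⁻¹ (D.ιC q) * D.ιC c = D.ιC c * θ⁻¹ (D.ιC q) :=
        Subtype.ext (by rw [eq_x4 hc]; exact cenZ D (θ⁻¹ (D.ιC q)).2 _)
      exact congrArg Subtype.val (show θ (D.ιC c) * D.ιC q = D.ιC q * θ (D.ιC c) by
        simpa using (congrArg θ this).symm)
    exact ⟨c', h, Subtype.ext e.symm⟩
  have hV : ∀ θ : MulAut D.C, ∀ c ∈ sV T, ∃ c' ∈ sV T, θ (D.ιC c) = D.ιC c' := fun θ c hc => by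
    obtain ⟨c', h, e⟩ := autQ D θ (V_le_Q hc)
    refine ⟨c', mem_V h fun q hq => ?_, e⟩
    obtain ⟨q', hq', e'⟩ := autQ D θ⁻¹ hq
    obtain ⟨z, hz, e''⟩ := hZ θ _ (cm_VQ hc hq')
    rwa [← hi (a₁ := z) (a₂ := q * c' * q⁻¹ * c'⁻¹) (by rw [← e'']; simp [← e', e])]
  simp only [List.mem_cons, List.not_mem_nil, or_false]
  rintro _ (rfl | rfl | rfl | rfl)
  · exact hZ θ
  · exact hV θ
  · intro c hc
    obtain ⟨c', h, e⟩ := autQ D θ (R_le_Q hc)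
    refine ⟨c', mem_R h fun v hv => hi ?_, e⟩
    obtain ⟨v', hv', e'⟩ := hV θ⁻¹ v hv
    have := congrArg (fun x => θ (D.ιC x)) (cm_RV hc hv')
    simpa [← e', e] using this
  · exact fun c => autQ D θ

theorem bc [Finite K] : BC D where
  bruhat := fun g => ⟨fun hg => (bruhat' D hg).imp id fun ⟨_, ⟨c, p, e⟩, u, hu, e'⟩ => ⟨c, p, u, hu, e ▸ e'⟩,
    by
      rintro (h | ⟨c, p, u, -, rfl⟩)
      exacts [Bo_le D h, mul_mem (mul_mem (Bo_le D ⟨c, p, rfl⟩) D.n8_mem) (D.ι_mem u)]⟩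
  sep := fun c p u c' p' h => sep' D ⟨c, p, rfl⟩ u ⟨c', p', h⟩
  B_inj := fun _ _ => B_inj D
  gen := gen D
  card_C := card_C D
  card_T0 := card_T0
  T0_fst := T0_fst
  T0_snd := T0_snd
  nor := nor D
  cenZ := fun _ => cenZ D
  cenQ := fun _ => cenQ D
  nsub := fun _ => nsub D
  syl := fun _ => syl D
  aut := aut D

theorem jobBC : JobBC.{u, v} := fun _ _ _ _ _ _ _ D => bc D

/-- `g` acts on `Q` by the formula `f` -/
def Act (g : G) (f : Co T → Co T) : Prop := ∀ q ∈ sQ T, f q ∈ sQ T ∧ g * D.ι q * g⁻¹ = D.ι (f q)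

theorem Act.mul {D : CS T G} {g g' : G} {f f' : Co T → Co T} (h : Act D g f) (h' : Act D g' f') :
    Act D (g * g') (f ∘ f') := fun q hq => ⟨(h _ (h' q hq).1).1, by
  rw [Function.comp, ← (h _ (h' q hq).1).2, ← (h' q hq).2]; group⟩

theorem act_ι (s : Co T) : Act D (D.ι s) fun q => s * q * s⁻¹ := fun _ hq => ⟨cjQ hq s, by simp⟩
theorem act_h (p : T0 T) : Act D (D.h0 p) (dg T p.1.1 p.1.2) := fun q hq =>
  ⟨by simp [mem_sQ, dg, hq.1, hq.2], D.h0_conj p q⟩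
theorem act_n : Act D D.n8 Co.nu8 := fun _ hq => ⟨⟨rfl, rfl⟩, cj_n D hq⟩

variable {G' : Type*} [Group G'] (D' : CS T G')

theorem rank_eq {u u' u'' : Co T} {p : T0 T} (hu : u ∈ sU8 T) (hu' : u' ∈ sU8 T) (hu'' : u'' ∈ sU8 T)
    (h : D.n8 * D.ι u * D.n8 = D.ι u' * D.h0 p * D.n8 * D.ι u'') :
    D'.n8 * D'.ι u * D'.n8 = D'.ι u' * D'.h0 p * D'.n8 * D'.ι u'' := by
  have h1 : u ≠ 1 := by
    rintro rfl
    rw [map_one, mul_one, D.n8_sq] at h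
    exact sep' D ⟨u', p, rfl⟩ u'' (h ▸ one_mem _)
  obtain ⟨v, hv, v', hv', r, e⟩ := D'.rank8 u hu h1
  have a1 := fun {H : Type _} [Group H] (E : CS T H) => ((act_n E).mul (act_ι E u)).mul (act_n E)
  have a1' := ((act_n D').mul (act_ι D' u)).mul (act_n D')
  have a2 := (((act_ι D v).mul (act_h D r)).mul (act_n D)).mul (act_ι D v')
  have a2' := (((act_ι D' v).mul (act_h D' r)).mul (act_n D')).mul (act_ι D' v')
  have m1 : D.n8 * D.ι u * D.n8 ∈ D.C := mul_mem (mul_mem D.n8_mem (D.ι_mem _)) D.n8_mem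
  have m2 : D.ι v * D.h0 r * D.n8 * D.ι v' ∈ D.C :=
    mul_mem (mul_mem (Bo_le D ⟨v, r, rfl⟩) D.n8_mem) (D.ι_mem _)
  obtain ⟨z, hz, ez⟩ := cenQ D (mul_mem (inv_mem m2) m1) fun q hq => by
    have := (a1 D q hq).2
    rw [D'.inj (((a1' q hq).2.symm.trans (by rw [e])).trans (a2' q hq).2), ← (a2 q hq).2] at this
    rw [mul_assoc, mul_inv_eq_iff_eq_mul.1 this]; group
  rw [eq_x4 hz, eq_inv_mul_iff_mul_eq, cenZ D m2, h, ← mul_assoc, ← mul_assoc, ← mul_assoc,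
    ← map_mul] at ez
  obtain ⟨e1, rfl⟩ := W_uniq D ⟨_, r, rfl⟩ ⟨_, p, rfl⟩ hv' hu'' ez
  obtain ⟨e2, rfl⟩ := B_uniq D e1
  have e3 : z.a4 = 0 := by
    have := congrArg Co.a4 e2
    simpa [x4, hv.2.2.2.2.2.1, hu'.2.2.2.2.2.1] using this
  rw [e3, show x4 T 0 = 1 from rfl, one_mul] at e2
  rw [e, e2]

/-- the product of two coordinate systems -/
def prodCS : CS T (G × G') where
  ι := D.ι.prod D'.ι
  inj := fun _ _ h => D.inj (congrArg Prod.fst h)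
  n8 := (D.n8, D'.n8)
  h0 := D.h0.prod D'.h0
  h0_conj := fun p c => Prod.ext (D.h0_conj p c) (D'.h0_conj p c)
  n8_sq := Prod.ext D.n8_sq D'.n8_sq
  n8_conj := fun c hc => Prod.ext (D.n8_conj c hc) (D'.n8_conj c hc)
  n8_h0 := fun p => Prod.ext (D.n8_h0 p) (D'.n8_h0 p)
  rank8 := fun u hu h1 => by
    obtain ⟨u', hu', u'', hu'', p, e⟩ := D.rank8 u hu h1
    exact ⟨u', hu', u'', hu'', p, Prod.ext e (rank_eq D D' hu hu' hu'' e)⟩

/-- a homomorphism which respects the coordinates restricts to an isomorphism -/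
theorem exists_equiv (φ : G →* G') (h1 : ∀ c, φ (D.ι c) = D'.ι c) (h2 : ∀ p, φ (D.h0 p) = D'.h0 p)
    (h3 : φ D.n8 = D'.n8) : ∃ e : D.C ≃* D'.C, ∀ x, (e x : G') = φ x := by
  have hm : ∀ g ∈ D.C, φ g ∈ D'.C := fun g hg => C_ind D (P := fun g => φ g ∈ D'.C) (by simp)
    (fun c g h => by rw [map_mul, h1]; exact mul_mem (D'.ι_mem c) h)
    (fun p g h => by rw [map_mul, h2]; exact mul_mem (D'.h0_mem p) h)
    (fun g h => by rw [map_mul, h3]; exact mul_mem D'.n8_mem h) hg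
  refine ⟨MulEquiv.ofBijective ((φ.comp D.C.subtype).codRestrict D'.C fun x => hm x x.2) ⟨?_, ?_⟩,
    fun _ => rfl⟩
  · refine (injective_iff_map_eq_one _).2 fun ⟨g, hg⟩ h => Subtype.ext ?_
    have h' : φ g = 1 := congrArg Subtype.val h
    rcases bruhat' D hg with ⟨c, p, rfl⟩ | ⟨_, ⟨c, p, rfl⟩, u, -, rfl⟩
    · rw [map_mul, h1, h2] at h'
      obtain ⟨rfl, rfl⟩ := B_inj D' h'
      simp
    · rw [map_mul, map_mul, map_mul, h1, h1, h2, h3] at h'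
      exact absurd (h' ▸ one_mem _) (sep' D' ⟨c, p, rfl⟩ u)
  · rintro ⟨g, hg⟩
    obtain ⟨x, hx, rfl⟩ : ∃ x ∈ D.C, φ x = g := C_ind D' (P := fun g => ∃ x ∈ D.C, φ x = g)
      ⟨1, one_mem _, map_one φ⟩
      (fun c _ ⟨x, hx, e⟩ => ⟨_, mul_mem (D.ι_mem c) hx, by rw [map_mul, h1, e]⟩)
      (fun p _ ⟨x, hx, e⟩ => ⟨_, mul_mem (D.h0_mem p) hx, by rw [map_mul, h2, e]⟩)
      (fun _ ⟨x, hx, e⟩ => ⟨_, mul_mem D.n8_mem hx, by rw [map_mul, h3, e]⟩) hg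
    exact ⟨⟨x, hx⟩, rfl⟩

theorem exists_iso : ∃ e : D.C ≃* D'.C, (∀ c, e (D.ιC c) = D'.ιC c) ∧
    (∀ p, e ⟨D.h0 p, D.h0_mem p⟩ = ⟨D'.h0 p, D'.h0_mem p⟩) ∧
    e ⟨D.n8, D.n8_mem⟩ = ⟨D'.n8, D'.n8_mem⟩ := by
  obtain ⟨e, he⟩ := exists_equiv (prodCS D D') D (MonoidHom.fst G G') (fun _ => rfl) (fun _ => rfl) rfl
  obtain ⟨e', he'⟩ := exists_equiv (prodCS D D') D' (MonoidHom.snd G G') (fun _ => rfl) (fun _ => rfl) rfl
  have key : ∀ (x : (prodCS D D').C) (y : D.C) (y' : D'.C), x.1.1 = y → x.1.2 = y' →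
      (e.symm.trans e') y = y' := fun x y y' h h' => by
    rw [← show e x = y from Subtype.ext ((he x).trans h), MulEquiv.trans_apply, e.symm_apply_apply]
    exact Subtype.ext ((he' x).trans h')
  exact ⟨e.symm.trans e', fun c => key ((prodCS D D').ιC c) _ _ rfl rfl,
    fun p => key ⟨_, (prodCS D D').h0_mem p⟩ _ _ rfl rfl, key ⟨_, (prodCS D D').n8_mem⟩ _ _ rfl rfl⟩

theorem jobEq : JobEq.{u, v, w} := fun _ _ _ _ _ _ _ _ _ D D' _ _ =>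
  ⟨fun _ _ _ _ => rank_eq D D', exists_iso D D'⟩

end H14.Oc
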