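import Cfsg.Agent.H1.Glauberman
import Cfsg.Agent.H18.FpfHom
import Cfsg.Agent.H28.Hall
import Cfsg.Agent.H2.MinNormal

/-!
Vectors moved by every conjugate of an element of a normal p-subgroup (p odd), and regular
orbits of p-groups of class two.
-/

set_option autoImplicit false

namespace H14.RO

universe u

open scoped commutatorElement

section Norm
variable {M : Type*} [Group M] {V : Type*} [CommGroup V] (φ : M →* MulAut V)

/-- fixed points of a subgroup -/
def Fx (X : Subgroup M) : Subgroup V where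
  carrier := {v | ∀ x ∈ X, φ x v = v}
  mul_mem' := fun {a b} ha hb x hx => by rw [map_mul, ha x hx, hb x hx]
  one_mem' := fun x _ => map_one _
  inv_mem' := fun {a} ha x hx => by rw [map_inv, ha x hx]

theorem mem_Fx {X : Subgroup M} {v : V} : v ∈ Fx φ X ↔ ∀ x ∈ X, φ x v = v := Iff.rfl

theorem ap_mul (a b : M) (v : V) : φ (a * b) v = φ a (φ b v) := by rw [map_mul]; rfl

theorem ap_inv (a : M) (v : V) : φ a⁻¹ (φ a v) = v := by rw [← ap_mul, inv_mul_cancel, map_one]; rfl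

theorem ap_inv' (a : M) (v : V) : φ a (φ a⁻¹ v) = v := by rw [← ap_mul, mul_inv_cancel, map_one]; rfl

theorem ap_pow {a : M} {v : V} (h : φ a v = v) (n : ℕ) : φ (a ^ n) v = v := by
  induction n with
  | zero => rw [pow_zero, map_one]; rfl
  | succ n ih => rw [pow_succ, ap_mul, h, ih]

theorem Fx_inv {X : Subgroup M} {m : M} (hm : m ∈ Subgroup.normalizer (X : Set M)) {v : V}
    (hv : v ∈ Fx φ X) : φ m v ∈ Fx φ X := fun x hx => by
  have h1 : m⁻¹ * x * m ∈ X := by
    have := (Subgroup.mem_normalizer_iff.1 (inv_mem hm) x).1 hx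
    simpa using this
  have : x * m = m * (m⁻¹ * x * m) := by group
  rw [← ap_mul, this, ap_mul, hv _ h1]

variable [Finite M]

/-- the norm map of a subgroup -/
noncomputable def nm (X : Subgroup M) : V →* V :=
  letI := Fintype.ofFinite X
  ∏ x : X, (φ x).toMonoidHom

theorem nm_apply (X : Subgroup M) [Fintype X] (v : V) : nm φ X v = ∏ x : X, φ x v := by
  unfold nm
  rw [MonoidHom.finsetProd_apply]
  convert rfl
  rfl

theorem nm_of_fix {X : Subgroup M} {v : V} (hv : v ∈ Fx φ X) : nm φ X v = v ^ Nat.card X := by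
  letI := Fintype.ofFinite X
  rw [nm_apply, Finset.prod_congr rfl fun (x : X) _ => hv x x.2]
  simp

theorem nm_mem (X : Subgroup M) (v : V) : nm φ X v ∈ Fx φ X := fun y hy => by
  letI := Fintype.ofFinite X
  rw [nm_apply, map_prod]
  exact Fintype.prod_equiv (Equiv.mulLeft (⟨y, hy⟩ : X)) _ _ fun x => by
    rw [← ap_mul]; rfl

theorem nm_comm {X : Subgroup M} {m : M} (hm : m ∈ Subgroup.normalizer (X : Set M)) (v : V) :
    φ m (nm φ X v) = nm φ X (φ m v) := by
  letI := Fintype.ofFinite X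
  rw [nm_apply, nm_apply, map_prod]
  refine Fintype.prod_equiv ((Subgroup.normalizerMonoidHom X) ⟨m, hm⟩).toEquiv _ _ fun x => ?_
  rw [← ap_mul, ← ap_mul]
  congr 2
  change m * x = (m * x * m⁻¹) * m
  group

theorem nm_fix {X : Subgroup M} {y : M} (hy : ∀ x ∈ X, y * x = x * y) {v : V} (hv : φ y v = v) :
    φ y (nm φ X v) = nm φ X v := by
  letI := Fintype.ofFinite X
  rw [nm_apply, map_prod]
  refine Finset.prod_congr rfl fun x _ => ?_
  rw [← ap_mul, hy x x.2, ap_mul, hv]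

end Norm

theorem pow_inj {V : Type*} [CommGroup V] [Finite V] {p : ℕ} [hp : Fact p.Prime]
    (hV : ¬ p ∣ Nat.card V) {X : Type*} [Group X] [Finite X] (hX : IsPGroup p X) {a b : V}
    (h : a ^ Nat.card X = b ^ Nat.card X) : a = b := by
  obtain ⟨k, hk⟩ := hX.exists_card_eq
  have hc : (Nat.card V).Coprime (Nat.card X) := by
    rw [hk]; exact ((hp.out.coprime_iff_not_dvd).2 hV).symm.pow_right k
  exact (powCoprime hc).injective h

theorem not_dvd_sub {V : Type*} [Group V] {p : ℕ} (hV : ¬ p ∣ Nat.card V) (W : Subgroup V) :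
    ¬ p ∣ Nat.card W := fun h => hV (h.trans W.card_subgroup_dvd_card)

theorem card_lt {V : Type*} [Group V] [Finite V] {W : Subgroup V} (h : W ≠ ⊤) :
    Nat.card W < Nat.card V :=
  lt_of_le_of_ne (Nat.le_of_dvd Nat.card_pos W.card_subgroup_dvd_card)
    fun e => h (Subgroup.eq_top_of_card_eq W e)

/-- class at most two -/
def Cl2 (K : Type*) [Group K] : Prop := ∀ x y z : K, z * ⁅x, y⁆ = ⁅x, y⁆ * z

/-- the statement of the regular orbit lemma for one module -/
def Reg (p : ℕ) (V : Type u) [CommGroup V] : Prop :=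
  ∀ (K : Type u) [Group K] [Finite K] (φ : K →* MulAut V), IsPGroup p K → Cl2 K →
    ∃ v, ∀ k, φ k v = v → φ k = 1

theorem reg_sub {p : ℕ} {V : Type u} [CommGroup V] {W : Subgroup V} (h : Reg p W)
    {K : Type u} [Group K] [Finite K] (φ : K →* MulAut V) (hK : IsPGroup p K) (hc : Cl2 K)
    (H : Subgroup K) (hW : ∀ a ∈ H, ∀ x ∈ W, φ a x ∈ W) :
    ∃ v ∈ W, ∀ k ∈ H, φ k v = v → ∀ w ∈ W, φ k w = w := by
  obtain ⟨v, hv⟩ := h H (H1.restrictAut (φ.comp H.subtype) W fun a => hW a a.2) (hK.to_subgroup H)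
    (fun x y z => Subtype.ext (hc x y z))
  refine ⟨v, v.2, fun k hk e w hw => ?_⟩
  have := hv ⟨k, hk⟩ (Subtype.ext e)
  exact congrArg Subtype.val (DFunLike.congr_fun this ⟨w, hw⟩)

theorem reg_step {p : ℕ} [hp : Fact p.Prime] (hp2 : p ≠ 2) {V : Type u} [CommGroup V] [Finite V]
    (hV : ¬ p ∣ Nat.card V) (ih : ∀ W : Subgroup V, W ≠ ⊤ → Reg p W)
    {K : Type u} [Group K] [Finite K] (φ : K →* MulAut V) (hφ : Function.Injective φ)
    (hK : IsPGroup p K) (hc : Cl2 K) : ∃ v, ∀ k, φ k v = v → k = 1 := by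
  have faith : ∀ k : K, (∀ v, φ k v = v) → k = 1 := fun k h =>
    hφ (by rw [map_one]; ext v; exact h v)
  by_cases h1 : ∃ z : K, z ≠ 1 ∧ (∀ y, y * z = z * y) ∧ ∃ c, c ≠ 1 ∧ φ z c = c
  · obtain ⟨z, hz1, hz, c, hc1, hzc⟩ := h1
    set X := Subgroup.zpowers z
    have hXp : IsPGroup p X := hK.to_subgroup X
    have hfx : ∀ v, φ z v = v → v ∈ Fx φ X := fun v hv x hx => by
      obtain ⟨n, rfl⟩ := mem_powers_iff_mem_zpowers.2 hx
      exact ap_pow φ hv n
    have hN : ∀ m, m ∈ Subgroup.normalizer (X : Set K) := fun m => by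
      have : X.Normal := ⟨fun x hx g => by
        obtain ⟨n, rfl⟩ := hx
        have : g * z ^ n * g⁻¹ = z ^ n := by
          rw [(Commute.zpow_right (hz g) n).eq]; group
        simp only [this]; exact ⟨n, rfl⟩⟩
      rw [Subgroup.normalizer_eq_top]; trivial
    obtain ⟨v1, hv1, h1⟩ := reg_sub (ih (Fx φ X) fun e => hz1 (faith z fun v =>
      (e.symm ▸ Subgroup.mem_top v : v ∈ Fx φ X) z (Subgroup.mem_zpowers z))) φ hK hc ⊤
      fun a _ x hx => Fx_inv φ (hN a) hx
    obtain ⟨v2, hv2, h2⟩ := reg_sub (ih (nm φ X).ker fun e => hc1 (pow_inj hV hXp (by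
      rw [← nm_of_fix φ (hfx c hzc), one_pow]
      exact (e.symm ▸ Subgroup.mem_top c : c ∈ (nm φ X).ker)))) φ hK hc ⊤
      fun a _ x hx => by
        rw [MonoidHom.mem_ker] at hx ⊢
        rw [← nm_comm φ (hN a), hx, map_one]
    rw [MonoidHom.mem_ker] at hv2
    refine ⟨v1 * v2, fun k hk => faith k fun u => ?_⟩
    have e1 : φ k v1 = v1 := pow_inj hV hXp (by
      have := nm_comm φ (hN k) (v1 * v2)
      rw [hk, map_mul, hv2, mul_one, nm_of_fix φ hv1, map_pow] at this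
      exact this)
    have e2 : φ k v2 = v2 := by rw [map_mul, e1] at hk; exact mul_left_cancel hk
    refine pow_inj hV hXp ?_
    have a1 := h1 k trivial e1 _ (nm_mem φ X u)
    have a2 := h2 k trivial e2 (u ^ Nat.card X / nm φ X u) (by
      rw [MonoidHom.mem_ker, map_div, map_pow, nm_of_fix φ (nm_mem φ X u), div_self'])
    rw [map_div, a1, div_left_inj, map_pow] at a2
    exact a2
  push Not at h1
  by_cases h2 : ∃ e : K, e ≠ 1 ∧ ∃ c, c ≠ 1 ∧ φ e c = c
  swap
  · push Not at h2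
    by_cases hV1 : ∃ v : V, v ≠ 1
    · obtain ⟨v, hv⟩ := hV1
      exact ⟨v, fun k hk => by_contra fun h => h2 k h v hv hk⟩
    · push Not at hV1
      exact ⟨1, fun k _ => faith k fun v => by rw [hV1 v, map_one]⟩
  obtain ⟨e, he1, hep, c, hc1, hec⟩ : ∃ e : K, e ≠ 1 ∧ e ^ p = 1 ∧ ∃ c, c ≠ 1 ∧ φ e c = c := by
    obtain ⟨e, he1, c, hc1, hec⟩ := h2
    obtain ⟨k, hk⟩ := IsPGroup.iff_orderOf.1 hK e
    have hk0 : k ≠ 0 := fun h => he1 (by rw [h, pow_zero, orderOf_eq_one_iff] at hk; exact hk)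
    obtain ⟨j, rfl⟩ := Nat.exists_eq_succ_of_ne_zero hk0
    refine ⟨e ^ p ^ j, pow_ne_one_of_lt_orderOf (pow_pos hp.out.pos j).ne' (by
      rw [hk]; exact Nat.pow_lt_pow_right hp.out.one_lt j.lt_succ_self), by
      rw [← pow_mul, ← pow_succ, ← hk, pow_orderOf_eq_one], c, hc1, ?_⟩
    exact ap_pow φ hec _
  haveI : Nontrivial V := ⟨⟨c, 1, hc1⟩⟩
  -- the commutator map with `e`
  let δ : K →* Subgroup.center K :=
    { toFun := fun k => ⟨⁅k, e⁆, Subgroup.mem_center_iff.2 fun z => hc k e z⟩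
      map_one' := Subtype.ext (by simp)
      map_mul' := fun a b => Subtype.ext (by
        have : ⁅a * b, e⁆ = a * ⁅b, e⁆ * a⁻¹ * ⁅a, e⁆ := by
          simp only [commutatorElement_def]; group
        change ⁅a * b, e⁆ = ⁅a, e⁆ * ⁅b, e⁆
        rw [this, hc b e a, mul_inv_cancel_right, hc a e]) }
  have hδ : ∀ k, (δ k : K) = k * e * k⁻¹ * e⁻¹ := fun k => rfl
  have hδp : ∀ k, δ k ^ p = 1 := fun k => Subtype.ext (by
    have h3 : k * e * k⁻¹ = δ k * e := by rw [hδ]; group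
    have h4 : (k * e * k⁻¹) ^ p = 1 := by rw [conj_pow, hep]; group
    rw [h3, Commute.mul_pow (Subgroup.mem_center_iff.1 (δ k).2 e).symm, hep, mul_one] at h4
    exact h4)
  haveI : IsCyclic (Subgroup.center K) :=
    H18.isCyclic_of_fpf_hom (φ.comp (Subgroup.center K).subtype) (fun a ha w hw => by
      by_contra hw1
      exact h1 a (fun h => ha (Subtype.ext h)) (Subgroup.mem_center_iff.1 a.2) w hw1 hw) hp2
      (hK.to_subgroup _)
  obtain ⟨t, ht⟩ : ∃ t, δ t ≠ 1 := by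
    by_contra! h
    refine h1 e he1 (fun y => ?_) c hc1 hec
    have := congrArg Subtype.val (h y)
    rw [hδ] at this
    calc y * e = (y * e * y⁻¹ * e⁻¹) * (e * y) := by group
      _ = e * y := by rw [this]; simp
  have hgen : ∀ k, ∃ i : ℕ, δ k = δ t ^ i := fun k => by
    classical
    letI := Fintype.ofFinite (Subgroup.center K)
    have ho : orderOf (δ t) = p := orderOf_eq_prime (hδp t) ht
    have hsub : (Finset.range p).image (δ t ^ ·) ⊆ Finset.univ.filter (· ^ p = 1) := fun x hx => by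
      obtain ⟨i, -, rfl⟩ := Finset.mem_image.1 hx
      rw [Finset.mem_filter, ← map_pow]
      exact ⟨Finset.mem_univ _, hδp _⟩
    have hcard : (Finset.univ.filter fun x : Subgroup.center K => x ^ p = 1).card ≤
        ((Finset.range p).image (δ t ^ ·)).card := by
      rw [Finset.card_image_of_injOn (by
        simpa [ho] using (pow_injOn_Iio_orderOf (x := δ t))), Finset.card_range]
      exact IsCyclic.card_pow_eq_one_le hp.out.pos
    have := Finset.eq_of_subset_of_card_le hsub hcard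
    have hk : δ k ∈ (Finset.range p).image (δ t ^ ·) := by rw [this]; simp [hδp]
    obtain ⟨i, -, hi⟩ := Finset.mem_image.1 hk
    exact ⟨i, hi.symm⟩
  set X := Subgroup.zpowers e
  have hXp : IsPGroup p X := hK.to_subgroup X
  have hfx : ∀ v, φ e v = v → v ∈ Fx φ X := fun v hv x hx => by
    obtain ⟨n, rfl⟩ := mem_powers_iff_mem_zpowers.2 hx
    exact ap_pow φ hv n
  have hcm : ∀ m, δ m = 1 → m * e * m⁻¹ = e := fun m hm => by
    have := congrArg Subtype.val hm
    rw [hδ] at this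
    exact mul_inv_eq_one.1 this
  have hN : ∀ m, δ m = 1 → m ∈ Subgroup.normalizer (X : Set K) := fun m hm =>
    Subgroup.mem_normalizer_fintype fun x hx => by
      obtain ⟨n, rfl⟩ := hx
      refine ⟨n, ?_⟩
      simp only
      rw [← conj_zpow, hcm m hm]
  have kill : ∀ m, δ m ≠ 1 → ∀ w ∈ Fx φ X, nm φ X (φ m w) = 1 := fun m hm w hw => by
    by_contra hne
    have h3 : m * e * m⁻¹ = δ m * e := by rw [hδ]; group
    have f1 : φ (m * e * m⁻¹) (nm φ X (φ m w)) = nm φ X (φ m w) := nm_fix φ (fun x hx => by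
      obtain ⟨n, rfl⟩ := hx
      rw [h3]
      exact (Commute.mul_left (Subgroup.mem_center_iff.1 (δ m).2 e).symm (Commute.refl e)).zpow_right n)
      (by rw [ap_mul, ap_inv, ap_mul, hw e (Subgroup.mem_zpowers e)])
    rw [h3, ap_mul, nm_mem φ X _ e (Subgroup.mem_zpowers e)] at f1
    exact h1 _ (fun h => hm (Subtype.ext h)) (Subgroup.mem_center_iff.1 (δ m).2) _ hne f1
  obtain ⟨v, hv, hreg⟩ := reg_sub (ih (Fx φ X) fun h => he1 (faith e fun v =>
      (h.symm ▸ Subgroup.mem_top v : v ∈ Fx φ X) e (Subgroup.mem_zpowers e))) φ hK hc δ.ker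
      fun a ha x hx => Fx_inv φ (hN a ha) hx
  have hcen : ∀ z : Subgroup.center K, φ z c = c → z = 1 := fun z hz => by
    by_contra h
    exact h1 z (fun h' => h (Subtype.ext h')) (Subgroup.mem_center_iff.1 z.2) c hc1 hz
  have hcX := hfx c hec
  have hv1 : v ^ Nat.card X ≠ 1 := fun h => by
    have hv0 : v = 1 := pow_inj hV hXp (by rw [h, one_pow])
    refine ht (hcen _ (hreg (δ t) ?_ (by rw [hv0, map_one]) c hcX))
    rw [MonoidHom.mem_ker]
    refine Subtype.ext ?_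
    rw [hδ, ← Subgroup.mem_center_iff.1 (δ t).2 e]; simp
  refine ⟨v * φ t v, fun k hk => ?_⟩
  have n1 := congrArg (nm φ X) hk
  rw [map_mul, map_mul, map_mul, nm_of_fix φ hv, kill t ht v hv, mul_one, ← ap_mul] at n1
  by_cases hk1 : δ k = 1
  · rw [kill (k * t) (by rwa [map_mul, hk1, one_mul]) v hv, mul_one, ← nm_comm φ (hN k hk1),
      nm_of_fix φ hv, map_pow] at n1
    have e1 : φ k v = v := pow_inj hV hXp n1
    have e2 : φ (t⁻¹ * k * t) v = v := by
      rw [map_mul, e1] at hk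
      rw [ap_mul, ap_mul, mul_left_cancel hk, ap_inv]
    have a1 := hreg k hk1 e1
    have hcm2 : ∀ m, (∀ w ∈ Fx φ X, φ (m⁻¹ * k * m) w = w) → Commute k m := fun m hm => by
      have := hcen ⟨⁅k⁻¹, m⁻¹⁆, Subgroup.mem_center_iff.2 fun z => hc _ _ z⟩ (by
        have : ⁅k⁻¹, m⁻¹⁆ = k⁻¹ * (m⁻¹ * k * m) := by simp only [commutatorElement_def]; group
        change φ ⁅k⁻¹, m⁻¹⁆ c = c
        rw [this, ap_mul, hm c hcX]
        conv_lhs => rw [← a1 c hcX]
        rw [ap_inv])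
      exact Commute.inv_inv_iff.1 (commutatorElement_eq_one_iff_commute.1 (congrArg Subtype.val this))
    have ct : Commute k t := hcm2 t (hreg _ (by
      rw [MonoidHom.mem_ker, map_mul, map_mul, hk1, map_inv]; simp) e2)
    have call : ∀ m, m * k = k * m := fun m => by
      obtain ⟨i, hi⟩ := hgen m
      have hd : δ (m * (t ^ i)⁻¹) = 1 := by rw [map_mul, map_inv, map_pow, hi, mul_inv_cancel]
      have c2 := hcm2 (m * (t ^ i)⁻¹) fun w hw => by
        rw [ap_mul, ap_mul, a1 _ (Fx_inv φ (hN _ hd) hw), ap_inv]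
      have : m = (m * (t ^ i)⁻¹) * t ^ i := by group
      rw [this]
      exact (c2.mul_right (ct.pow_right i)).symm
    exact congrArg Subtype.val (hcen ⟨k, Subgroup.mem_center_iff.2 call⟩ (a1 c hcX))
  · exfalso
    rw [kill k hk1 v hv, one_mul] at n1
    have d1 : δ (k * t) = 1 := by_contra fun h => hv1 (by rw [← n1, kill _ h v hv])
    have hk2 : φ (t⁻¹ * k) v * φ (t⁻¹ * k * t) v = φ t⁻¹ v * v := by
      have := congrArg (φ t⁻¹) hk
      rwa [map_mul, map_mul, map_mul, ap_inv, ← ap_mul, ← ap_mul, ← ap_mul] at this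
    have n2 := congrArg (nm φ X) hk2
    have dk : δ (t⁻¹ * k * t) = δ k := by
      refine Subtype.ext ?_
      rw [map_mul, map_mul, map_inv]
      simp only [Subgroup.coe_mul, Subgroup.coe_inv]
      rw [Subgroup.mem_center_iff.1 (δ k).2]; simp
    rw [map_mul (nm φ X), map_mul (nm φ X), nm_of_fix φ hv, kill t⁻¹ (by simpa using ht) v hv, one_mul,
      kill (t⁻¹ * k * t) (by rwa [dk]) v hv, mul_one] at n2
    have d2 : δ (t⁻¹ * k) = 1 := by_contra fun h => hv1 (by rw [← n2, kill _ h v hv])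
    rw [map_mul, map_inv, inv_mul_eq_one] at d2
    rw [map_mul, ← d2, ← sq] at d1
    have := Nat.Coprime.eq_one_of_dvd ((Nat.coprime_primes hp.out Nat.prime_two).2 hp2)
      (orderOf_eq_prime (hδp t) ht ▸ orderOf_dvd_of_pow_eq_one d1)
    exact hp.out.one_lt.ne' this

theorem reg {p : ℕ} [hp : Fact p.Prime] (hp2 : p ≠ 2) (n : ℕ) : ∀ (V : Type u) [CommGroup V]
    [Finite V], Nat.card V = n → ¬ p ∣ Nat.card V → Reg p V := by
  induction n using Nat.strong_induction_on with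
  | _ n ih =>
  intro V _ _ hn hV K _ _ φ hK hc
  obtain ⟨v, hv⟩ := reg_step hp2 hV (fun W hW => ih _ (hn ▸ card_lt hW) W rfl (not_dvd_sub hV W))
    φ.range.subtype Subtype.val_injective (hK.of_surjective _ φ.rangeRestrict_surjective)
    (fun x y z => by
      obtain ⟨x, rfl⟩ := φ.rangeRestrict_surjective x
      obtain ⟨y, rfl⟩ := φ.rangeRestrict_surjective y
      obtain ⟨z, rfl⟩ := φ.rangeRestrict_surjective z
      rw [← map_commutatorElement, ← map_mul, ← map_mul, hc])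
  exact ⟨v, fun k hk => congrArg Subtype.val (hv (φ.rangeRestrict k) hk)⟩

/-- the statement for one module: an element of a normal subgroup acting as a p-group, if it
moves some vector, has a vector moved by all its conjugates -/
def Mv (p : ℕ) (V : Type u) [CommGroup V] : Prop :=
  ∀ (M : Type u) [Group M] [Finite M] (φ : M →* MulAut V) (L : Subgroup M), L.Normal →
    IsPGroup p (L.map φ) → ∀ a ∈ L, φ a ≠ 1 → ∃ v, ∀ m, φ (m * a * m⁻¹) v ≠ v

theorem mv_sub {p : ℕ} {V : Type u} [CommGroup V] {W : Subgroup V} (h : Mv p W)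
    {M : Type u} [Group M] [Finite M] (φ : M →* MulAut V) {L : Subgroup M} (hL : L.Normal)
    (hp : IsPGroup p L) (H : Subgroup M) (hW : ∀ a ∈ H, ∀ x ∈ W, φ a x ∈ W) {a : M} (haL : a ∈ L)
    (haH : a ∈ H) (ha : ∃ w ∈ W, φ a w ≠ w) : ∃ v ∈ W, ∀ m ∈ H, φ (m * a * m⁻¹) v ≠ v := by
  obtain ⟨v, hv⟩ := h H (H1.restrictAut (φ.comp H.subtype) W fun a => hW a a.2) (L.subgroupOf H)
    (hL.subgroupOf H) ((hp.comap_subtype (K := H)).map _) ⟨a, haH⟩ haL (fun e => by
      obtain ⟨w, hw, hne⟩ := ha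
      have := congrArg Subtype.val (DFunLike.congr_fun e (⟨w, hw⟩ : W))
      exact hne this)
  exact ⟨v, v.2, fun m hm e => hv ⟨m, hm⟩ (Subtype.ext e)⟩

theorem cl2_of_symp {p : ℕ} [Fact p.Prime] (hp2 : p ≠ 2) {K : Type*} [Group K] [Finite K]
    (hK : IsPGroup p K)
    (hs : ∀ A : Subgroup K, A.Characteristic → IsMulCommutative A → IsCyclic A) : Cl2 K := by
  rcases subsingleton_or_nontrivial K with h | h
  · exact fun _ _ _ => Subsingleton.elim _ _
  obtain ⟨E, -, hW, -, htop, hR⟩ := H28.Hall.hall_core hK hs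
  have hR := hR.resolve_right fun h => hp2 h.1
  have hcen : Subgroup.centralizer (E : Set K) ≤ Subgroup.center K := fun r hr => by
    have : (⊤ : Subgroup K) ≤ Subgroup.centralizer {r} := by
      rw [← htop]
      refine sup_le (fun x hx => ?_) fun x hx => ?_
      · rw [Subgroup.mem_centralizer_singleton_iff]; exact hr x hx
      · rw [Subgroup.mem_centralizer_singleton_iff]
        letI := hR.commGroup
        exact congrArg Subtype.val (mul_comm (⟨x, hx⟩ : Subgroup.centralizer (E : Set K)) ⟨r, hr⟩)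
    exact Subgroup.mem_center_iff.2 fun g => Subgroup.mem_centralizer_singleton_iff.1 (this trivial)
  have h2 : (⊤ : Subgroup K) ≤ Subgroup.upperCentralSeries K 2 := by
    rw [← htop]
    refine sup_le (fun x hx => ?_) fun x hx => Subgroup.upperCentralSeries_mono K one_le_two (by
      rw [Subgroup.upperCentralSeries_one]; exact hcen hx)
    rw [Subgroup.mem_upperCentralSeries_succ_iff]
    intro y
    rw [Subgroup.upperCentralSeries_one]
    exact ((H28.Hall.mem_W1.1 (hW hx)).1 y).1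
  intro x y z
  have := Subgroup.mem_upperCentralSeries_succ_iff.1 (h2 (Subgroup.mem_top x)) y
  rw [Subgroup.upperCentralSeries_one] at this
  exact Subgroup.mem_center_iff.1 this z

theorem mv_step {p : ℕ} [hp : Fact p.Prime] (hp2 : p ≠ 2) {V : Type u} [CommGroup V] [Finite V]
    (hV : ¬ p ∣ Nat.card V) (ih : ∀ W : Subgroup V, W ≠ ⊤ → Mv p W)
    {M : Type u} [Group M] [Finite M] (φ : M →* MulAut V) (hφ : Function.Injective φ)
    {a : M} (ha : a ≠ 1) (hK : IsPGroup p (Subgroup.normalClosure {a})) :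
    ∃ v, ∀ m, φ (m * a * m⁻¹) v ≠ v := by
  classical
  have faith : ∀ k : M, (∀ v, φ k v = v) → k = 1 := fun k h =>
    hφ (by rw [map_one]; ext v; exact h v)
  set K := Subgroup.normalClosure ({a} : Set M) with hKdef
  have hKn : K.Normal := Subgroup.normalClosure_normal
  have haK : a ∈ K := Subgroup.subset_normalClosure rfl
  have hcj : ∀ m, m * a * m⁻¹ ∈ K := fun m => hKn.conj_mem a haK m
  have hKN : ∀ m, m ∈ Subgroup.normalizer (K : Set M) := fun m => by
    rw [Subgroup.normalizer_eq_top]; trivial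
  have gen : ∀ Y : Subgroup M, (∀ m, m * a * m⁻¹ ∈ Y) → K ≤ Y := fun Y hY =>
    (Subgroup.closure_le Y).2 fun x hx => by
      obtain ⟨b, rfl, c, hc⟩ := Group.mem_conjugatesOfSet_iff.1 hx
      have := hY c
      rwa [hc.eq, mul_inv_cancel_right] at this
  have fixK : ∀ v, (∀ m, φ (m * a * m⁻¹) v = v) → v ∈ Fx φ K := fun v hv x hx =>
    gen ((MulAction.stabilizer (MulAut V) v).comap φ) hv hx
  by_cases h0 : (nm φ K).ker = ⊤
  swap
  · have hinv : ∀ m, ∀ x ∈ (nm φ K).ker, φ m x ∈ (nm φ K).ker := fun m x hx => by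
      rw [MonoidHom.mem_ker] at hx ⊢
      rw [← nm_comm φ (hKN m), hx, map_one]
    obtain ⟨v, -, hv⟩ := mv_sub (ih _ h0) φ hKn hK ⊤ (fun m _ => hinv m) haK trivial (by
      by_contra! h
      have h1 : ∀ w ∈ (nm φ K).ker, w = 1 := fun w hw => pow_inj hV hK (by
        rw [← nm_of_fix φ (fixK w fun m => by
          rw [ap_mul, ap_mul, h _ (hinv _ _ hw), ap_inv']), one_pow]
        exact hw)
      refine ha (faith a fun v => div_eq_one.1 (h1 _ ?_))
      rw [MonoidHom.mem_ker, map_div, ← nm_comm φ (hKN a), nm_mem φ K v a haK, div_self'])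
    exact ⟨v, fun m => hv m trivial⟩
  have fx1 : ∀ v ∈ Fx φ K, v = 1 := fun v hv => pow_inj hV hK (by
    rw [← nm_of_fix φ hv, one_pow]
    exact (h0.symm ▸ Subgroup.mem_top v : v ∈ (nm φ K).ker))
  by_cases hs : ∀ A : Subgroup K, A.Characteristic → IsMulCommutative A → IsCyclic A
  · obtain ⟨v, hv⟩ := reg hp2 _ V rfl hV K (φ.comp K.subtype) hK (cl2_of_symp hp2 hK hs)
    refine ⟨v, fun m e => ha ?_⟩
    have := hφ ((hv ⟨_, hcj m⟩ e).trans (map_one φ).symm)
    simpa using this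
  push Not at hs
  obtain ⟨A, hAc, hAcomm, hAn⟩ := hs
  set E := A.map K.subtype
  have hEn : E.Normal := ConjAct.normal_of_characteristic_of_normal
  have hEK : E ≤ K := Subgroup.map_subtype_le A
  have hEc : ∀ x ∈ E, ∀ y ∈ E, x * y = y * x := by
    rintro _ ⟨x, hx, rfl⟩ _ ⟨y, hy, rfl⟩
    exact congrArg (fun z : A => ((z : K) : M)) (hAcomm.is_comm.comm ⟨x, hx⟩ ⟨y, hy⟩)
  obtain ⟨v0, hv0⟩ : ∃ v : V, v ≠ 1 := by
    by_contra! h
    exact ha (faith a fun v => by rw [h v, map_one])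
  haveI : Nontrivial V := ⟨⟨v0, 1, hv0⟩⟩
  obtain ⟨X, ⟨hXE, c, hc1, hc⟩, hmax⟩ := H2.exists_maximal_subgroup
    (fun X : Subgroup M => X ≤ E ∧ ∃ c, c ≠ 1 ∧ c ∈ Fx φ X)
    ⟨⊥, bot_le, v0, hv0, fun x hx => by rw [Subgroup.mem_bot.1 hx, map_one]; rfl⟩
  have hXp : IsPGroup p X := hK.to_le (hXE.trans hEK)
  have hmx : ∀ y ∈ E, ∀ u ∈ Fx φ X, u ≠ 1 → φ y u = u → y ∈ X := fun y hy u hu hu1 e => by
    have := hmax (X ⊔ Subgroup.zpowers y) ⟨sup_le hXE (Subgroup.zpowers_le.2 hy), u, hu1,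
      fun x hx => (sup_le hu (Subgroup.zpowers_le.2 e) :
        X ⊔ Subgroup.zpowers y ≤ (MulAction.stabilizer (MulAut V) u).comap φ) hx⟩ le_sup_left
    exact this ▸ Subgroup.mem_sup_right (Subgroup.mem_zpowers y)
  have hFne : Fx φ X ≠ ⊤ := fun h => hAn (by
    refine H18.isCyclic_of_fpf_hom (φ.comp (K.subtype.comp A.subtype)) (fun y hy w hw => ?_) hp2
      (hK.to_subgroup A)
    by_contra hw1
    have hm : ∀ v, v ∈ Fx φ X := fun v => h.symm ▸ Subgroup.mem_top v
    have := hmx _ ⟨y, y.2, rfl⟩ w (hm w) hw1 hw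
    exact hy (Subtype.ext (Subtype.ext (faith _ fun v => hm v _ this))))
  set M1 := Subgroup.normalizer (X : Set M)
  have kill : ∀ m, m ∉ M1 → ∀ w ∈ Fx φ X, nm φ X (φ m w) = 1 := fun m hm w hw => by
    by_contra hne
    refine hm (Subgroup.mem_normalizer_fintype fun x hx => ?_)
    have hy := hEn.conj_mem x (hXE hx) m
    exact hmx _ hy _ (nm_mem φ X _) hne (nm_fix φ (fun z hz => hEc _ hy _ (hXE hz))
      (by rw [ap_mul, ap_inv, ap_mul, hw x hx]))
  have hcn : c ^ Nat.card X ≠ 1 := fun h => hc1 (pow_inj hV hXp (by rw [h, one_pow]))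
  by_cases hA : K ⊔ M1 = ⊤ ∧ ¬ K ≤ M1
  · refine ⟨c, fun m e => ?_⟩
    have hb : m * a * m⁻¹ ∈ M1 := by_contra fun h => hcn (by
      rw [← nm_of_fix φ hc, ← kill _ h c hc, e])
    obtain ⟨Y, hY, hle⟩ := (eq_top_or_exists_le_coatom (M1.subgroupOf K)).resolve_left
      fun h => hA.2 (Subgroup.subgroupOf_eq_top.1 h)
    haveI := hK.isNilpotent
    have hYn := H2.normal_of_isCoatom_of_isNilpotent hY
    refine hY.1 (eq_top_iff.2 fun x _ => ?_)
    have : K ≤ Y.map K.subtype := gen _ fun g => by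
      obtain ⟨k, hk, m1, hm1, hkm⟩ := Subgroup.mem_sup_of_normal_left.1
        (hA.1.symm ▸ Subgroup.mem_top (g * m⁻¹) : g * m⁻¹ ∈ K ⊔ M1)
      have h1 : (⟨_, hKn.conj_mem _ (hcj m) m1⟩ : K) ∈ Y :=
        hle (mul_mem (mul_mem hm1 hb) (inv_mem hm1))
      refine ⟨_, hYn.conj_mem _ h1 ⟨k, hk⟩, ?_⟩
      have : g = k * m1 * m := by rw [hkm]; group
      simp only [this, Subgroup.coe_subtype, Subgroup.coe_mul, Subgroup.coe_inv]
      group
    obtain ⟨y, hy, e⟩ := this x.2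
    rwa [← Subtype.ext e]
  set H := K ⊔ M1
  letI := Fintype.ofFinite K
  let T : V →* V := ∏ k : K, ((φ k).toMonoidHom.comp (nm φ X)).comp (φ (k : M)⁻¹).toMonoidHom
  have hT : ∀ v, T v = ∏ k : K, φ k (nm φ X (φ (k : M)⁻¹ v)) := fun v => by
    simp only [T, MonoidHom.finsetProd_apply]; rfl
  have Tc : ∀ h ∈ H, ∀ v, φ h (T v) = T (φ h v) := by
    let S : Subgroup M :=
      { carrier := {h | ∀ v, φ h (T v) = T (φ h v)}
        mul_mem' := fun {x y} hx hy v => by rw [ap_mul, ap_mul, hy, hx]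
        one_mem' := fun v => by simp
        inv_mem' := fun {x} hx v => by
          have := hx (φ x⁻¹ v)
          rw [ap_inv'] at this
          rw [← this, ap_inv] }
    refine (sup_le (fun h hh v => ?_) (fun h hh v => ?_) : H ≤ S)
    · rw [hT, hT, map_prod]
      refine Fintype.prod_equiv (Equiv.mulLeft (⟨h, hh⟩ : K)) _ _ fun k => ?_
      rw [← ap_mul, ← ap_mul]
      simp
    · rw [hT, hT, map_prod]
      refine Fintype.prod_equiv (MulAut.conjNormal h).toEquiv _ _ fun k => ?_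
      change _ = φ (h * k * h⁻¹) (nm φ X (φ (h * k * h⁻¹)⁻¹ (φ h v)))
      rw [← ap_mul φ _ h, ap_mul φ _ h⁻¹, nm_comm φ (inv_mem hh), ← ap_mul φ h⁻¹, ← ap_mul]
      congr 4
      group
  set n := Nat.card X * Nat.card (M1.subgroupOf K)
  have ninj : ∀ x y : V, x ^ n = y ^ n → x = y := fun x y h =>
    pow_inj hV hXp (pow_inj hV (hK.to_subgroup (M1.subgroupOf K)) (by rwa [← pow_mul, ← pow_mul]))
  have TF : ∀ w ∈ Fx φ X, T w = w ^ n := fun w hw => by
    rw [hT, Finset.prod_congr rfl (g := fun k : K => if k ∈ M1.subgroupOf K then w ^ Nat.card X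
      else 1) fun k _ => ?_, Finset.prod_ite, Finset.prod_const_one, mul_one, Finset.prod_const,
      ← pow_mul, ← Fintype.card_subtype, ← Nat.card_eq_fintype_card]
    split_ifs with h
    · rw [nm_of_fix φ (Fx_inv φ (inv_mem (Subgroup.mem_subgroupOf.1 h)) hw), map_pow, ap_inv']
    · rw [kill _ (fun h' => h (Subgroup.mem_subgroupOf.2 (by simpa using h'))) w hw, map_one]
  have T0 : ∀ t, t ∉ H → ∀ w ∈ Fx φ X, T (φ t w) = 1 := fun t ht w hw => by
    rw [hT]
    refine Finset.prod_eq_one fun k _ => ?_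
    rw [← ap_mul, kill _ (fun h => ht ?_) w hw, map_one]
    simpa using mul_mem (Subgroup.mem_sup_left k.2 : (k : M) ∈ H) (Subgroup.mem_sup_right h)
  have TW : ∀ u ∈ T.range, T u = u ^ n := by
    rintro _ ⟨y, rfl⟩
    conv_lhs => rw [hT y, map_prod]
    rw [hT y, ← Finset.prod_pow]
    refine Finset.prod_congr rfl fun k _ => ?_
    rw [← Tc _ (Subgroup.mem_sup_left k.2), TF _ (nm_mem φ X _), map_pow]
  have TW0 : ∀ t, t ∉ H → ∀ u ∈ T.range, T (φ t u) = 1 := by
    rintro t ht _ ⟨y, rfl⟩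
    rw [hT y, map_prod, map_prod]
    refine Finset.prod_eq_one fun k _ => ?_
    rw [← ap_mul]
    exact T0 _ (fun h => ht ((mul_mem_cancel_right (Subgroup.mem_sup_left k.2)).1 h)) _
      (nm_mem φ X _)
  have hcn' : c ^ n ≠ 1 := fun h => hc1 (ninj _ _ (by rw [h, one_pow]))
  have hW : T.range ≠ ⊤ := fun h => by
    have hm : ∀ v, v ∈ T.range := fun v => h.symm ▸ Subgroup.mem_top v
    by_cases hH : H = ⊤
    · have hKM : K ≤ M1 := by_contra fun h' => hA ⟨hH, h'⟩
      refine hFne (eq_top_iff.2 fun v _ => ?_)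
      obtain ⟨y, rfl⟩ := hm v
      rw [hT]
      exact prod_mem fun k _ => Fx_inv φ (hKM k.2) (nm_mem φ X _)
    · obtain ⟨t, ht⟩ : ∃ t, t ∉ H := by
        by_contra! h'
        exact hH (eq_top_iff.2 fun t _ => h' t)
      have := TW _ (hm (φ t c))
      rw [T0 t ht c hc, ← map_pow] at this
      exact hcn' ((map_eq_one_iff _ (φ t).injective).1 this.symm)
  obtain ⟨g, hg⟩ : ∃ g, φ (g * a * g⁻¹) (c ^ n) ≠ c ^ n := by
    by_contra! h
    exact hcn' (fx1 _ (fixK _ h))
  obtain ⟨w, hw, hmv⟩ := mv_sub (ih _ hW) φ hKn hK H (by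
    rintro h hh _ ⟨y, rfl⟩
    exact ⟨_, (Tc h hh y).symm⟩) (hcj g) (Subgroup.mem_sup_left (hcj g)) ⟨_, ⟨c, TF c hc⟩, hg⟩
  letI := Fintype.ofFinite (M ⧸ H)
  refine ⟨∏ q : M ⧸ H, φ q.out w, fun m e => ?_⟩
  set q0 : M ⧸ H := ((m * g⁻¹ : M) : M ⧸ H)
  have hh : q0.out⁻¹ * (m * g⁻¹) ∈ H := QuotientGroup.eq.1 (QuotientGroup.out_eq' q0)
  refine hmv _ hh (ninj _ _ ?_)
  have hb : q0.out⁻¹ * (m * g⁻¹) * (g * a * g⁻¹) * (q0.out⁻¹ * (m * g⁻¹))⁻¹ =
      q0.out⁻¹ * (m * a * m⁻¹) * q0.out⁻¹⁻¹ := by group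
  have hv' : T (φ q0.out⁻¹ (∏ q : M ⧸ H, φ q.out w)) = w ^ n := by
    rw [map_prod, map_prod, Finset.prod_eq_single q0 (fun q _ hq => ?_) (by simp), ap_inv, TW w hw]
    rw [← ap_mul]
    refine TW0 _ (fun h => hq ?_) w hw
    rw [← QuotientGroup.out_eq' q0, ← QuotientGroup.out_eq' q]
    exact (QuotientGroup.eq.2 h).symm
  rw [hb, ← map_pow, ← hv', Tc _ (Subgroup.mem_sup_left (hKn.conj_mem _ (hcj m) _)), ap_mul,
    ap_inv, ap_mul, e]

theorem mv {p : ℕ} [hp : Fact p.Prime] (hp2 : p ≠ 2) (n : ℕ) : ∀ (V : Type u) [CommGroup V]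
    [Finite V], Nat.card V = n → ¬ p ∣ Nat.card V → Mv p V := by
  induction n using Nat.strong_induction_on with
  | _ n ih =>
  intro V _ _ hn hV M _ _ φ L hL hLp a haL ha
  have hn' := hL.map _ φ.rangeRestrict_surjective
  obtain ⟨v, hv⟩ := mv_step hp2 hV (fun W hW => ih _ (hn ▸ card_lt hW) W rfl (not_dvd_sub hV W))
    φ.range.subtype Subtype.val_injective (a := φ.rangeRestrict a)
    (fun h => ha (congrArg Subtype.val h))
    ((hLp.comap_subtype (K := φ.range)).to_le ((Subgroup.normalClosure_le_normal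
      (N := L.map φ.rangeRestrict) (Set.singleton_subset_iff.2 ⟨a, haL, rfl⟩)).trans (by
        rintro _ ⟨x, hx, rfl⟩
        exact ⟨x, hx, rfl⟩)))
  refine ⟨v, fun m e => hv (φ.rangeRestrict m) ?_⟩
  rw [← map_inv, ← map_mul, ← map_mul]
  exact e

end H14.RO
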