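import Cfsg.Agent.H14.CBAsm
import Cfsg.Agent.H28.TESpec
import Cfsg.Agent.H51.TESpec

/-! Tower TE (S1308): the bridge from part 1 to part 2. -/

set_option autoImplicit false

namespace H14.Br

open Cfsg Subgroup MulAction H14 H98 H1.Gold H31.S2 H14.GC H14.FE H14.NF H28.TE
open scoped commutatorElement

universe u

variable {G : Type u} [Group G] [Finite G] {Q E : Subgroup G}

theorem base (Q E : Subgroup G) : Pt Q E Q E := H51.TE.pt_base Q E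

/-- Every `OZ R` is a point. -/
theorem oz_pt (hp : PtZ Q E) {R : Subgroup G} (hR : IsSyl 2 R Q) : Pt Q E Q (OZ R) := by
  obtain ⟨-, -, ⟨R₀, h0, e0⟩, -⟩ := hp Q E (base Q E)
  obtain ⟨c, hc, rfl⟩ := h0.exists_cj_eq hR
  have p : Pt Q E Q (cj c E) := ⟨c, (cj_eq_self_of_mem hc).symm, rfl⟩
  have e := ((hp _ _ p).2.2.2 _ hR).2 (cj_mono c (e0 ▸ fun x hx => hx.1))
  exact e ▸ p

theorem bb (hT : TG Q E) (hq : ZQ Q) (hp : PtZ Q E) :
    ∃ B : Subgroup G, B ≤ Q ∧ nor Q ≤ nor B ∧ IsSyl 2 E B := by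
  obtain ⟨-, -, ⟨R, hR, e⟩, h0⟩ := hp Q E (base Q E)
  have hO : nor Q ≤ nor (opp 2 Q) := normalizer_le_normalizer_opp Q
  have hE : E ≤ nor (opp 2 Q) := hT.le.trans (le_normalizer.trans hO)
  refine ⟨E ⊔ opp 2 Q, sup_le hT.le (opp_le Q), fun n hn => mem_normalizer_of_cj_le ?_,
    le_sup_left, CB.el_two hT.el, fun U hU h1 h2 => le_antisymm (fun x hx => ?_) h1⟩
  · rw [cj_sup, cj_eq_self (hO hn)]
    refine sup_le ?_ le_sup_right
    obtain ⟨c, hc, e1⟩ := (hR.cj_of_mem_normalizer hn).exists_cj_eq hR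
    have hER : E ≤ R := e ▸ fun x hx => hx.1
    have p : Pt Q E Q (cj (c * n) E) :=
      ⟨c * n, (cj_eq_self (mul_mem (le_normalizer hc) hn)).symm, rfl⟩
    have e2 : cj (c * n) E = E := by
      rw [((hp _ _ p).2.2.2 R hR).2 (by rw [← cj_cj, ← e1]; exact cj_mono _ (cj_mono _ hER)), ← e]
    have e3 : cj n E = cj c⁻¹ E := by rw [← cj_inv_cj c (cj n E), cj_cj c n, e2]
    rw [e3]
    rintro _ ⟨x, hx, rfl⟩
    have : (MulAut.conj c⁻¹).toMonoidHom x = ⁅c⁻¹, x⁆ * x := by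
      show c⁻¹ * x * c⁻¹⁻¹ = _
      simp only [commutatorElement_def]; group
    rw [this]
    exact mul_mem (mem_sup_right (hq Q (vx_self Q) R hR x (e ▸ hx) _ (inv_mem hc))) (mem_sup_left hx)
  · have hx' : x ∈ ((E ⊔ opp 2 Q : Subgroup G) : Set G) := h2 hx
    rw [coe_mul_of_left_le_normalizer_right E _ hE] at hx'
    obtain ⟨a, ha, o, ho, rfl⟩ := hx'
    have hoU : o ∈ U := by simpa using mul_mem (inv_mem (h1 ha)) hx
    have hni : NI (opp 2 Q) := ni_of_odd (Nat.coprime_two_right.1 (coprime_card_opp Q))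
    rw [hni.eq_one hU hoU ho]
    simpa using ha

theorem zc (hp : PtZ Q E) : ∀ U ≤ Q, IsPGroup 2 U → E ≤ U → U ≤ cen E := fun U h1 h2 h3 => by
  obtain ⟨R, hR, hU⟩ := exists_isSyl_le h2 h1
  have e := ((hp Q E (base Q E)).2.2.2 R hR).2 (h3.trans hU)
  exact hU.trans (CB.cen_swap (e ▸ fun x hx => hx.2.1))

/-- An involution of `R` is central or has a nontrivial commutator in `OZ R`. -/
def Star (R : Subgroup G) : Prop :=
  ∀ ρ ∈ R, ρ * ρ = 1 → ρ ∈ cen R ∨ ∃ y ∈ R, ⁅ρ, y⁆ ∈ OZ R ∧ ⁅ρ, y⁆ ≠ 1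

theorem star (kp : KPs.{u}) (ar : ARs.{u}) (sq : SQs.{u}) (zcs : ZCs.{u}) {Q₁ T : Subgroup G}
    (ln : LN Q Q E Q₁ T) : ∃ R, IsSyl 2 R Q ∧ Star R := by
  obtain ⟨R, a, -⟩ := ar G _ _ _ _ _ ln ⊥ IsPGroup.of_bot bot_le fun t _ y hy => by
    rw [mem_bot.1 hy, commutatorElement_one_right]; exact one_mem _
  have k := kp G _ _ _ _ _ ln R a
  obtain ⟨e, hz⟩ := zcs G _ _ _ _ _ ln R a
  refine ⟨R, a.syl, fun ρ hρ h2 => ?_⟩
  by_cases h1 : ρ ∈ PP E T R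
  · by_cases h3 : ρ ∈ E
    · exact .inl (e ▸ h3 : ρ ∈ OZ R).2.1
    · exact absurd h2 (sq G _ _ _ _ _ ln ρ (k.tr ρ h1 h3))
  · obtain ⟨y, hy, hyE⟩ := SetLike.exists_of_lt k.lt
    have tr := k.tr y hy hyE
    have e1 : ⁅ρ, y⁆ = (y * y)⁻¹ := by
      rw [commutatorElement_def, hz ρ hρ h1 h2 y hy, mul_inv_rev]
    refine .inr ⟨y, hy.1, ?_, ?_⟩
    · rw [e1, ← e]; exact inv_mem tr.sq
    · rw [e1]; exact inv_ne_one.2 (sq G _ _ _ _ _ ln y tr)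

/-- An involution that centralises one Sylow subgroup centralises each one that it normalises. -/
theorem cen_of_star (z4 : Z4.{u}) (hp : PtZ Q E) {R R' : Subgroup G} (hR : IsSyl 2 R Q) (hR' : IsSyl 2 R' Q)
    (st : Star R') {t : G} (h2 : t * t = 1) (hn : t ∈ nor Q) (hc : R ≤ cen1 t) (hn' : t ∈ nor R') :
    R' ≤ cen1 t := by
  have hz : IsPGroup 2 (zpowers t) := isPGroup_zpowers (k := 1) (by simpa [pow_two] using h2)
  have hcn : t ∈ nor R := centralizer_le_normalizer _ (mem_centralizer_iff.2 fun r hr =>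
    (mem_centralizer_singleton_iff.1 (hc hr)))
  have hQ : Q ⊔ zpowers t ≤ nor Q := sup_le le_normalizer (zpowers_le.2 hn)
  obtain ⟨S, hS, h1⟩ := exists_isSyl_le (H := Q ⊔ zpowers t)
    (hR.isPGroup.to_sup_of_normal_left' hz (zpowers_le.2 hcn)) (sup_le_sup_right hR.le _)
  obtain ⟨S', hS', h1'⟩ := exists_isSyl_le (H := Q ⊔ zpowers t)
    (hR'.isPGroup.to_sup_of_normal_left' hz (zpowers_le.2 hn')) (sup_le_sup_right hR'.le _)
  have e : S ⊓ Q = R := hR.eq_of_le (hS.isPGroup.to_le inf_le_left)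
    (le_inf (le_sup_left.trans h1) hR.le) inf_le_right
  have e' : S' ⊓ Q = R' := hR'.eq_of_le (hS'.isPGroup.to_le inf_le_left)
    (le_inf (le_sup_left.trans h1') hR'.le) inf_le_right
  obtain ⟨c, hcm, ec⟩ := hS.exists_cj_eq hS'
  have eR : cj c R = R' := by rw [← e, cj_inf, ec, cj_eq_self (hQ hcm), e']
  have ht' : c * t * c⁻¹ ∈ S' := ec ▸ conj_mem_cj (h1 (mem_sup_right (mem_zpowers t)))
  have hc' : ∀ r ∈ R', r * (c * t * c⁻¹) = c * t * c⁻¹ * r := by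
    rw [← eR]
    rintro _ ⟨r, hr, rfl⟩
    have := mem_centralizer_singleton_iff.1 (hc hr)
    show c * r * c⁻¹ * (c * t * c⁻¹) = c * t * c⁻¹ * (c * r * c⁻¹)
    calc c * r * c⁻¹ * (c * t * c⁻¹) = c * (r * t) * c⁻¹ := by group
      _ = _ := by rw [this]; group
  have hρQ : t⁻¹ * (c * t * c⁻¹) ∈ Q := by
    have hc2 : c ∈ ((zpowers t ⊔ Q : Subgroup G) : Set G) := by rw [sup_comm]; exact hcm
    rw [coe_mul_of_left_le_normalizer_right _ Q (zpowers_le.2 hn)] at hc2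
    obtain ⟨_, ⟨i, rfl⟩, q, hq, rfl⟩ := hc2
    have : t⁻¹ * (t ^ i * q * t * (t ^ i * q)⁻¹) = t ^ i * ((t⁻¹ * q * t⁻¹⁻¹) * q⁻¹) * (t ^ i)⁻¹ := by group
    show t⁻¹ * (t ^ i * q * t * (t ^ i * q)⁻¹) ∈ Q
    rw [this]
    exact conj_mem_of_mem_normalizer (zpow_mem hn i)
      (mul_mem (conj_mem_of_mem_normalizer (inv_mem hn) hq) (inv_mem hq))
  obtain ⟨s, hs⟩ : ∃ s, s = c * t * c⁻¹ := ⟨_, rfl⟩
  have hs2 : s * s = 1 := by rw [hs]; calc _ = c * (t * t) * c⁻¹ := by group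
    _ = 1 := by rw [h2]; group
  rw [← hs] at ht' hc' hρQ
  obtain ⟨ρ, hρ⟩ : ∃ ρ, ρ = t⁻¹ * s := ⟨_, rfl⟩
  have hρR : ρ ∈ R' := by
    rw [← e', hρ]
    have h9 : t ∈ S' := h1' (mem_sup_right (mem_zpowers t))
    exact ⟨S'.mul_mem (S'.inv_mem h9) ht', hρQ⟩
  have hi : t⁻¹ = t := inv_eq_of_mul_eq_one_right h2
  have et : t = ρ * s := by rw [hρ, mul_assoc, hs2, mul_one, hi]
  have hρ2 : ρ * ρ = 1 := by
    have : t * t = ρ * ρ * (s * s) := by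
      rw [et]
      calc ρ * s * (ρ * s) = ρ * (s * ρ) * s := by group
        _ = _ := by rw [← hc' ρ hρR]; group
    rw [hs2, h2, mul_one] at this
    exact this.symm
  have key : ∀ r ∈ R', r * ρ = ρ * r → r ∈ cen1 t := fun r hr h => mem_centralizer_singleton_iff.2 (by
    rw [et, ← mul_assoc, h, mul_assoc, hc' r hr, mul_assoc])
  rcases st ρ hρR hρ2 with h | ⟨y, hy, h3, h4⟩
  · exact fun r hr => key r hr (mem_centralizer_iff.1 h r hr)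
  · exfalso
    have hO : OZ R' ≤ Q ⊓ cen1 t := fun r hr =>
      ⟨hR'.le hr.1, key r hr.1 (mem_centralizer_iff.1 hr.2.1 ρ hρR).symm⟩
    obtain ⟨R₂, hR₂, h5⟩ := exists_isSyl_le (hR'.isPGroup.to_le (show OZ R' ≤ R' from fun r hr => hr.1)) hO
    have hR₂' : IsSyl 2 R₂ Q := hR.of_card_ge hR₂.isPGroup (hR₂.le.trans inf_le_left)
      (hR₂.card_le hR.isPGroup (le_inf hR.le hc))
    have e5 := ((hp _ _ (oz_pt hp hR')).2.2.2 R₂ hR₂').2 h5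
    have h6 : ⁅ρ, y⁆ ∈ OZ R₂ := e5 ▸ h3
    refine h4 (z4 G Q R₂ t ⁅ρ, y⁆ y hR₂' (hR₂.le.trans inf_le_right) (fun r hr =>
      mem_centralizer_singleton_iff.2 (mem_centralizer_iff.1 h6.2.1 r hr)) (hR'.le hy) ?_
      (mem_centralizer_iff.1 h3.2.1 y hy) h3.2.2)
    have hρi : ρ⁻¹ = ρ := inv_eq_of_mul_eq_one_right hρ2
    have h7 := hc' _ h3.1
    have h8 := hc' y hy
    calc y * t * y⁻¹ = y * ρ * y⁻¹ * (y * s) * y⁻¹ := by rw [et]; group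
      _ = ρ * (ρ⁻¹ * y * ρ * y⁻¹) * s := by rw [h8]; group
      _ = ρ * (⁅ρ, y⁆ * s) := by rw [commutatorElement_def, hρi]; group
      _ = t * ⁅ρ, y⁆ := by rw [h7, et]; group

theorem star_cj {R : Subgroup G} (st : Star R) (c : G) : Star (cj c R) := by
  rintro _ ⟨ρ, hρ, rfl⟩ h2
  have h2' : ρ * ρ = 1 := (MulAut.conj c).injective (by rw [map_mul, map_one]; exact h2)
  have hc : ∀ x ∈ cen R, (MulAut.conj c).toMonoidHom x ∈ cen (cj c R) := fun x hx => by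
    rw [H51.TE.cen_cj]; exact mem_map_of_mem _ hx
  rcases st ρ hρ h2' with h | ⟨y, hy, h3, h4⟩
  · exact .inl (hc _ h)
  · refine .inr ⟨_, mem_map_of_mem _ hy, ?_, ?_⟩
    · rw [← map_commutatorElement]
      exact ⟨mem_map_of_mem _ h3.1, hc _ h3.2.1, by rw [← map_mul, h3.2.2, map_one]⟩
    · rw [← map_commutatorElement]
      exact fun e => h4 ((MulAut.conj c).injective (e.trans (map_one _).symm))

theorem full (kp : KPs.{u}) (ar : ARs.{u}) (zcs : ZCs.{u}) (hT : TG Q E) (hy : HY Q) (hl : L0 Q)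
    (hp : PtZ Q E) {Q₂ E₂ : Subgroup G} (p2 : Pt Q E Q₂ E₂) (ne : Q ≠ Q₂) (hc : E₂ ≤ cen E)
    (hn : ¬ Col Q E Q E Q₂ E₂) : ∃ R, IsSyl 2 R Q ∧ R ≤ cen E₂ := by
  have v2 := (hp _ _ p2).1
  have cn : ∀ {Qa Ea X : Subgroup G}, Pt Q E Qa Ea → X ≤ cen Ea → X ≤ nor Qa := fun {Qa Ea X} p h x hx => by
    obtain ⟨d, hd, h2⟩ := four_exists_inv (H51.TE.pt_four hT p)
    exact H51.TE.pt_cen hT p (H51.TE.pt_le hT p hd) h2
      (mem_centralizer_singleton_iff.2 (mem_centralizer_iff.1 (h hx) d hd).symm)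
  have hE2 : E₂ ≤ Q₂ ⊓ nor Q := le_inf (H51.TE.pt_le hT p2) (cn (base Q E) hc)
  have hU : IsPGroup 2 ↥(E ⊔ E₂) := (CB.el_two hT.el).to_sup_of_normal_left'
    (CB.el_two (H51.TE.pt_el hT p2)) (hc.trans (centralizer_le_normalizer _))
  obtain ⟨T, sT, h1, h2⟩ := inv_syl (Y := Q₂ ⊓ nor Q) hU (sup_le
    (le_normalizer_inf (cn p2 (CB.cen_swap hc)) (le_normalizer_of_le (hT.le.trans le_normalizer)))
    (le_normalizer_of_le hE2))
  have hET : E₂ ≤ T := (le_inf le_sup_right hE2).trans h1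
  have hV : IsPGroup 2 ↥(T ⊔ E) := sT.isPGroup.to_sup_of_normal_left' (CB.el_two hT.el)
    (le_sup_left.trans h2)
  obtain ⟨R, hR, h3, h4⟩ := inv_syl (Y := Q) hV (sup_le (sT.le.trans inf_le_right)
    (hT.le.trans le_normalizer))
  have hER : E ≤ R := (le_inf le_sup_right hT.le).trans h3
  have nb : T ≠ ⊥ := fun e => CB.pt_ne hT p2 (eq_bot_iff.2 (e ▸ hET))
  have hTR : T ≤ nor R := le_sup_left.trans h4
  obtain ⟨f1, f2⟩ := hl _ _ (vx_self Q) v2 ne T sT nb R hR hTR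
  by_cases hf : IsSyl 2 T Q₂
  · exact ⟨R, hR, (f1 hf).trans (centralizer_le hET)⟩
  exfalso
  have ln := f2 hf
  have e1 : R ⊓ cen T = E :=
    (zcs G _ _ _ _ _ ln R ⟨hR, inf_le_left, hTR⟩).1.trans (((hp _ _ (base Q E)).2.2.2 R hR).2 hER).symm
  rw [e1] at ln
  obtain ⟨R₂, a2, -⟩ := ar G _ _ _ _ _ ln.symm ⊥ IsPGroup.of_bot bot_le fun t _ y hy => by
    rw [mem_bot.1 hy, commutatorElement_one_right]; exact one_mem _
  have e2 : T = E₂ := (zcs G _ _ _ _ _ ln.symm R₂ a2).1.trans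
    (((hp _ _ p2).2.2.2 R₂ a2.syl).2 (hET.trans a2.le)).symm
  subst e2
  have k := kp G _ _ _ _ _ ln R ⟨hR, hER, hTR⟩
  obtain ⟨y, hy, hyE⟩ := SetLike.exists_of_lt k.lt
  have tr := k.tr y hy hyE
  exact hn ⟨base Q E, p2, ne, hc, y, ⟨tr.mem, tr.ce⟩, isPGroup_iff_forall.1 hR.isPGroup y hy.1, tr.cm, tr.mv⟩

theorem fu1 (sq : SQs.{u}) (hT : TG Q E) (hc : CL Q E) (h : H51.TE.FL Q E) : Fu1 Q E := by
  obtain ⟨Q₂, T, col, fw⟩ := h
  obtain ⟨P, hP⟩ := exists_isSyl 2 (Q ⊓ CB.Cs T E)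
  have hPE : P ≤ cen E := fun y hy => (hP.le hy).2.1
  have cm : Cm3 T P E := CB.cm3_of_le (hP.le.trans inf_le_right)
  obtain ⟨P', pg, hn, -⟩ := hT.px _ _ _ _ col P hPE hP.isPGroup cm
  have h1 : P' ≤ P := hP.le_of_le_normalizer pg.two (le_inf (pg.le.trans inf_le_left)
    (CB.le_Cs (pg.le.trans inf_le_right) pg.cm)) hn
  have hEP : E ≤ P := pg.lt.le.trans h1
  have hom : ∀ t ∈ T, ∀ a ∈ CB.Cs T E, ∀ b ∈ CB.Cs T E, ⁅t, a * b⁆ = ⁅t, a⁆ * ⁅t, b⁆ := fun t ht a ha b hb => by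
    have e : ⁅t, a * b⁆ = ⁅t, a⁆ * (a * ⁅t, b⁆ * a⁻¹) := by simp only [commutatorElement_def]; group
    rw [e, ← mem_centralizer_iff.1 ha.1 _ (hb.2 t ht), mul_inv_cancel_right]
  have nd : ∀ y ∈ P, y ∉ E → ∀ t ∈ T, t ≠ 1 → ⁅t, y⁆ ≠ 1 := fun y hy hyE t ht h1 e => by
    have cn : ∀ x, t * x = x * t → x ∈ nor Q₂ := fun x hx => H51.TE.pt_cen hT col.p2
      (H51.TE.pt_le hT col.p2 ht) ⟨h1, H51.TE.pt_el hT col.p2 t ht⟩ (mem_centralizer_singleton_iff.2 hx.symm)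
    have hU : E ⊔ zpowers y ≤ P := sup_le hEP (zpowers_le.2 hy)
    refine hyE (hT.exc _ _ _ _ (hT.sym _ _ _ _ col) (E ⊔ zpowers y) (le_inf (hU.trans (hP.le.trans inf_le_left))
      (sup_le (fun r hr => cn r (mem_centralizer_iff.1 (col.comm ht) r hr).symm) (zpowers_le.2
        (cn y (commutatorElement_eq_one_iff_mul_comm.1 e))))) (hP.isPGroup.to_le hU) le_sup_left
      (mem_sup_right (mem_zpowers y)))
  obtain ⟨t0, ht0, h0, -⟩ := four_exists_inv (H51.TE.pt_four hT col.p2)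
  refine ⟨Q, E, Q₂, T, P, col, ⟨hP.isPGroup, le_inf (hP.le.trans inf_le_left) hPE, pg.lt.trans_le h1, cm, nd,
    fun y hy hyE => sq G _ _ _ _ _ (hc _ _ _ _ col) y ⟨(hP.le hy).1, hPE hy, fun t ht => cm t ht y hy, ?_,
      fun hyT => nd y hy hyE t0 ht0 h0 (commutatorElement_eq_one_iff_mul_comm.2
        (mem_centralizer_iff.1 hyT t0 ht0))⟩⟩, fun t ht h1 r hr => ?_⟩
  · by_contra h2
    refine nd _ (mul_mem hy hy) h2 t0 ht0 h0 ?_
    rw [hom t0 ht0 y (hP.le hy).2 y (hP.le hy).2]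
    exact hT.el _ (cm t0 ht0 y hy)
  · obtain ⟨y, hy, ⟨n, hn⟩, h2, rfl⟩ := fw t ht h1 r hr
    have hyC : y ∈ CB.Cs T E := ⟨hy.2, h2⟩
    obtain ⟨m, hm, h3⟩ := hP.exists_cj_le (isPGroup_zpowers hn) (zpowers_le.2 ⟨hy.1, hyC⟩)
    refine ⟨m * y * m⁻¹, h3 (conj_mem_cj (mem_zpowers y)), ?_⟩
    have e0 : ⁅t, m⁆ * ⁅t, m⁻¹⁆ = 1 := by
      rw [← hom t ht m hm.2 _ (inv_mem hm.2), mul_inv_cancel, commutatorElement_one_right]
    rw [hom t ht _ (mul_mem hm.2 hyC) _ (inv_mem hm.2), hom t ht m hm.2 y hyC,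
      H51.TE.El.comm hT.el (hm.2.2 t ht) (h2 t ht), mul_assoc, e0, mul_one]

theorem bridge (z4 : Z4.{u}) (kp : KPs.{u}) (ar : ARs.{u}) (sq : SQs.{u}) (zcs : ZCs.{u})
    (p1 : H28.TE.Part1.{u}) : H51.TE.Part1.{u} := by
  intro G _ _ K _ te
  obtain ⟨E, hT, hO, ⟨Q₁, T, col⟩, hF, hy, hl, hq, hp, hc⟩ := p1 G K te
  refine ⟨E, hT, hO, ⟨Q₁, T, col⟩, ⟨bb hT hq hp, zc hp, fun Q₂ E₂ p2 ne h1 hn x hx t ht P hP hxP htP => ?_⟩,
    fun h => hF (fu1 sq hT hc h)⟩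
  obtain ⟨R, hR, hRc⟩ := full kp ar zcs hT hy hl hp p2 ne h1 hn
  obtain ⟨R₀, h0, st⟩ := star kp ar sq zcs (hc _ _ _ _ col)
  obtain ⟨d, hd, h2⟩ := four_exists_inv hT.four
  have htn : t ∈ nor (cen K) := H51.TE.pt_cen hT (base _ E) (hT.le hd) h2
    (mem_centralizer_singleton_iff.2 (mem_centralizer_iff.1 (h1 ht) d hd).symm)
  obtain ⟨R', hR', h3, h4⟩ := inv_syl (U := P ⊓ nor (cen K)) (Y := cen K) (hP.to_le inf_le_left) inf_le_right
  obtain ⟨c, -, rfl⟩ := h0.exists_cj_eq hR'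
  exact mem_centralizer_singleton_iff.1 (cen_of_star z4 hp hR hR' (star_cj st c) (H51.TE.pt_el hT p2 t ht) htn
    (fun r hr => mem_centralizer_singleton_iff.2 (mem_centralizer_iff.1 (hRc hr) t ht).symm)
    (h4 ⟨htP, htn⟩) (h3 ⟨⟨hxP, le_normalizer hx⟩, hx⟩))

end H14.Br
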