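import Cfsg.Agent.H78.YUDef

/-! STD-SP endgame (row S3129), slot YU-BI: large `2`-subgroups in centralisers of involutions of
the unitary groups. -/

set_option autoImplicit false
set_option linter.unusedSectionVars false

namespace H14.YUBI

open H64.SG (O2 Syl Cz Cs Ns cjs Is2 Inv2 IsO2 fx)
open H67 H67.UA H64.YE Subgroup Matrix
open H67.SP (kk)
open H78.YU

theorem card_le_cm {G : Type*} [Group G] [Finite G] (U M : Subgroup G) (x : G)
    (h : ∀ u ∈ U, u * x * u⁻¹ * x⁻¹ ∈ M) :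
    Nat.card U ≤ Nat.card M * Nat.card (U ⊓ Cz x : Subgroup G) := by
  let f : U → M := fun u => ⟨u.1 * x * u.1⁻¹ * x⁻¹, h u.1 u.2⟩
  let s : M → U := Function.invFun f
  have hs : ∀ u, f (s (f u)) = f u := fun u => Function.invFun_eq ⟨u, rfl⟩
  have hm : ∀ u : U, ((s (f u)).1)⁻¹ * u.1 ∈ (U ⊓ Cz x : Subgroup G) := fun u => by
    refine mem_inf.2 ⟨U.mul_mem (U.inv_mem (s (f u)).2) u.2, H64.SG.mem_Cz.2 ?_⟩
    have e : (s (f u)).1 * x * (s (f u)).1⁻¹ * x⁻¹ = u.1 * x * u.1⁻¹ * x⁻¹ :=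
      congrArg Subtype.val (hs u)
    generalize (s (f u)).1 = t at e
    have e2 : t * x * t⁻¹ = u.1 * x * u.1⁻¹ := mul_right_cancel e
    calc x * (t⁻¹ * u.1) = t⁻¹ * (t * x * t⁻¹) * u.1 := by group
      _ = t⁻¹ * u.1 * x := by rw [e2]; group
  rw [← Nat.card_prod]
  refine Nat.card_le_card_of_injective (fun u => (f u, (⟨_, hm u⟩ : (U ⊓ Cz x : Subgroup G))))
    fun a b e => ?_
  have e1 : f a = f b := congrArg Prod.fst e
  have e2 : ((s (f a)).1)⁻¹ * a.1 = ((s (f b)).1)⁻¹ * b.1 :=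
    congrArg (fun p : M × (U ⊓ Cz x : Subgroup G) => p.2.1) e
  rw [e1] at e2
  exact Subtype.ext (mul_left_cancel e2)

variable {m : ℕ} {K : Type} [Field K] [StarRing K] [CharP K 2] [Finite K]

theorem wk_mono {a b : ℕ} (h : a ≤ b) {v : Vn m K} (hv : Wk a v) : Wk b v :=
  fun i hi => hv i (h.trans hi)

theorem wk_add {a : ℕ} {v w : Vn m K} (hv : Wk a v) (hw : Wk a w) : Wk a (v + w) :=
  fun i hi => by rw [Pi.add_apply, hv i hi, hw i hi, add_zero]

theorem wk_top (v : Vn m K) : Wk (m + 1) v := fun i hi => absurd i.2 (by omega)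

variable [Par m K]

theorem xk_ac {j : ℕ} (hj : 2 * j ≤ m + 1) (v : Vn m K) (i : Fin (m + 1)) :
    (ac (GA.xk (XU m K) j) v + v) i =
      ∑ b : Fin (m + 1), if i < b ∧ i.val < j ∧ b.val + j = m + 1 + i.val then v b else 0 := by
  have h := (base m K).xk_val j hj
  have h2 : mt (GA.xk (XU m K) j) = 1 + of fun a b : Fin (m + 1) =>
      if a < b ∧ a.val < j ∧ b.val + j = m + 1 + a.val then (1 : K) else 0 := by
    rw [UA.mt, h]; rfl
  rw [ac, h2, add_mulVec, one_mulVec, add_right_comm, v_add_self, zero_add]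
  simp only [mulVec, dotProduct, of_apply, ite_mul, one_mul, zero_mul]

theorem cm_mem {j k : ℕ} (hj : j ≤ k + 1) (hk : 2 * (k + 1) ≤ m + 1) {u : XU m K}
    (hu : u ∈ GA.UU (XU m K)) :
    u * GA.xk (XU m K) j * u⁻¹ * (GA.xk (XU m K) j)⁻¹ ∈ GA.Mk (XU m K) k := by
  have B := base m K
  set x := GA.xk (XU m K) j with hx
  have ha : ∀ v, Wk (k + 1) (ac x v + v) := fun v i hi => by
    rw [hx, xk_ac (by omega)]
    exact Finset.sum_eq_zero fun b _ => if_neg (by omega)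
  have hb : ∀ v, Wk m v → Wk k (ac x v + v) := fun v hv i hi => by
    rw [hx, xk_ac (by omega)]
    refine Finset.sum_eq_zero fun b _ => ?_
    split_ifs with h
    · exact hv b (by omega)
    · rfl
  have h1 := (B.mem_U u).1 hu
  have h2 := (B.mem_U u⁻¹).1 (inv_mem hu)
  refine (B.mem_M k (by omega) _).2 fun v => ?_
  obtain ⟨w, rfl⟩ : ∃ w, v = ac x w := ⟨ac x⁻¹ v, (ac_ac_inv x v).symm⟩
  rw [ac_mul, ac_mul, ac_mul, ac_inv_ac]
  have hp := h2 m w (wk_top w)
  obtain ⟨p, e⟩ : ∃ p, p = ac u⁻¹ w + w := ⟨_, rfl⟩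
  rw [← e] at hp
  have e1 : ac u⁻¹ w = w + p := by rw [e, add_left_comm, ← add_assoc, add_assoc, v_add_self, add_zero]
  have e2 : ac u w + ac u p = w := by rw [← ac_add, ← e1, ac_ac_inv]
  have e3 : ac u (ac x (ac u⁻¹ w)) + ac x w =
      (ac u (ac x w + w) + (ac x w + w)) + ((ac u (ac x p + p) + (ac x p + p)) + (ac x p + p)) := by
    rw [e1]
    simp only [ac_add]
    ext i
    have := congrFun e2 i
    simp only [Pi.add_apply] at this ⊢
    linear_combination -this - (w i + ac x p i + p i) * two0 K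
  rw [e3]
  exact wk_add (h1 k _ (ha w)) (wk_add (h1 k _ (wk_mono k.le_succ (hb p hp))) (hb p hp))

theorem card_Mk {j : ℕ} (hj : GA.Rg (XU m K) j) :
    Nat.card (GA.Mk (XU m K) j) ≤ qK K ^ (j ^ 2) := by
  have B := base m K
  have hj' := rg_iff.1 hj
  have hle : j ≤ m + 1 := by omega
  obtain ⟨θ, hθ⟩ := Hf.ne (K := K)
  have herm : ∀ g ∈ GA.Mk (XU m K) j, ∀ a b, mt g a b = star (mt g b.rev a.rev) := fun g hg a b => by
    rw [← inv_apply, inv_eq_of_mul_eq_one_right (B.sqM j hj g hg)]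
  have row : ∀ g ∈ GA.Mk (XU m K) j, ∀ a b : Fin (m + 1), j ≤ a.val →
      mt g a b = (ev b : Vn m K) a := fun g hg a b ha => by
    have := (B.mem_M j hj'.2 g).1 hg (ev b) a ha
    rw [Pi.add_apply, ac_ev] at this
    linear_combination this - (ev b : Vn m K) a * two0 K
  have ext : ∀ g ∈ GA.Mk (XU m K) j, ∀ h ∈ GA.Mk (XU m K) j,
      (∀ a b : Fin j, mt g (Fin.castLE hle a) (Fin.castLE hle b).rev =
        mt h (Fin.castLE hle a) (Fin.castLE hle b).rev) → g = h := fun g hg h hh e => by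
    refine X_ext (Matrix.ext fun a b => ?_)
    by_cases ha : j ≤ a.val
    · rw [row g hg a b ha, row h hh a b ha]
    by_cases hb : j ≤ b.rev.val
    · rw [herm g hg, herm h hh, row g hg _ _ hb, row h hh _ _ hb]
    have := e ⟨a.val, by omega⟩ ⟨b.rev.val, by omega⟩
    rwa [show Fin.castLE hle ⟨a.val, by omega⟩ = a from rfl,
      show Fin.castLE hle ⟨b.rev.val, by omega⟩ = b.rev from rfl, Fin.rev_rev] at this
  let F : GA.Mk (XU m K) j × GA.Mk (XU m K) j → Fin j → Fin j → K := fun p a b =>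
    mt p.1.1 (Fin.castLE hle a) (Fin.castLE hle b).rev +
      θ * mt p.2.1 (Fin.castLE hle a) (Fin.castLE hle b).rev
  have hF : Function.Injective F := fun p r e => by
    have e2 : ∀ a b : Fin j, mt p.2.1 (Fin.castLE hle a) (Fin.castLE hle b).rev =
        mt r.2.1 (Fin.castLE hle a) (Fin.castLE hle b).rev := fun a b => by
      have h1 := congrFun (congrFun e a) b
      have h2 := congrArg star (congrFun (congrFun e b) a)
      simp only [F, star_add, star_mul'] at h1 h2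
      have t : ∀ g : GA.Mk (XU m K) j, star (mt g.1 (Fin.castLE hle b) (Fin.castLE hle a).rev) =
          mt g.1 (Fin.castLE hle a) (Fin.castLE hle b).rev := fun g => by
        rw [herm g.1 g.2 (Fin.castLE hle a), Fin.rev_rev]
      rw [t, t, t, t] at h2
      refine mul_left_cancel₀ (sub_ne_zero.2 hθ) ?_
      linear_combination h2 - h1
    have e1 : ∀ a b : Fin j, mt p.1.1 (Fin.castLE hle a) (Fin.castLE hle b).rev =
        mt r.1.1 (Fin.castLE hle a) (Fin.castLE hle b).rev := fun a b => by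
      have h1 := congrFun (congrFun e a) b
      simp only [F] at h1
      rw [e2] at h1
      exact add_right_cancel h1
    exact Prod.ext (Subtype.ext (ext _ p.1.2 _ r.1.2 e1)) (Subtype.ext (ext _ p.2.2 _ r.2.2 e2))
  have h := Nat.card_le_card_of_injective F hF
  rw [Nat.card_prod, Nat.card_fun, Nat.card_fun, Nat.card_eq_fintype_card (α := Fin j),
    Fintype.card_fin, B.card, ← pow_mul, ← pow_mul, ← sq] at h
  refine (Nat.pow_le_pow_iff_left two_ne_zero).1 (h.trans_eq ?_)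
  rw [← pow_mul]; congr 1; ring

theorem arith {k : ℕ} (h5 : 5 ≤ m) (hk : kk m = k + 1) :
    k ^ 2 + ((k + 1) ^ 2 + 1) < SA.NN m := by
  rw [kk] at hk
  rw [SA.NN, Nat.lt_iff_add_one_le, Nat.le_div_iff_mul_le two_pos]
  have h1 : 2 * k + 1 ≤ m := by omega
  have h2 : 2 ≤ k := by omega
  nlinarith [Nat.mul_le_mul (Nat.succ_le_succ h1) h1]

theorem big_xk {j : ℕ} (hj : GA.Rg (XU m K) j) :
    qK K ^ (kk m ^ 2 + 1) < Nat.card (GA.UU (XU m K) ⊓ Cz (GA.xk (XU m K) j) : Subgroup _) := by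
  have B := base m K
  have h5 := Par.five (n := m) (K := K)
  have hj' := rg_iff.1 hj
  obtain ⟨k, hk⟩ : ∃ k, kk m = k + 1 := ⟨kk m - 1, by rw [kk]; omega⟩
  have hk' := hk
  rw [kk] at hk'
  have h1 := card_le_cm (GA.UU (XU m K)) (GA.Mk (XU m K) k) (GA.xk (XU m K) j)
    fun u hu => cm_mem (by omega) (by omega) hu
  have h2 := card_Mk (m := m) (K := K) (j := k) (rg_iff.2 (by omega))
  have h3 := arith h5 hk
  have hq : 2 ≤ qK K := B.q2
  rw [B.cardU, qq_eq, NN_eq] at h1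
  by_contra hc
  have h4 := h1.trans (Nat.mul_le_mul h2 (not_lt.1 hc))
  rw [← pow_add, hk] at h4
  exact absurd ((Nat.pow_le_pow_iff_right (by omega)).1 h4) (by omega)

theorem jobBI : JobBI := by
  intro m K _ _ _ _ _ y hy
  have B := base m K
  obtain ⟨h, j, hj, e⟩ := (iC m K).ic y hy
  refine ⟨(GA.UU (XU m K) ⊓ Cz (GA.xk (XU m K) j)).map (MulAut.conj h⁻¹).toMonoidHom, ?_,
    (B.syl.2.1.to_le inf_le_left).map _, ?_⟩
  · rintro _ ⟨g, hg, rfl⟩
    have h1 := H64.SG.mem_Cz.1 hg.2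
    rw [H64.SG.fx_conj, H64.SG.mem_Cz]
    change y * (h⁻¹ * g * h⁻¹⁻¹) = h⁻¹ * g * h⁻¹⁻¹ * y
    rw [← e] at h1
    calc y * (h⁻¹ * g * h⁻¹⁻¹) = h⁻¹ * (h * y * h⁻¹ * g) * h := by group
      _ = h⁻¹ * g * h⁻¹⁻¹ * y := by rw [h1]; group
  · rw [Subgroup.card_map_of_injective (MulAut.conj h⁻¹).injective]
    exact big_xk hj

end H14.YUBI
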